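import Mathlib.GroupTheory.SpecificGroups.Alternating
import Mathlib.GroupTheory.Sylow
import Mathlib.GroupTheory.Perm.Cycle.Type
import Mathlib.Tactic

set_option autoImplicit false
set_option linter.unusedSectionVars false

/-! Sylow 2-subgroups of symmetric and alternating groups: matchings, self-normalization. -/

namespace H42.SylowTwoPerm

open Equiv

theorem apply_inv' {α : Type*} (g : Perm α) (a : α) : g (g⁻¹ a) = a := g.apply_symm_apply a

theorem inv_apply' {α : Type*} (g : Perm α) (a : α) : g⁻¹ (g a) = a := g.symm_apply_apply a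

/-- for an involutive permutation `μ`, the group of permutations moving every point `a` to `a` or `μ a`. -/
def matchSub {α : Type*} (μ : Perm α) (hμ : ∀ a, μ (μ a) = a) : Subgroup (Perm α) where
  carrier := {g | ∀ a, g a = a ∨ g a = μ a}
  mul_mem' := by
    intro g h hg hh a
    rcases hh a with h1 | h1 <;> rcases hg (h a) with h2 | h2 <;>
      simp only [Perm.mul_apply] <;> rw [h2, h1]
    · exact Or.inl rfl
    · exact Or.inr rfl
    · exact Or.inr rfl
    · left; exact hμ a
  one_mem' := fun a => Or.inl rfl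
  inv_mem' := by
    intro g hg a
    rcases hg (g⁻¹ a) with h | h
    · left
      rw [apply_inv'] at h
      exact h.symm
    · right
      rw [apply_inv'] at h
      have h2 := hμ (g⁻¹ a)
      rw [← h] at h2
      exact h2.symm

theorem mem_matchSub {α : Type*} {μ : Perm α} {hμ : ∀ a, μ (μ a) = a} {g : Perm α} :
    g ∈ matchSub μ hμ ↔ ∀ a, g a = a ∨ g a = μ a := Iff.rfl

theorem matchSub_apply_apply {α : Type*} {μ : Perm α} {hμ : ∀ a, μ (μ a) = a} {g : Perm α}
    (hg : g ∈ matchSub μ hμ) (a : α) : g (g a) = a := by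
  rw [mem_matchSub] at hg
  rcases hg a with h | h
  · rw [h, h]
  · rw [h]
    rcases hg (μ a) with h2 | h2
    · have : μ a = a := g.injective (h2.trans h.symm)
      rw [h2, this]
    · rw [h2, hμ]

theorem matchSub_isPGroup {α : Type*} (μ : Perm α) (hμ : ∀ a, μ (μ a) = a) :
    IsPGroup 2 (matchSub μ hμ) := by
  rw [isPGroup_iff_pow_pow_eq_one]
  rintro ⟨g, hg⟩
  refine ⟨1, ?_⟩
  ext a
  simp only [pow_one, OneMemClass.coe_one, Perm.coe_one, id_eq, pow_two]
  exact matchSub_apply_apply hg a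

theorem swap_mem_matchSub {α : Type*} [DecidableEq α] (μ : Perm α) (hμ : ∀ a, μ (μ a) = a) (a : α) :
    swap a (μ a) ∈ matchSub μ hμ := by
  rw [mem_matchSub]
  intro b
  rw [swap_apply_def]
  split_ifs with h1 h2
  · right; rw [h1]
  · right; rw [h2, hμ]
  · left; rfl

/-- In a 2-group of permutations two swaps sharing a point agree. -/
theorem swap_unique {α : Type*} [DecidableEq α] [Fintype α] {P : Subgroup (Perm α)} (hP : IsPGroup 2 P)
    {a b c : α} (hab : a ≠ b) (hac : a ≠ c) (h1 : swap a b ∈ P) (h2 : swap a c ∈ P) : b = c := by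
  by_contra hbc
  have h3 : Perm.IsThreeCycle (swap a b * swap a c) := Perm.isThreeCycle_swap_mul_swap_same hab hac hbc
  have h4 : orderOf (swap a b * swap a c) = 3 := h3.orderOf
  have h5 := mul_mem h1 h2
  obtain ⟨k, hk⟩ := (IsPGroup.iff_orderOf.mp hP) ⟨_, h5⟩
  rw [Subgroup.orderOf_mk] at hk
  rw [h4] at hk
  have : (3 : ℕ) ∣ 2 ^ k := by rw [← hk]
  have := Nat.Prime.dvd_of_dvd_pow Nat.prime_three this
  omega

/-- conjugating a swap -/
theorem conj_swap {α : Type*} [DecidableEq α] (g : Perm α) (a b : α) :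
    g * swap a b * g⁻¹ = swap (g a) (g b) := by
  rw [Equiv.mul_swap_eq_swap_mul]
  simp [mul_assoc]

/-- The data of a near perfect matching all of whose swaps lie in `P`. -/
structure IsMatch {α : Type*} [DecidableEq α] (P : Subgroup (Perm α)) (μ : Perm α) : Prop where
  invol : ∀ a, μ (μ a) = a
  fix : ∀ a b, μ a = a → μ b = b → a = b
  mem : ∀ a, swap a (μ a) ∈ P

theorem IsMatch.eq_of_swap_mem {α : Type*} [DecidableEq α] [Fintype α] {P : Subgroup (Perm α)} {μ : Perm α}
    (hμ : IsMatch P μ) (hP : IsPGroup 2 P) {c d : α} (hcd : c ≠ d) (h : swap c d ∈ P) : μ c = d := by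
  by_cases h1 : μ c = c
  · have h2 : μ d ≠ d := fun h2 => hcd (hμ.fix c d h1 h2)
    have h3 : swap d c ∈ P := by rwa [swap_comm]
    have h4 := swap_unique hP h2.symm (Ne.symm hcd) (hμ.mem d) h3
    rw [← h4, hμ.invol]
  · exact swap_unique hP (Ne.symm h1) hcd (hμ.mem c) h

/-- An element normalizing a 2-group with a match commutes with the match. -/
theorem IsMatch.comm_of_normalizes {α : Type*} [DecidableEq α] [Fintype α] {P : Subgroup (Perm α)}
    {μ : Perm α} (hμ : IsMatch P μ) (hP : IsPGroup 2 P) {x : Perm α}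
    (hx : ∀ g, g ∈ P ↔ x * g * x⁻¹ ∈ P) (a : α) : x (μ a) = μ (x a) := by
  by_cases h1 : μ a = a
  · rw [h1]
    by_contra h2
    have h3 : swap (x a) (μ (x a)) ∈ P := hμ.mem _
    have h4 : swap a (x⁻¹ (μ (x a))) ∈ P := by
      rw [hx, conj_swap, apply_inv']
      exact h3
    have h5 : a ≠ x⁻¹ (μ (x a)) := by
      intro h5
      apply h2
      conv_lhs => rw [h5]
      rw [apply_inv']
    have h6 := hμ.eq_of_swap_mem hP h5 h4
    apply h5
    rw [← h6, h1]
  · have h2 : swap (x a) (x (μ a)) ∈ P := by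
      rw [← conj_swap, ← hx]
      exact hμ.mem a
    have h3 : x a ≠ x (μ a) := fun h => h1 (x.injective h.symm)
    exact (hμ.eq_of_swap_mem hP h3 h2).symm

theorem mem_of_conj_mem {G : Type*} [Group G] [Finite G] {P : Subgroup G} {x : G}
    (hx : ∀ g ∈ P, x * g * x⁻¹ ∈ P) : ∀ g, g ∈ P ↔ x * g * x⁻¹ ∈ P := by
  have h1 : P.map (MulAut.conj x).toMonoidHom ≤ P := by
    rintro _ ⟨g, hg, rfl⟩
    exact hx g hg
  have h2 : P.map (MulAut.conj x).toMonoidHom = P := by
    apply Subgroup.eq_of_le_of_card_ge h1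
    rw [Subgroup.card_map_of_injective (MulAut.conj x).injective]
  intro g
  refine ⟨hx g, fun h => ?_⟩
  rw [← h2] at h
  obtain ⟨g', hg', h3⟩ := h
  have : g' = g := by
    have h4 : x * g' * x⁻¹ = x * g * x⁻¹ := h3
    simpa using h4
  rwa [← this]

theorem IsMatch.comm_of_mem {α : Type*} [DecidableEq α] [Fintype α] {P : Subgroup (Perm α)}
    {μ : Perm α} (hμ : IsMatch P μ) (hP : IsPGroup 2 P) {x : Perm α} (hx : x ∈ P) (a : α) :
    x (μ a) = μ (x a) :=
  hμ.comm_of_normalizes hP (mem_of_conj_mem (fun _ hg => P.mul_mem (P.mul_mem hx hg) (P.inv_mem hx))) a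

theorem IsMatch.conj {α : Type*} [DecidableEq α] {P : Subgroup (Perm α)}
    {μ : Perm α} (hμ : IsMatch P μ) (g : Perm α) :
    IsMatch (P.map (MulAut.conj g).toMonoidHom) (g * μ * g⁻¹) where
  invol a := by simp [hμ.invol]
  fix a b ha hb := by
    simp only [Perm.mul_apply] at ha hb
    have h1 : μ (g⁻¹ a) = g⁻¹ a := by rw [Perm.eq_inv_iff_eq, ha]
    have h2 : μ (g⁻¹ b) = g⁻¹ b := by rw [Perm.eq_inv_iff_eq, hb]
    have := hμ.fix _ _ h1 h2
    exact (g⁻¹).injective this
  mem a := by
    refine ⟨swap (g⁻¹ a) (μ (g⁻¹ a)), hμ.mem _, ?_⟩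
    change g * swap (g⁻¹ a) (μ (g⁻¹ a)) * g⁻¹ = _
    rw [conj_swap]
    simp

/-- a fixed near perfect matching on any finite type -/
theorem exists_involution (α : Type*) [Fintype α] : ∃ μ : Perm α, (∀ a, μ (μ a) = a) ∧
    (∀ a b, μ a = a → μ b = b → a = b) := by
  let e := Fintype.equivFin α
  refine ⟨(e.trans Fin.revPerm).trans e.symm, ?_, ?_⟩
  · intro a
    simp [Fin.revPerm]
  · intro a b ha hb
    have h1 : Fin.rev (e a) = e a := by
      have := congrArg e ha
      simpa [Fin.revPerm] using this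
    have h2 : Fin.rev (e b) = e b := by
      have := congrArg e hb
      simpa [Fin.revPerm] using this
    apply e.injective
    rw [Fin.ext_iff] at *
    rw [Fin.val_rev] at h1 h2
    have := (e a).2
    have := (e b).2
    omega

/-- every Sylow 2-subgroup of a finite symmetric group contains the swaps of a near perfect matching. -/
theorem exists_isMatch {α : Type*} [DecidableEq α] [Fintype α] (P : Sylow 2 (Perm α)) :
    ∃ μ : Perm α, IsMatch (P : Subgroup (Perm α)) μ := by
  obtain ⟨μ, h1, h2⟩ := exists_involution α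
  obtain ⟨Q, hQ⟩ := (matchSub_isPGroup μ h1).exists_le_sylow
  have hm : IsMatch (Q : Subgroup (Perm α)) μ := ⟨h1, h2, fun a => hQ (swap_mem_matchSub μ h1 a)⟩
  obtain ⟨g, hg⟩ := MulAction.exists_smul_eq (Perm α) Q P
  refine ⟨g * μ * g⁻¹, ?_⟩
  have := hm.conj g
  rw [← hg]
  exact this

/-! ### self-normalization in symmetric groups -/

section explicit

variable {β γ : Type*} [DecidableEq β] [DecidableEq γ] [Fintype β] [Fintype γ]

/-- the standard matching on `β × Bool ⊕ γ` -/
def stdMatch (β γ : Type*) : Perm ((β × Bool) ⊕ γ) where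
  toFun := Sum.elim (fun p => Sum.inl (p.1, !p.2)) Sum.inr
  invFun := Sum.elim (fun p => Sum.inl (p.1, !p.2)) Sum.inr
  left_inv := by rintro (⟨b, s⟩ | c) <;> simp
  right_inv := by rintro (⟨b, s⟩ | c) <;> simp

@[simp] theorem stdMatch_inl (b : β) (s : Bool) : stdMatch β γ (Sum.inl (b, s)) = Sum.inl (b, !s) := rfl
@[simp] theorem stdMatch_inr (c : γ) : stdMatch β γ (Sum.inr c) = Sum.inr c := rfl

theorem stdMatch_invol (a : (β × Bool) ⊕ γ) : stdMatch β γ (stdMatch β γ a) = a := by
  rcases a with (⟨b, s⟩ | c) <;> simp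

/-- lift of permutations of the pairs -/
def lift (β γ : Type*) : Perm β →* Perm ((β × Bool) ⊕ γ) where
  toFun σ := Equiv.sumCongr (Equiv.prodCongr σ (Equiv.refl Bool)) (Equiv.refl γ)
  map_one' := by ext (⟨b, s⟩ | c) <;> simp
  map_mul' := by intro σ τ; ext (⟨b, s⟩ | c) <;> simp

@[simp] theorem lift_inl (σ : Perm β) (b : β) (s : Bool) : lift β γ σ (Sum.inl (b, s)) = Sum.inl (σ b, s) := rfl
@[simp] theorem lift_inr (σ : Perm β) (c : γ) : lift β γ σ (Sum.inr c) = Sum.inr c := rfl

theorem lift_injective : Function.Injective (lift β γ) := by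
  intro σ τ h
  ext b
  have := congrArg (fun g : Perm ((β × Bool) ⊕ γ) => g (Sum.inl (b, false))) h
  simpa using this

theorem exists_decomp [Subsingleton γ] {x : Perm ((β × Bool) ⊕ γ)}
    (hx : ∀ a, x (stdMatch β γ a) = stdMatch β γ (x a)) :
    ∃ σ : Perm β, ∃ e ∈ matchSub (stdMatch β γ) stdMatch_invol, x = e * lift β γ σ := by
  have h1 : ∀ b : β, ∃ b' : β, ∃ s' : Bool, x (Sum.inl (b, false)) = Sum.inl (b', s') := by
    intro b
    rcases h : x (Sum.inl (b, false)) with ⟨b', s'⟩ | c
    · exact ⟨b', s', rfl⟩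
    · exfalso
      have h2 := hx (Sum.inl (b, false))
      rw [h, stdMatch_inr, stdMatch_inl, ← h] at h2
      have := x.injective h2
      simp at this
  choose f s hf using h1
  have hf' : ∀ b, x (Sum.inl (b, true)) = Sum.inl (f b, !(s b)) := by
    intro b
    have h2 := hx (Sum.inl (b, false))
    rw [hf, stdMatch_inl, stdMatch_inl] at h2
    exact h2
  have hinj : Function.Injective f := by
    intro b1 b2 h
    have e1 := hf b1
    have e2 := hf b2
    have e3 := hf' b1
    rw [h] at e1 e3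
    by_cases hs : s b1 = s b2
    · rw [hs, ← e2] at e1
      have := x.injective e1
      simpa using this
    · have hs' : (!(s b1)) = s b2 := by
        cases h1 : s b1 <;> cases h2 : s b2 <;> simp_all
      rw [hs', ← e2] at e3
      have := x.injective e3
      simp at this
  have hr : ∀ c, x (Sum.inr c) = Sum.inr c := by
    intro c
    rcases h : x (Sum.inr c) with ⟨b', s'⟩ | c'
    · exfalso
      have h2 := hx (Sum.inr c)
      rw [stdMatch_inr, h, stdMatch_inl] at h2
      simp at h2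
    · rw [Subsingleton.elim c' c]
  let σ : Perm β := Equiv.ofBijective f (Finite.injective_iff_bijective.mp hinj)
  have hσ : ∀ b, σ b = f b := fun b => rfl
  refine ⟨σ, x * (lift β γ σ)⁻¹, ?_, by simp⟩
  rw [mem_matchSub]
  intro a
  obtain ⟨a', rfl⟩ := (lift β γ σ).surjective a
  rw [Perm.mul_apply, inv_apply']
  rcases a' with ⟨b, t⟩ | c
  · rw [lift_inl, hσ]
    cases t
    · rw [hf]
      cases s b <;> simp
    · rw [hf']
      cases s b <;> simp
  · left; rw [hr]; rfl

theorem lift_normalizes (σ : Perm β) {e : Perm ((β × Bool) ⊕ γ)}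
    (he : e ∈ matchSub (stdMatch β γ) stdMatch_invol) :
    lift β γ σ * e * (lift β γ σ)⁻¹ ∈ matchSub (stdMatch β γ) stdMatch_invol := by
  rw [mem_matchSub] at he ⊢
  intro a
  obtain ⟨a', rfl⟩ := (lift β γ σ).surjective a
  rw [Perm.mul_apply, inv_apply', Perm.mul_apply]
  rcases he a' with h | h
  · left; rw [h]
  · right; rw [h]
    rcases a' with ⟨b, t⟩ | c <;> rfl

end explicit

/-- In a finite symmetric group, a Sylow 2-subgroup is self-normalizing. -/
theorem selfNorm_aux (n : ℕ) : ∀ (α : Type) [Fintype α] [DecidableEq α], Fintype.card α = n →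
    ∀ P : Sylow 2 (Perm α), ∀ x : Perm α, (∀ g ∈ P, x * g * x⁻¹ ∈ P) → x ∈ P := by
  induction n using Nat.strong_induction_on with
  | _ n ih =>
  intro α _ _ hα P x hx
  by_cases hn : n ≤ 1
  · have : Subsingleton α := by
      rw [← Fintype.card_le_one_iff_subsingleton]; omega
    have : x = 1 := Subsingleton.elim _ _
    rw [this]; exact one_mem P
  push Not at hn
  -- explicit model
  have : Subsingleton (Fin (n % 2)) := by
    rw [Fin.subsingleton_iff_le_one]; omega
  have hcard : Fintype.card α = Fintype.card ((Fin (n / 2) × Bool) ⊕ Fin (n % 2)) := by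
    simp only [Fintype.card_sum, Fintype.card_prod, Fintype.card_fin, Fintype.card_bool]
    omega
  let β := Fin (n / 2)
  let γ := Fin (n % 2)
  let e : α ≃ (β × Bool) ⊕ γ := Fintype.equivOfCardEq hcard
  obtain ⟨P0, hP0⟩ := (matchSub_isPGroup (stdMatch β γ) stdMatch_invol).exists_le_sylow
  -- the claim for P0
  have hm : IsMatch (P0 : Subgroup (Perm ((β × Bool) ⊕ γ))) (stdMatch β γ) := by
    refine ⟨stdMatch_invol, ?_, fun a => hP0 (swap_mem_matchSub _ _ a)⟩
    rintro (⟨b, s⟩ | c) (⟨b', s'⟩ | c') h1 h2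
    · simp at h1
    · simp at h1
    · simp at h2
    · rw [Subsingleton.elim c c']
  have key : ∀ y : Perm ((β × Bool) ⊕ γ), (∀ g ∈ P0, y * g * y⁻¹ ∈ P0) → y ∈ P0 := by
    intro y hy
    have hdec : ∀ g ∈ P0, ∃ σ : Perm β, ∃ e ∈ matchSub (stdMatch β γ) stdMatch_invol, g = e * lift β γ σ :=
      fun g hg => exists_decomp (hm.comm_of_mem P0.isPGroup' hg)
    obtain ⟨σ, e, he, rfl⟩ := exists_decomp (hm.comm_of_normalizes P0.isPGroup' (mem_of_conj_mem hy))
    -- Q
    let Q : Subgroup (Perm β) := (P0 : Subgroup (Perm ((β × Bool) ⊕ γ))).comap (lift β γ)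
    have hQ2 : IsPGroup 2 Q := P0.isPGroup'.comap_of_injective _ lift_injective
    have hQmax : ∀ {R : Subgroup (Perm β)}, IsPGroup 2 R → Q ≤ R → R = Q := by
      intro R hR hQR
      apply le_antisymm _ hQR
      have h1 : IsPGroup 2 ((R.map (lift β γ) ⊔ matchSub (stdMatch β γ) stdMatch_invol :
          Subgroup (Perm ((β × Bool) ⊕ γ)))) := by
        apply IsPGroup.to_sup_of_normal_right' (hR.map _) (matchSub_isPGroup _ _)
        rintro _ ⟨r, hr, rfl⟩
        rw [Subgroup.mem_normalizer_iff]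
        exact mem_of_conj_mem (fun _ hg => lift_normalizes r hg)
      have h2 : (P0 : Subgroup (Perm ((β × Bool) ⊕ γ))) ≤
          R.map (lift β γ) ⊔ matchSub (stdMatch β γ) stdMatch_invol := by
        intro g hg
        obtain ⟨σ, e, he, rfl⟩ := hdec g hg
        apply mul_mem
        · exact Subgroup.mem_sup_right he
        · apply Subgroup.mem_sup_left
          refine ⟨σ, hQR ?_, rfl⟩
          change lift β γ σ ∈ (P0 : Subgroup (Perm ((β × Bool) ⊕ γ)))
          have := mul_mem (inv_mem (hP0 he)) hg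
          simpa using this
      have h3 := P0.is_maximal' h1 h2
      intro r hr
      change lift β γ r ∈ (P0 : Subgroup (Perm ((β × Bool) ⊕ γ)))
      rw [← h3]
      exact Subgroup.mem_sup_left ⟨r, hr, rfl⟩
    let Q' : Sylow 2 (Perm β) := ⟨Q, hQ2, hQmax⟩
    have hσ : σ ∈ Q' := by
      apply ih (n / 2) (by omega) β (Fintype.card_fin _) Q' σ
      intro q hq
      change lift β γ (σ * q * σ⁻¹) ∈ P0
      have h1 : lift β γ q ∈ P0 := hq
      have h2 := hy _ h1
      have h3 := mul_mem (mul_mem (inv_mem (hP0 he)) h2) (hP0 he)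
      rw [map_mul, map_mul, map_inv]
      have h4 : e⁻¹ * (e * lift β γ σ * lift β γ q * (e * lift β γ σ)⁻¹) * e =
        lift β γ σ * lift β γ q * (lift β γ σ)⁻¹ := by group
      rw [← h4]
      exact h3
    exact mul_mem (hP0 he) hσ
  -- transport
  let φ : Perm α ≃* Perm ((β × Bool) ⊕ γ) := e.permCongrHom
  let P1 : Sylow 2 (Perm ((β × Bool) ⊕ γ)) := P.mapSurjective (f := φ.toMonoidHom) φ.surjective
  have hmem : ∀ g, g ∈ P ↔ φ g ∈ P1 := by
    intro g
    change _ ↔ φ g ∈ (P : Subgroup (Perm α)).map φ.toMonoidHom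
    constructor
    · intro h; exact ⟨g, h, rfl⟩
    · rintro ⟨g', h, h'⟩
      rwa [← φ.injective h']
  obtain ⟨k, hk⟩ := MulAction.exists_smul_eq (Perm ((β × Bool) ⊕ γ)) P0 P1
  have hmem2 : ∀ g, g ∈ P1 ↔ k⁻¹ * g * k ∈ P0 := by
    intro g
    rw [← hk]
    change g ∈ (P0 : Subgroup (Perm ((β × Bool) ⊕ γ))).map (MulAut.conj k).toMonoidHom ↔ _
    constructor
    · rintro ⟨g', h, rfl⟩
      change k⁻¹ * (k * g' * k⁻¹) * k ∈ P0
      have : k⁻¹ * (k * g' * k⁻¹) * k = g' := by group
      rw [this]; exact h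
    · intro h
      refine ⟨_, h, ?_⟩
      change k * (k⁻¹ * g * k) * k⁻¹ = g
      group
  rw [hmem, hmem2]
  apply key
  intro g hg
  have h1 : φ.symm (k * g * k⁻¹) ∈ P := by
    rw [hmem, MulEquiv.apply_symm_apply, hmem2]
    have : k⁻¹ * (k * g * k⁻¹) * k = g := by group
    rw [this]; exact hg
  have h2 := hx _ h1
  rw [hmem, map_mul, map_mul, map_inv, MulEquiv.apply_symm_apply, hmem2] at h2
  convert h2 using 1
  group

/-- In a finite symmetric group, a Sylow 2-subgroup is self-normalizing. -/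
theorem selfNorm {α : Type} [Fintype α] [DecidableEq α] (P : Sylow 2 (Perm α)) {x : Perm α}
    (hx : ∀ g ∈ P, x * g * x⁻¹ ∈ P) : x ∈ P := selfNorm_aux _ α rfl P x hx

/-! ### alternating groups -/

section alt

variable {α : Type} [Fintype α] [DecidableEq α]

/-- a Sylow 2-subgroup of the alternating group is the even part of a Sylow 2-subgroup of the symmetric group -/
theorem exists_sylow_perm (S : Sylow 2 (alternatingGroup α)) : ∃ P : Sylow 2 (Perm α),
    ∀ g : alternatingGroup α, g ∈ S ↔ (g : Perm α) ∈ P := by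
  have h1 : IsPGroup 2 ((S : Subgroup (alternatingGroup α)).map (alternatingGroup α).subtype) :=
    S.isPGroup'.map _
  obtain ⟨P, hP⟩ := h1.exists_le_sylow
  refine ⟨P, ?_⟩
  have h2 : IsPGroup 2 ((P : Subgroup (Perm α)).comap (alternatingGroup α).subtype) :=
    P.isPGroup'.comap_of_injective _ Subtype.val_injective
  have h3 : (S : Subgroup (alternatingGroup α)) ≤ (P : Subgroup (Perm α)).comap (alternatingGroup α).subtype := by
    intro g hg
    exact hP ⟨g, hg, rfl⟩
  have h4 := S.is_maximal' h2 h3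
  intro g
  change g ∈ (S : Subgroup (alternatingGroup α)) ↔ _
  rw [← h4]
  exact Iff.rfl

theorem swap_swap_mem_alt {a b c d : α} (hab : a ≠ b) (hcd : c ≠ d) :
    swap a b * swap c d ∈ alternatingGroup α := by
  rw [Perm.mem_alternatingGroup, map_mul, Perm.sign_swap hab, Perm.sign_swap hcd]
  rfl

/-- three moved pairs -/
theorem exists_other_pairs {μ : Perm α} (hfix : ∀ a b, μ a = a → μ b = b → a = b)
    (h6 : 6 ≤ Fintype.card α) (a : α) :
    ∃ c e : α, μ c ≠ c ∧ μ e ≠ e ∧ c ≠ a ∧ c ≠ μ a ∧ e ≠ a ∧ e ≠ μ a ∧ e ≠ c ∧ e ≠ μ c := by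
  classical
  -- the set of fixed points has at most one element
  have hfx : (Finset.univ.filter (fun x => μ x = x)).card ≤ 1 := by
    rw [Finset.card_le_one]
    intro x hx y hy
    simp only [Finset.mem_filter, Finset.mem_univ, true_and] at hx hy
    exact hfix x y hx hy
  have h1 : ∃ c, c ∉ (Finset.univ.filter (fun x => μ x = x)) ∪ {a, μ a} := by
    by_contra hcon
    push Not at hcon
    have : Finset.univ ⊆ (Finset.univ.filter (fun x => μ x = x)) ∪ {a, μ a} := fun x _ => hcon x
    have h2 := Finset.card_le_card this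
    have h3 := Finset.card_union_le (Finset.univ.filter (fun x => μ x = x)) {a, μ a}
    have h4 : ({a, μ a} : Finset α).card ≤ 2 := Finset.card_le_two
    rw [Finset.card_univ] at h2
    omega
  obtain ⟨c, hc⟩ := h1
  have h1 : ∃ e, e ∉ (Finset.univ.filter (fun x => μ x = x)) ∪ ({a, μ a} ∪ {c, μ c}) := by
    by_contra hcon
    push Not at hcon
    have : Finset.univ ⊆ (Finset.univ.filter (fun x => μ x = x)) ∪ ({a, μ a} ∪ {c, μ c}) := fun x _ => hcon x
    have h2 := Finset.card_le_card this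
    have h3 := Finset.card_union_le (Finset.univ.filter (fun x => μ x = x)) ({a, μ a} ∪ {c, μ c})
    have h4 : ({a, μ a} : Finset α).card ≤ 2 := Finset.card_le_two
    have h4' : ({c, μ c} : Finset α).card ≤ 2 := Finset.card_le_two
    have h5 := Finset.card_union_le ({a, μ a} : Finset α) {c, μ c}
    rw [Finset.card_univ] at h2
    omega
  obtain ⟨e, he⟩ := h1
  simp only [Finset.mem_union, Finset.mem_filter, Finset.mem_univ, true_and, Finset.mem_insert,
    Finset.mem_singleton, not_or] at hc he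
  exact ⟨c, e, hc.1, he.1, hc.2.1, hc.2.2, he.2.1.1, he.2.1.2, he.2.2.1, he.2.2.2⟩

/-- the even part determines the matching, in degree at least 6 -/
theorem match_unique {P P' : Subgroup (Perm α)} {μ μ' : Perm α} (hP : IsMatch P μ) (hP' : IsMatch P' μ')
    (h6 : 6 ≤ Fintype.card α) (hP2 : IsPGroup 2 P')
    (hle : ∀ g ∈ P, g ∈ alternatingGroup α → g ∈ P') (a : α) (ha : μ a ≠ a) : μ' a = μ a := by
  by_contra hne
  obtain ⟨c, e, hc, he, hca, hcb, hea, heb, hec, hed⟩ := exists_other_pairs hP.fix h6 a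
  have ht : swap a (μ a) * swap c (μ c) ∈ P' :=
    hle _ (mul_mem (hP.mem a) (hP.mem c)) (swap_swap_mem_alt (Ne.symm ha) (Ne.symm hc))
  have ht' : swap a (μ a) * swap e (μ e) ∈ P' :=
    hle _ (mul_mem (hP.mem a) (hP.mem e)) (swap_swap_mem_alt (Ne.symm ha) (Ne.symm he))
  have h1 := hP'.comm_of_mem hP2 ht a
  have h2 := hP'.comm_of_mem hP2 ht' a
  have hda : μ c ≠ a := fun h => hcb (by rw [← h, hP.invol])
  have hdb : μ c ≠ μ a := fun h => hca (μ.injective h)
  have hfa : μ e ≠ a := fun h => heb (by rw [← h, hP.invol])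
  have hfb : μ e ≠ μ a := fun h => hea (μ.injective h)
  have hfc : μ e ≠ c := fun h => hed (by rw [← h, hP.invol])
  have hfd : μ e ≠ μ c := fun h => hec (μ.injective h)
  have e1 : (swap a (μ a) * swap c (μ c)) a = μ a := by
    rw [Perm.mul_apply, swap_apply_of_ne_of_ne (Ne.symm hca) (Ne.symm hda), swap_apply_left]
  have e2 : (swap a (μ a) * swap e (μ e)) a = μ a := by
    rw [Perm.mul_apply, swap_apply_of_ne_of_ne (Ne.symm hea) (Ne.symm hfa), swap_apply_left]
  rw [e1] at h1
  rw [e2] at h2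
  -- now t (μ' a) = μ' (μ a) = t' (μ' a)
  have hy : μ' a = a := by
    by_contra hy
    -- μ' a ∉ {a, μ a}; so swap a (μ a) fixes it
    have hcase : (swap c (μ c)) (μ' a) = (swap e (μ e)) (μ' a) := by
      rw [← h2, Perm.mul_apply, Perm.mul_apply] at h1
      exact (swap a (μ a)).injective h1
    by_cases hyc : μ' a = c ∨ μ' a = μ c
    · have : (swap e (μ e)) (μ' a) = μ' a := by
        rcases hyc with h | h <;> rw [h]
        · exact swap_apply_of_ne_of_ne (Ne.symm hec) (Ne.symm hfc)
        · exact swap_apply_of_ne_of_ne (Ne.symm hed) (Ne.symm hfd)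
      rw [this] at hcase
      rcases hyc with h | h <;> rw [h] at hcase
      · rw [swap_apply_left] at hcase; exact hc hcase
      · rw [swap_apply_right] at hcase; exact hc hcase.symm
    · push Not at hyc
      have h3 : (swap a (μ a) * swap c (μ c)) (μ' a) = μ' a := by
        rw [Perm.mul_apply, swap_apply_of_ne_of_ne hyc.1 hyc.2, swap_apply_of_ne_of_ne hy hne]
      rw [h3] at h1
      exact ha (μ'.injective h1).symm
  rw [hy] at h1
  rw [e1] at h1
  -- μ' fixes a and μ a
  exact ha (hP'.fix _ _ hy h1.symm).symm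

/-- In an alternating group of degree at least 6, a Sylow 2-subgroup is self-normalizing. -/
theorem selfNorm_alt (h6 : 6 ≤ Fintype.card α) (S : Sylow 2 (alternatingGroup α)) {x : Perm α}
    (hx : ∀ g : alternatingGroup α, g ∈ S → ∃ g' : alternatingGroup α, g' ∈ S ∧ (g' : Perm α) = x * g * x⁻¹) :
    ∃ P : Sylow 2 (Perm α), (∀ g : alternatingGroup α, g ∈ S ↔ (g : Perm α) ∈ P) ∧ x ∈ P := by
  obtain ⟨P, hP⟩ := exists_sylow_perm S
  refine ⟨P, hP, ?_⟩
  obtain ⟨μ, hμ⟩ := exists_isMatch P
  have hcon := hμ.conj x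
  have hp2 : IsPGroup 2 ((P : Subgroup (Perm α)).map (MulAut.conj x).toMonoidHom) := P.isPGroup'.map _
  -- even part of P lies in conjugate of P
  have hS : ∀ g : alternatingGroup α, g ∈ S → (x⁻¹ * (g : Perm α) * x) ∈ P := by
    -- use finiteness
    let ψ : MulAut (alternatingGroup α) := MulAut.conjNormal x
    have hψ : ∀ g : alternatingGroup α, ((ψ g : alternatingGroup α) : Perm α) = x * g * x⁻¹ := by
      intro g; rfl
    have hle : (S : Subgroup (alternatingGroup α)).map ψ.toMonoidHom ≤ S := by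
      rintro _ ⟨g, hg, rfl⟩
      obtain ⟨g', hg', h⟩ := hx g hg
      have : ψ.toMonoidHom g = g' := Subtype.ext h.symm
      rw [this]; exact hg'
    have heq : (S : Subgroup (alternatingGroup α)).map ψ.toMonoidHom = S := by
      apply Subgroup.eq_of_le_of_card_ge hle
      rw [Subgroup.card_map_of_injective (f := ψ.toMonoidHom) ψ.injective]
    intro g hg
    change g ∈ (S : Subgroup (alternatingGroup α)) at hg
    rw [← heq] at hg
    obtain ⟨g', hg', h⟩ := hg
    have h2 : ((ψ g' : alternatingGroup α) : Perm α) = g := congrArg Subtype.val h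
    rw [hψ] at h2
    rw [← h2]
    have h3 : x⁻¹ * (x * (g' : Perm α) * x⁻¹) * x = g' := by group
    rw [h3]
    exact (hP g').1 hg'
  have hle1 : ∀ g ∈ (P : Subgroup (Perm α)), g ∈ alternatingGroup α →
      g ∈ (P : Subgroup (Perm α)).map (MulAut.conj x).toMonoidHom := by
    intro g hg hga
    refine ⟨x⁻¹ * g * x, hS ⟨g, hga⟩ ((hP ⟨g, hga⟩).2 hg), ?_⟩
    change x * (x⁻¹ * g * x) * x⁻¹ = g
    group
  have hmm : ∀ a, μ a ≠ a → (x * μ * x⁻¹) a = μ a :=
    fun a ha => match_unique hμ hcon h6 hp2 hle1 a ha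
  -- a swap of P in the conjugate
  obtain ⟨a, ha⟩ : ∃ a, μ a ≠ a := by
    by_contra h
    push Not at h
    have : Fintype.card α ≤ 1 := by
      rw [Fintype.card_le_one_iff]
      intro a b
      exact hμ.fix a b (h a) (h b)
    omega
  have hsw : swap a (μ a) ∈ (P : Subgroup (Perm α)).map (MulAut.conj x).toMonoidHom := by
    have := hcon.mem a
    rw [hmm a ha] at this
    exact this
  -- now P ≤ conj P
  have hle2 : (P : Subgroup (Perm α)) ≤ (P : Subgroup (Perm α)).map (MulAut.conj x).toMonoidHom := by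
    intro g hg
    rcases Int.units_eq_one_or (Perm.sign g) with h | h
    · exact hle1 g hg (Perm.mem_alternatingGroup.2 h)
    · have h2 : g * swap a (μ a) ∈ alternatingGroup α := by
        rw [Perm.mem_alternatingGroup, map_mul, h, Perm.sign_swap (Ne.symm ha)]; rfl
      have h3 := hle1 _ (mul_mem hg (hμ.mem a)) h2
      have h4 := mul_mem h3 hsw
      rwa [mul_assoc, swap_mul_self, mul_one] at h4
  have heq : (P : Subgroup (Perm α)) = (P : Subgroup (Perm α)).map (MulAut.conj x).toMonoidHom := by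
    apply Subgroup.eq_of_le_of_card_ge hle2
    rw [Subgroup.card_map_of_injective (MulAut.conj x).injective]
  apply selfNorm P
  intro g hg
  change x * g * x⁻¹ ∈ (P : Subgroup (Perm α))
  rw [heq]
  exact ⟨g, hg, rfl⟩

end alt

end H42.SylowTwoPerm
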