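import Mathlib.GroupTheory.SpecificGroups.Alternating
import Mathlib.GroupTheory.SpecificGroups.Alternating.Simple
import Mathlib.GroupTheory.GroupAction.Jordan
import Mathlib.GroupTheory.Sylow
import Mathlib.Tactic
import Cfsg.Agent.Lib.H42.SylowTwoPerm

set_option autoImplicit false
set_option linter.unusedSectionVars false

/-! Overgroups of Sylow 2-subgroups of symmetric and alternating groups. -/

namespace H42.AltGen

open Equiv MulAction H42.SylowTwoPerm
open scoped Pointwise

variable {α : Type} [Fintype α] [DecidableEq α]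

theorem cyc_apply₁ {x y z : α} (_hxy : x ≠ y) (hxz : x ≠ z) (hyz : y ≠ z) :
    (swap x y * swap x z) x = z := by
  rw [Perm.mul_apply, swap_apply_left, swap_apply_of_ne_of_ne hxz.symm hyz.symm]

theorem cyc_apply₂ {x y z : α} :
    (swap x y * swap x z) z = y := by
  rw [Perm.mul_apply, swap_apply_right, swap_apply_left]

theorem cyc_apply₃ {x y z : α} (hxy : x ≠ y) (hyz : y ≠ z) :
    (swap x y * swap x z) y = x := by
  rw [Perm.mul_apply, swap_apply_of_ne_of_ne hxy.symm hyz, swap_apply_right]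

theorem cyc_apply_of_ne {x y z w : α} (hx : w ≠ x) (hy : w ≠ y) (hz : w ≠ z) :
    (swap x y * swap x z) w = w := by
  rw [Perm.mul_apply, swap_apply_of_ne_of_ne hx hz, swap_apply_of_ne_of_ne hx hy]

theorem cyc_mem_alt {x y z : α} (hxy : x ≠ y) (hxz : x ≠ z) :
    swap x y * swap x z ∈ alternatingGroup α := swap_swap_mem_alt hxy hxz

/-- a transitive group whose 3-cycles form a connected hypergraph contains the alternating group -/
theorem alt_le_of_connected (K : Subgroup (Perm α)) (htrans : ∀ x y, ∃ g ∈ K, g x = y)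
    (hconn : ∀ D : Set α, D.Nonempty → (∀ x y z, x ≠ y → x ≠ z → y ≠ z → swap x y * swap x z ∈ K →
      x ∈ D → y ∈ D ∧ z ∈ D) → D = Set.univ)
    (hex : ∃ x y z, x ≠ y ∧ x ≠ z ∧ y ≠ z ∧ swap x y * swap x z ∈ K) : alternatingGroup α ≤ K := by
  obtain ⟨x, y, z, hxy, hxz, hyz, hm⟩ := hex
  have : Nonempty α := ⟨x⟩
  have hpt : IsPretransitive K α := ⟨fun x y => by
    obtain ⟨g, hg, h⟩ := htrans x y
    exact ⟨⟨g, hg⟩, h⟩⟩
  have hprim : IsPreprimitive K α := by
    refine { isTrivialBlock_of_isBlock := ?_ }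
    intro D hD
    by_cases hs : D.Subsingleton
    · left; exact hs
    right
    rw [Set.not_subsingleton_iff] at hs
    apply hconn D hs.nonempty
    intro x y z hxy hxz hyz hm hx
    set c : K := ⟨_, hm⟩ with hc
    have c1 : c • x = z := cyc_apply₁ hxy hxz hyz
    have c2 : c • z = y := cyc_apply₂
    have c3 : c • y = x := cyc_apply₃ hxy hyz
    have hz : z ∈ D := by
      by_contra hz
      rcases hD.smul_eq_or_disjoint c with h | h
      · apply hz
        rw [← h, ← c1]
        exact Set.smul_mem_smul_set hx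
      · obtain ⟨w, hw, hwx⟩ := hs.exists_ne x
        have hwz : w ≠ z := fun h => hz (h ▸ hw)
        by_cases hwy : w = y
        · subst hwy
          have : x ∈ c • D := by rw [← c3]; exact Set.smul_mem_smul_set hw
          exact Set.disjoint_left.1 h this hx
        · have c4 : c • w = w := cyc_apply_of_ne hwx hwy hwz
          have : w ∈ c • D := by
            nth_rewrite 1 [← c4]; exact Set.smul_mem_smul_set hw
          exact Set.disjoint_left.1 h this hw
    refine ⟨?_, hz⟩
    rcases hD.smul_eq_or_disjoint c with h | h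
    · rw [← h, ← c2]; exact Set.smul_mem_smul_set hz
    · exfalso
      have : z ∈ c • D := by rw [← c1]; exact Set.smul_mem_smul_set hx
      exact Set.disjoint_left.1 h this hz
  exact Perm.alternatingGroup_le_of_isPreprimitive_of_isThreeCycle_mem hprim
    (Perm.isThreeCycle_swap_mul_swap_same hxy hxz hyz) hm

/-- the group of permutations preserving `Δ` or exchanging it with its complement -/
def semiStab (Δ : Set α) : Subgroup (Perm α) where
  carrier := {g | (∀ x, g x ∈ Δ ↔ x ∈ Δ) ∨ (∀ x, g x ∈ Δ ↔ x ∉ Δ)}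
  mul_mem' := by
    rintro g h (hg | hg) (hh | hh)
    · left; intro x; rw [Perm.mul_apply, hg, hh]
    · right; intro x; rw [Perm.mul_apply, hg, hh]
    · right; intro x; rw [Perm.mul_apply, hg, hh]
    · left; intro x; rw [Perm.mul_apply, hg, hh, not_not]
  one_mem' := Or.inl fun x => Iff.rfl
  inv_mem' := by
    rintro g (hg | hg)
    · left; intro x
      conv_rhs => rw [← apply_inv' g x]
      rw [hg]
    · right; intro x
      conv_rhs => rw [← apply_inv' g x]
      rw [hg, not_not]

/-- the group of permutations preserving `Δ` -/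
def setStab (Δ : Set α) : Subgroup (Perm α) where
  carrier := {g | (∀ x, g x ∈ Δ ↔ x ∈ Δ)}
  mul_mem' := by
    rintro g h hg hh x; rw [Perm.mul_apply, hg, hh]
  one_mem' := fun x => Iff.rfl
  inv_mem' := by
    rintro g hg x
    conv_rhs => rw [← apply_inv' g x]
    rw [hg]

/-- the centralizer of `μ` -/
def commSub (μ : Perm α) : Subgroup (Perm α) where
  carrier := {g | ∀ x, g (μ x) = μ (g x)}
  mul_mem' := by
    rintro g h hg hh x; rw [Perm.mul_apply, hh, hg, Perm.mul_apply]
  one_mem' := fun x => rfl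
  inv_mem' := by
    rintro g hg x
    apply g.injective
    rw [apply_inv', hg, apply_inv']

/-- index-two overgroup of a point stabilizer in a transitive 2-group gives a bisection -/
theorem exists_semi {P : Subgroup (Perm α)} (hP : IsPGroup 2 P) (hn : 2 ≤ Fintype.card α) :
    ∃ Δ : Set α, Δ.Nonempty ∧ Δᶜ.Nonempty ∧ P ≤ semiStab Δ := by
  classical
  by_cases ht : ∀ x y, ∃ g ∈ P, g x = y
  · have : Nontrivial α := by
      rw [← Fintype.one_lt_card_iff_nontrivial]; omega
    obtain ⟨ω, ω', hne⟩ := exists_pair_ne α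
    have hpt : IsPretransitive P α := ⟨fun x y => by
      obtain ⟨g, hg, h⟩ := ht x y
      exact ⟨⟨g, hg⟩, h⟩⟩
    obtain ⟨m, hm⟩ := (IsPGroup.iff_card).1 hP
    obtain ⟨j, hj⟩ := (IsPGroup.iff_card).1 (hP.to_subgroup (stabilizer P ω))
    have h1 : Nat.card (stabilizer P ω) * Nat.card α = Nat.card P := by
      rw [← (stabilizer P ω).card_mul_index, index_stabilizer_of_transitive]
    have h2 : j < m := by
      rw [hj, hm, Nat.card_eq_fintype_card] at h1
      have h3 : 2 ^ j < 2 ^ m := by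
        rw [← h1]
        have : 0 < 2 ^ j := by positivity
        nlinarith
      exact (Nat.pow_lt_pow_iff_right (by norm_num)).1 h3
    have hd : 2 ^ (m - 1) ∣ Nat.card P := by
      rw [hm]; exact pow_dvd_pow 2 (by omega)
    obtain ⟨K, hK, hle⟩ := Sylow.exists_subgroup_card_pow_prime_le 2 hd (stabilizer P ω) hj (by omega)
    have hidx : K.index = 2 := by
      have h3 := K.card_mul_index
      rw [hK, hm] at h3
      have h4 : 2 ^ m = 2 ^ (m - 1) * 2 := by
        rw [← pow_succ]; congr 1; omega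
      rw [h4] at h3
      exact Nat.eq_of_mul_eq_mul_left (by positivity) h3
    let Δ : Set α := {z | ∃ g ∈ K, g • ω = z}
    have hΔ : ∀ h : P, h • ω ∈ Δ ↔ h ∈ K := by
      intro h
      constructor
      · rintro ⟨g, hg, hh⟩
        have : g⁻¹ * h ∈ stabilizer P ω := by
          rw [mem_stabilizer_iff, mul_smul, ← hh, inv_smul_smul]
        have h5 := mul_mem hg (hle this)
        simpa using h5
      · intro hh; exact ⟨h, hh, rfl⟩
    refine ⟨Δ, ⟨ω, 1, one_mem _, one_smul _ _⟩, ?_, ?_⟩
    · have hne : K ≠ ⊤ := by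
        intro h; rw [h, Subgroup.index_top] at hidx; omega
      obtain ⟨g, hg⟩ : ∃ g, g ∉ K := by
        by_contra hcon
        push Not at hcon
        exact hne ((Subgroup.eq_top_iff' K).2 hcon)
      exact ⟨g • ω, fun h => hg ((hΔ g).1 h)⟩
    · intro g hg
      have key : ∀ x, ∃ h : P, h • ω = x := fun x => exists_smul_eq P ω x
      by_cases hgK : (⟨g, hg⟩ : P) ∈ K
      · left
        intro x
        obtain ⟨h, rfl⟩ := key x
        have e : g (h • ω) = ((⟨g, hg⟩ : P) * h) • ω := rfl
        rw [e, hΔ, hΔ, Subgroup.mul_mem_iff_of_index_two hidx]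
        simp [hgK]
      · right
        intro x
        obtain ⟨h, rfl⟩ := key x
        have e : g (h • ω) = ((⟨g, hg⟩ : P) * h) • ω := rfl
        rw [e, hΔ, hΔ, Subgroup.mul_mem_iff_of_index_two hidx]
        simp [hgK]
  · push Not at ht
    obtain ⟨x, y, hxy⟩ := ht
    refine ⟨{z | ∃ g ∈ P, g x = z}, ⟨x, 1, one_mem _, rfl⟩, ⟨y, ?_⟩, ?_⟩
    · rintro ⟨g, hg, h⟩; exact hxy g hg h
    · intro g hg
      left
      intro z
      constructor
      · rintro ⟨h, hh, hz⟩
        exact ⟨g⁻¹ * h, mul_mem (inv_mem hg) hh, by rw [Perm.mul_apply, hz, inv_apply']⟩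
      · rintro ⟨h, hh, hz⟩
        exact ⟨g * h, mul_mem hg hh, by rw [Perm.mul_apply, hz]⟩

/-- an even-degree matching has no fixed point -/
theorem match_no_fix {P : Subgroup (Perm α)} {μ : Perm α} (hμ : IsMatch P μ) (hn : 2 ∣ Fintype.card α)
    (a : α) : μ a ≠ a := by
  intro ha
  have h1 : μ ^ 2 ^ 1 = 1 := by
    ext x; simp [pow_two, hμ.invol]
  obtain ⟨b, hb, hne⟩ := Perm.exists_fixed_point_of_prime' hn h1 ha
  exact hne (hμ.fix b a hb ha)

theorem three_points {P : Subgroup (Perm α)} {μ : Perm α} (hμ : IsMatch P μ)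
    (h6 : 6 ≤ Fintype.card α) {Δ : Set α} (hΔ : P ≤ semiStab Δ) (a : α) : μ a ∈ Δ ↔ a ∈ Δ := by
  obtain ⟨c, e, hc, he, hca, hcb, hea, heb, hec, hed⟩ := exists_other_pairs hμ.fix h6 a
  have h1 := hΔ (hμ.mem a)
  have h2 : ∀ e, e ≠ a → e ≠ μ a → swap a (μ a) e = e := fun e h1 h2 => swap_apply_of_ne_of_ne h1 h2
  rcases h1 with h | h
  · have := h a
    rwa [swap_apply_left] at this
  · exfalso
    have := h c
    rw [h2 c hca hcb] at this
    by_cases hcΔ : c ∈ Δ
    · exact (this.1 hcΔ) hcΔ
    · exact hcΔ (this.2 hcΔ)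

/-- the data produced in the non-unique case -/
def Two (P : Subgroup (Perm α)) : Prop :=
  ∃ A B : Subgroup (Perm α), P ≤ A ∧ P ≤ B ∧ ¬ alternatingGroup α ≤ A ∧ ¬ alternatingGroup α ≤ B ∧
    ∀ K : Subgroup (Perm α), A ⊓ alternatingGroup α ≤ K → B ⊓ alternatingGroup α ≤ K → alternatingGroup α ≤ K

theorem two_of_even {P : Subgroup (Perm α)} (hP : IsPGroup 2 P) {μ : Perm α} (hμ : IsMatch P μ)
    (h6 : 6 ≤ Fintype.card α) (hn : 2 ∣ Fintype.card α) : Two P := by
  have hnf := match_no_fix hμ hn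
  obtain ⟨Δ₀, h1, h2, h3⟩ := exists_semi hP (by omega)
  -- choose the side containing two pairs
  obtain ⟨Δ, hc, hle, a, b, ha, hb, hba, hbm⟩ : ∃ Δ : Set α, Δᶜ.Nonempty ∧ P ≤ semiStab Δ ∧
      ∃ a b, a ∈ Δ ∧ b ∈ Δ ∧ b ≠ a ∧ b ≠ μ a := by
    obtain ⟨a, _⟩ := h1
    obtain ⟨c, e, hc, he, hca, hcb, hea, heb, hec, hed⟩ := exists_other_pairs hμ.fix h6 a
    have h4 : P ≤ semiStab Δ₀ᶜ := by
      intro g hg
      rcases h3 hg with h | h
      · left; intro x; rw [Set.mem_compl_iff, Set.mem_compl_iff, h]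
      · right; intro x; rw [Set.mem_compl_iff, Set.mem_compl_iff, h]
    by_cases hA : a ∈ Δ₀ <;> by_cases hC : c ∈ Δ₀
    · exact ⟨Δ₀, h2, h3, a, c, hA, hC, hca, hcb⟩
    · by_cases hE : e ∈ Δ₀
      · exact ⟨Δ₀, h2, h3, a, e, hA, hE, hea, heb⟩
      · exact ⟨Δ₀ᶜ, ⟨a, not_not.2 hA⟩, h4, c, e, hC, hE, hec, hed⟩
    · by_cases hE : e ∈ Δ₀
      · exact ⟨Δ₀, h2, h3, c, e, hC, hE, hec, hed⟩
      · exact ⟨Δ₀ᶜ, ⟨c, not_not.2 hC⟩, h4, a, e, hA, hE, hea, heb⟩
    · exact ⟨Δ₀ᶜ, by rw [compl_compl]; exact ⟨_, ‹_›⟩, h4, a, c, hA, hC, hca, hcb⟩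
  obtain ⟨z₀, hz₀⟩ := hc
  have hinv := three_points hμ h6 hle
  have hma : μ a ∈ Δ := (hinv a).2 ha
  have hmb : μ b ∈ Δ := (hinv b).2 hb
  have hbm' : μ b ≠ a := fun h => hbm (by rw [← h, hμ.invol])
  have hbm'' : μ b ≠ μ a := fun h => hba (μ.injective h)
  refine ⟨commSub μ, semiStab Δ, ?_, hle, ?_, ?_, ?_⟩
  · intro g hg x
    exact hμ.comm_of_mem hP hg x
  · intro h
    have h4 : swap a b * swap a (μ a) ∈ commSub μ := h (cyc_mem_alt hba.symm (hnf a).symm)
    have h5 : (swap a b * swap a (μ a)) (μ (μ a)) = μ ((swap a b * swap a (μ a)) (μ a)) := h4 (μ a)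
    rw [hμ.invol, cyc_apply₁ hba.symm (hnf a).symm hbm, cyc_apply₂] at h5
    exact hba (μ.injective h5.symm)
  · intro h
    have hza : a ≠ z₀ := fun h => hz₀ (h ▸ ha)
    have hzb : b ≠ z₀ := fun h => hz₀ (h ▸ hb)
    have h4 : swap a b * swap a z₀ ∈ semiStab Δ := h (cyc_mem_alt hba.symm hza)
    rcases h4 with h5 | h5
    · have := h5 a
      rw [cyc_apply₁ hba.symm hza hzb] at this
      exact hz₀ (this.2 ha)
    · have := h5 (μ a)
      rw [cyc_apply_of_ne (hnf a) hbm.symm (fun h => hz₀ (by rw [← h]; exact hma))] at this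
      exact this.1 hma hma
  · intro K hA hB
    -- double swaps along pairs
    have hpair : ∀ x y, y ≠ x → y ≠ μ x → swap x y * swap (μ x) (μ y) ∈ K := by
      intro x y hyx hyμ
      have hyμ' : μ y ≠ x := fun h => hyμ (by rw [← h, hμ.invol])
      have hyμ'' : μ y ≠ μ x := fun h => hyx (μ.injective h)
      apply hA
      refine ⟨?_, swap_swap_mem_alt hyx.symm hyμ''.symm⟩
      intro w
      simp only [Perm.mul_apply]
      by_cases w1 : w = x
      · subst w1
        rw [swap_apply_left, swap_apply_of_ne_of_ne hyμ' (hnf y), swap_apply_of_ne_of_ne (hnf w).symm hyμ'.symm,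
          swap_apply_left]
      by_cases w2 : w = y
      · subst w2
        rw [swap_apply_right, swap_apply_of_ne_of_ne (hnf x) hyμ.symm, swap_apply_of_ne_of_ne hyμ (hnf w).symm,
          swap_apply_right]
      by_cases w3 : w = μ x
      · subst w3
        rw [hμ.invol, swap_apply_of_ne_of_ne (hnf x).symm hyμ'.symm, swap_apply_left, swap_apply_left,
          swap_apply_of_ne_of_ne hyμ' (hnf y), hμ.invol]
      by_cases w4 : w = μ y
      · subst w4
        rw [hμ.invol, swap_apply_of_ne_of_ne hyμ (hnf y).symm, swap_apply_right, swap_apply_right,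
          swap_apply_of_ne_of_ne (hnf x) hyμ.symm, hμ.invol]
      · have m1 : μ w ≠ x := fun h => w3 (by rw [← h, hμ.invol])
        have m2 : μ w ≠ y := fun h => w4 (by rw [← h, hμ.invol])
        have m3 : μ w ≠ μ x := fun h => w1 (μ.injective h)
        have m4 : μ w ≠ μ y := fun h => w2 (μ.injective h)
        rw [swap_apply_of_ne_of_ne w3 w4, swap_apply_of_ne_of_ne w1 w2, swap_apply_of_ne_of_ne m3 m4,
          swap_apply_of_ne_of_ne m1 m2]
    have htr : ∀ x y, ∃ g ∈ K, g x = y := by
      intro x y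
      by_cases hyx : y = x
      · exact ⟨1, one_mem _, by rw [hyx]; rfl⟩
      by_cases hyμ : y = μ x
      · obtain ⟨c, e, hc, he, hca, hcb, hea, heb, hec, hed⟩ := exists_other_pairs hμ.fix h6 x
        refine ⟨swap x (μ x) * swap c (μ c), hA ⟨?_, swap_swap_mem_alt (hnf x).symm (hnf c).symm⟩, ?_⟩
        · intro w
          exact hμ.comm_of_mem hP (mul_mem (hμ.mem x) (hμ.mem c)) w
        · rw [Perm.mul_apply, swap_apply_of_ne_of_ne hca.symm (fun h => hcb (by rw [h, hμ.invol])),
            swap_apply_left, hyμ]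
      · refine ⟨_, hpair x y hyx hyμ, ?_⟩
        rw [Perm.mul_apply, swap_apply_of_ne_of_ne (hnf x).symm (fun h => hyμ (by rw [h, hμ.invol])),
            swap_apply_left]
    have hcyc : ∀ x y z, x ∈ Δ → y ∈ Δ → z ∈ Δ → x ≠ y → x ≠ z → y ≠ z → swap x y * swap x z ∈ K := by
      intro x y z hx hy hz hxy hxz hyz
      apply hB
      refine ⟨Or.inl ?_, cyc_mem_alt hxy hxz⟩
      intro w
      by_cases w1 : w = x
      · subst w1; rw [cyc_apply₁ hxy hxz hyz]; simp [hx, hz]
      by_cases w2 : w = y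
      · subst w2; rw [cyc_apply₃ hxy hyz]; simp [hx, hy]
      by_cases w3 : w = z
      · subst w3; rw [cyc_apply₂]; simp [hz, hy]
      rw [cyc_apply_of_ne w1 w2 w3]
    apply alt_le_of_connected K htr
    · intro D hD hcl
      -- D meets Δ → Δ ⊆ D
      have hstep : ∀ x, x ∈ D → x ∈ Δ → ∀ y, y ∈ Δ → y ∈ D := by
        intro x hxD hxΔ y hy
        by_cases hyx : y = x
        · rwa [hyx]
        -- third point of Δ
        obtain ⟨z, hz, hzx, hzy⟩ : ∃ z, z ∈ Δ ∧ z ≠ x ∧ z ≠ y := by
          by_cases q1 : a ≠ x ∧ a ≠ y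
          · exact ⟨a, ha, q1.1, q1.2⟩
          by_cases q2 : μ a ≠ x ∧ μ a ≠ y
          · exact ⟨μ a, hma, q2.1, q2.2⟩
          by_cases q3 : b ≠ x ∧ b ≠ y
          · exact ⟨b, hb, q3.1, q3.2⟩
          exfalso
          have hfa := hnf a
          rw [not_and_or, not_not, not_not] at q1 q2 q3
          rcases q1 with q1 | q1 <;> rcases q2 with q2 | q2 <;> rcases q3 with q3 | q3 <;>
            simp_all
        exact (hcl x y z (Ne.symm hyx) hzx.symm hzy.symm (hcyc x y z hxΔ hy hz (Ne.symm hyx) hzx.symm hzy.symm) hxD).1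
      have hcr : ∀ c, c ∉ Δ → swap c b * swap c (μ b) ∈ K := by
        intro c hc
        have hca : c ≠ a := fun h => hc (h ▸ ha)
        have hcma : c ≠ μ a := fun h => hc (h ▸ hma)
        have hcb : c ≠ b := fun h => hc (h ▸ hb)
        have hcmb : c ≠ μ b := fun h => hc (h ▸ hmb)
        have hmca : μ c ≠ b := fun h => hcmb (by rw [← h, hμ.invol])
        have hmcb : μ c ≠ μ b := fun h => hcb (μ.injective h)
        have ht := hpair a c hca hcma
        have h4 := mul_mem (mul_mem ht (hcyc a b (μ b) ha hb hmb hba.symm hbm'.symm (hnf b).symm)) (inv_mem ht)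
        have h5 : (swap a c * swap (μ a) (μ c)) * (swap a b * swap a (μ b)) * (swap a c * swap (μ a) (μ c))⁻¹ =
            ((swap a c * swap (μ a) (μ c)) * swap a b * (swap a c * swap (μ a) (μ c))⁻¹) *
            ((swap a c * swap (μ a) (μ c)) * swap a (μ b) * (swap a c * swap (μ a) (μ c))⁻¹) := by group
        rw [h5, conj_swap, conj_swap] at h4
        have e1 : (swap a c * swap (μ a) (μ c)) a = c := by
          rw [Perm.mul_apply, swap_apply_of_ne_of_ne (hnf a).symm (fun h => hcma (by rw [h, hμ.invol])),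
            swap_apply_left]
        have e2 : (swap a c * swap (μ a) (μ c)) b = b := by
          rw [Perm.mul_apply, swap_apply_of_ne_of_ne hbm hmca.symm, swap_apply_of_ne_of_ne hba hcb.symm]
        have e3 : (swap a c * swap (μ a) (μ c)) (μ b) = μ b := by
          rw [Perm.mul_apply, swap_apply_of_ne_of_ne hbm'' hmcb.symm, swap_apply_of_ne_of_ne hbm' hcmb.symm]
        rw [e1, e2, e3] at h4
        exact h4
      have hne : ∀ c, c ∉ Δ → c ≠ b ∧ c ≠ μ b :=
        fun c hc => ⟨fun h => hc (h ▸ hb), fun h => hc (h ▸ hmb)⟩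
      have hbD : b ∈ D := by
        obtain ⟨x, hx⟩ := hD
        by_cases hxΔ : x ∈ Δ
        · exact hstep x hx hxΔ b hb
        · exact (hcl x b (μ b) (hne x hxΔ).1 (hne x hxΔ).2 (hnf b).symm (hcr x hxΔ) hx).1
      rw [Set.eq_univ_iff_forall]
      intro x
      by_cases hxΔ : x ∈ Δ
      · exact hstep b hbD hb x hxΔ
      · have h6 := hcr x hxΔ
        -- x, b, μ b 3-cycle, rewrite starting with b
        have h7 : swap x b * swap x (μ b) = swap b (μ b) * swap b x := by
          rw [swap_comm b x]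
          have : swap x (μ b) = swap x b * (swap b (μ b)) * (swap x b)⁻¹ := by
            rw [conj_swap, swap_apply_right, swap_apply_of_ne_of_ne (hne x hxΔ).2.symm (hnf b)]
          rw [this]
          rw [swap_inv]
          simp [← mul_assoc]
        rw [h7] at h6
        exact (hcl b (μ b) x (hnf b).symm (hne x hxΔ).1.symm (hne x hxΔ).2.symm h6 hbD).2
    · exact ⟨a, b, μ a, hba.symm, (hnf a).symm, hbm, hcyc a b (μ a) ha hb hma hba.symm (hnf a).symm hbm⟩

theorem two_of_odd {P : Subgroup (Perm α)} (hP : IsPGroup 2 P) {μ : Perm α} (hμ : IsMatch P μ)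
    (h5 : 5 ≤ Fintype.card α) (hn : ¬ 2 ∣ Fintype.card α) (hpow : ∀ j, Fintype.card α ≠ 2 ^ j + 1) : Two P := by
  classical
  obtain ⟨a₀, ha₀⟩ := hP.nonempty_fixed_point_of_prime_not_dvd_card α (by rwa [Nat.card_eq_fintype_card])
  have hfix : ∀ g ∈ P, g a₀ = a₀ := fun g hg => ha₀ ⟨g, hg⟩
  have hμa : μ a₀ = a₀ := by
    have := hfix _ (hμ.mem a₀)
    rwa [swap_apply_left] at this
  have hnf : ∀ x, x ≠ a₀ → μ x ≠ x := fun x hx h => hx (hμ.fix x a₀ h hμa)
  obtain ⟨x, hx⟩ : ∃ x : α, x ≠ a₀ := by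
    have : Nontrivial α := by rw [← Fintype.one_lt_card_iff_nontrivial]; omega
    exact exists_ne a₀
  -- the orbit of x is not everything
  obtain ⟨y, hya, hy⟩ : ∃ y, y ≠ a₀ ∧ ∀ g ∈ P, g x ≠ y := by
    by_contra hcon
    push Not at hcon
    obtain ⟨j, hj⟩ := hP.card_orbit x
    apply hpow j
    have h1 : (orbit P x) = {a₀}ᶜ := by
      ext y
      constructor
      · rintro ⟨g, rfl⟩ hgx
        apply hx
        have h2 : (g : Perm α) x = a₀ := hgx
        have h3 := hfix g g.2
        exact (g : Perm α).injective (h2.trans h3.symm)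
      · intro hy
        obtain ⟨g, hg, h⟩ := hcon y hy
        exact ⟨⟨g, hg⟩, h⟩
    rw [h1] at hj
    have h2 : Nat.card ({a₀}ᶜ : Set α) = Fintype.card α - 1 := by
      rw [Nat.card_eq_fintype_card, Fintype.card_compl_set]
      simp
    rw [h2] at hj
    omega
  let Γ : Set α := {z | z = a₀ ∨ ∃ g ∈ P, g x = z}
  have hxΓ : x ∈ Γ := Or.inr ⟨1, one_mem _, rfl⟩
  have haΓ : a₀ ∈ Γ := Or.inl rfl
  have hmΓ : μ x ∈ Γ := Or.inr ⟨_, hμ.mem x, by rw [swap_apply_left]⟩
  have hyΓ : y ∉ Γ := by
    rintro (h | ⟨g, hg, h⟩)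
    · exact hya h
    · exact hy g hg h
  have hmx : μ x ≠ a₀ := fun h => hx (by rw [← hμ.invol x, h, hμa])
  refine ⟨setStab Γ, setStab {a₀}, ?_, ?_, ?_, ?_, ?_⟩
  · intro g hg z
    constructor
    · rintro (h | ⟨h, hh, hz⟩)
      · left; exact g.injective (h.trans (hfix g hg).symm)
      · right; exact ⟨g⁻¹ * h, mul_mem (inv_mem hg) hh, by rw [Perm.mul_apply, hz, inv_apply']⟩
    · rintro (h | ⟨h, hh, hz⟩)
      · left; rw [h, hfix g hg]
      · right; exact ⟨g * h, mul_mem hg hh, by rw [Perm.mul_apply, hz]⟩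
  · intro g hg z
    rw [Set.mem_singleton_iff, Set.mem_singleton_iff]
    constructor
    · intro h; exact g.injective (h.trans (hfix g hg).symm)
    · intro h; rw [h, hfix g hg]
  · intro h
    have hxy : x ≠ y := fun h => hyΓ (h ▸ hxΓ)
    have h4 : swap x a₀ * swap x y ∈ setStab Γ := h (cyc_mem_alt hx hxy)
    have := h4 x
    rw [cyc_apply₁ hx hxy hya.symm] at this
    exact hyΓ (this.2 hxΓ)
  · intro h
    have hxy : x ≠ y := fun h => hyΓ (h ▸ hxΓ)
    have h4 : swap x a₀ * swap x y ∈ setStab {a₀} := h (cyc_mem_alt hx hxy)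
    have := h4 a₀
    rw [cyc_apply₃ hx hya.symm] at this
    exact hx (this.2 rfl)
  · intro K hA hB
    have hcyc : ∀ u v w, u ≠ a₀ → v ≠ a₀ → w ≠ a₀ → u ≠ v → u ≠ w → v ≠ w → swap u v * swap u w ∈ K := by
      intro u v w hu hv hw huv huw hvw
      apply hB
      refine ⟨?_, cyc_mem_alt huv huw⟩
      intro t
      by_cases w1 : t = u
      · subst w1; rw [cyc_apply₁ huv huw hvw]; simp [hu, hw]
      by_cases w2 : t = v
      · subst w2; rw [cyc_apply₃ huv hvw]; simp [hu, hv]
      by_cases w3 : t = w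
      · subst w3; rw [cyc_apply₂]; simp [hw, hv]
      rw [cyc_apply_of_ne w1 w2 w3]
    have hcyc2 : swap x a₀ * swap x (μ x) ∈ K := by
      apply hA
      refine ⟨?_, cyc_mem_alt hx (hnf x hx).symm⟩
      intro t
      by_cases w1 : t = x
      · subst w1; rw [cyc_apply₁ hx (hnf t hx).symm hmx.symm]; simp [hxΓ, hmΓ]
      by_cases w2 : t = a₀
      · subst w2; rw [cyc_apply₃ hx hmx.symm]; simp [hxΓ, haΓ]
      by_cases w3 : t = μ x
      · subst w3; rw [cyc_apply₂]; simp [haΓ, hmΓ]
      rw [cyc_apply_of_ne w1 w2 w3]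
    -- third points
    have hthird : ∀ u v : α, ∃ w, w ≠ a₀ ∧ w ≠ u ∧ w ≠ v := by
      intro u v
      by_contra hcon
      push Not at hcon
      have : (Finset.univ : Finset α) ⊆ {a₀, u, v} := by
        intro w _
        simp only [Finset.mem_insert, Finset.mem_singleton]
        by_cases h1 : w = a₀
        · exact Or.inl h1
        by_cases h2 : w = u
        · exact Or.inr (Or.inl h2)
        · exact Or.inr (Or.inr (hcon w h1 h2))
      have h2 := Finset.card_le_card this
      have h3 : ({a₀, u, v} : Finset α).card ≤ 3 := Finset.card_le_three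
      rw [Finset.card_univ] at h2
      omega
    have htr1 : ∀ u v, u ≠ a₀ → v ≠ a₀ → ∃ g ∈ K, g u = v := by
      intro u v hu hv
      by_cases huv : u = v
      · exact ⟨1, one_mem _, huv⟩
      obtain ⟨w, hw, hwu, hwv⟩ := hthird u v
      exact ⟨_, hcyc u w v hu hw hv hwu.symm huv hwv, cyc_apply₁ hwu.symm huv hwv⟩
    have htr2 : ∀ v, ∃ g ∈ K, g a₀ = v := by
      intro v
      by_cases hv : v = a₀
      · exact ⟨1, one_mem _, hv.symm⟩
      obtain ⟨g, hg, h⟩ := htr1 x v hx hv
      refine ⟨g * (swap x a₀ * swap x (μ x)), mul_mem hg hcyc2, ?_⟩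
      rw [Perm.mul_apply, cyc_apply₃ hx hmx.symm, h]
    apply alt_le_of_connected K
    · intro u v
      obtain ⟨g, hg, h⟩ := htr2 u
      obtain ⟨g', hg', h'⟩ := htr2 v
      exact ⟨g' * g⁻¹, mul_mem hg' (inv_mem hg), by rw [Perm.mul_apply, ← h, inv_apply', h']⟩
    · intro D hD hcl
      have hxD : x ∈ D := by
        obtain ⟨u, hu⟩ := hD
        by_cases hua : u = a₀
        · subst hua
          have h7 : swap x u * swap x (μ x) = swap u (μ x) * swap u x := by
            rw [swap_comm u x]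
            have : swap x (μ x) = swap x u * (swap u (μ x)) * (swap x u)⁻¹ := by
              rw [conj_swap, swap_apply_right, swap_apply_of_ne_of_ne (hnf x hx) hmx]
            rw [this]
            rw [swap_inv]
            simp [← mul_assoc]
          rw [h7] at hcyc2
          exact (hcl u (μ x) x hmx.symm hx.symm (hnf x hx) hcyc2 hu).2
        · by_cases hux : u = x
          · rwa [← hux]
          · obtain ⟨w, hw, hwu, hwx⟩ := hthird u x
            exact (hcl u w x hwu.symm hux hwx (hcyc u w x hua hw hx hwu.symm hux hwx) hu).2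
      rw [Set.eq_univ_iff_forall]
      intro u
      by_cases hua : u = a₀
      · rw [hua]
        exact (hcl x a₀ (μ x) hx (hnf x hx).symm hmx.symm hcyc2 hxD).1
      · by_cases hux : u = x
        · rwa [hux]
        · obtain ⟨w, hw, hwu, hwx⟩ := hthird u x
          exact (hcl x u w (Ne.symm hux) hwx.symm hwu.symm (hcyc x u w hx hua hw (Ne.symm hux) hwx.symm hwu.symm) hxD).1
    · exact ⟨x, a₀, μ x, hx, (hnf x hx).symm, hmx.symm, hcyc2⟩

/-- In a 2-transitive group of degree `p^k+1`, a Sylow `p`-subgroup fixing a point is transitive on the others -/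
theorem sylow_trans {G β : Type*} [Group G] [Finite G] [Finite β] [MulAction G β] {p k : ℕ} [Fact p.Prime]
    (h2 : IsMultiplyPretransitive G β 2) (hcard : Nat.card β = p ^ k + 1) (hk : 1 ≤ k) (R : Sylow p G)
    (a₀ : β) (hfix : ∀ r ∈ R, r • a₀ = a₀) (x y : β) (hx : x ≠ a₀) (hy : y ≠ a₀) : ∃ r ∈ R, r • x = y := by
  classical
  have hp : p.Prime := Fact.out
  have hpp : 0 < p := hp.pos
  let F := fixingSubgroup G ({a₀, x} : Set β)
  have hnc : ({a₀, x} : Set β).ncard = 2 := Set.ncard_pair hx.symm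
  have hidx : F.index = (p ^ k + 1) * p ^ k := by
    have := IsMultiplyPretransitive.index_of_fixingSubgroup_eq (G := G) ({a₀, x} : Set β) (by rw [hnc]; exact h2)
    rw [this, hnc, hcard, Nat.choose_two_right, Nat.factorial_two, Nat.add_sub_cancel]
    exact Nat.div_mul_cancel (by
      have := Nat.even_mul_succ_self (p ^ k)
      rw [mul_comm]
      exact this.two_dvd)
  let St := stabilizer R x
  have hSt : St.map (R : Subgroup G).subtype ≤ F := by
    rintro _ ⟨r, hr, rfl⟩
    change (r : G) ∈ fixingSubgroup G ({a₀, x} : Set β)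
    rw [mem_fixingSubgroup_iff]
    intro z hz
    rcases hz with rfl | hz
    · exact hfix r r.2
    · rw [Set.mem_singleton_iff] at hz
      rw [hz]; exact hr
  have hStc : Nat.card St ∣ Nat.card F := by
    have := Subgroup.card_dvd_of_le hSt
    rwa [Subgroup.card_map_of_injective (Subtype.val_injective)] at this
  obtain ⟨j, hj⟩ := (IsPGroup.iff_card).1 (R.isPGroup'.to_subgroup St)
  have hcF : Nat.card F ≠ 0 := Nat.card_pos.ne'
  have hjF : j ≤ (Nat.card F).factorization p := by
    rw [hj] at hStc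
    exact (hp.pow_dvd_iff_le_factorization hcF).1 hStc
  have hG : Nat.card G = Nat.card F * ((p ^ k + 1) * p ^ k) := by
    rw [← hidx, F.card_mul_index]
  have hGf : (Nat.card G).factorization p = (Nat.card F).factorization p + k := by
    rw [hG, Nat.factorization_mul hcF (by positivity), Nat.factorization_mul (by positivity) (by positivity)]
    rw [hp.factorization_pow]
    have : (p ^ k + 1).factorization p = 0 := by
      apply Nat.factorization_eq_zero_of_not_dvd
      intro h
      have h3 : p ∣ p ^ k := dvd_pow_self p (by omega)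
      have h4 := (Nat.dvd_add_right h3).1 h
      exact hp.one_lt.ne' (Nat.dvd_one.1 h4)
    simp [this]
  have horb : Nat.card (orbit R x) * Nat.card St = Nat.card R := by
    rw [← Nat.card_prod]
    exact Nat.card_congr (orbitProdStabilizerEquivGroup R x)
  have hRc : Nat.card R = p ^ ((Nat.card F).factorization p + k) := by
    rw [R.card_eq_multiplicity, hGf]
  have hge : p ^ k ≤ Nat.card (orbit R x) := by
    have h5 : Nat.card St ≤ p ^ ((Nat.card F).factorization p) := by
      rw [hj]; exact Nat.pow_le_pow_right hp.pos hjF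
    rw [hRc, pow_add, mul_comm] at horb
    by_contra hlt
    push Not at hlt
    have h6 : 0 < Nat.card St := Nat.card_pos
    have : Nat.card St * Nat.card (orbit R x) < p ^ ((Nat.card F).factorization p) * p ^ k := by
      calc Nat.card St * Nat.card (orbit R x) < Nat.card St * p ^ k := by
            exact Nat.mul_lt_mul_of_pos_left hlt h6
        _ ≤ _ := Nat.mul_le_mul_right _ h5
    omega
  have hsub : orbit R x ⊆ ({a₀}ᶜ : Set β) := by
    rintro _ ⟨r, rfl⟩ h
    apply hx
    have h2 : (r : G) • x = a₀ := h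
    rw [← hfix r r.2] at h2
    exact smul_left_cancel _ h2
  have hcc : ({a₀}ᶜ : Set β).ncard = p ^ k := by
    have := Set.ncard_add_ncard_compl ({a₀} : Set β)
    rw [Set.ncard_singleton, hcard] at this
    omega
  have heq : orbit R x = ({a₀}ᶜ : Set β) := by
    apply Set.eq_of_subset_of_ncard_le hsub
    rw [hcc]
    exact hge
  have : y ∈ orbit R x := by rw [heq]; exact hy
  obtain ⟨r, hr⟩ := this
  exact ⟨r, r.2, hr⟩

/-- index three subgroups of `A₅` do not exist -/
theorem a5_index {α : Type} [Fintype α] [DecidableEq α] (h5 : Fintype.card α = 5)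
    {H : Subgroup (alternatingGroup α)} (h20 : 20 ∣ Nat.card H) : H = ⊤ := by
  have : Nontrivial α := by rw [← Fintype.one_lt_card_iff_nontrivial]; omega
  have hcard : Nat.card (alternatingGroup α) = 60 := by
    rw [nat_card_alternatingGroup, Nat.card_eq_fintype_card, h5]; simp [Nat.factorial]
  have h1 := H.card_mul_index
  rw [hcard] at h1
  have h3 : H.index ∣ 3 := by
    obtain ⟨c, hc⟩ := h20
    rw [hc] at h1
    have : c * H.index = 3 := by nlinarith
    exact Dvd.intro_left _ this
  rcases (Nat.dvd_prime Nat.prime_three).1 h3 with h | h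
  · exact Subgroup.index_eq_one.1 h
  · exfalso
    let f := MulAction.toPermHom (alternatingGroup α) (alternatingGroup α ⧸ H)
    have hker : f.ker = H.normalCore := (Subgroup.normalCore_eq_ker H).symm
    have hsimp : IsSimpleGroup (alternatingGroup α) :=
      alternatingGroup.isSimpleGroup (by rw [Nat.card_eq_fintype_card, h5])
    rcases hsimp.eq_bot_or_eq_top_of_normal f.ker inferInstance with hb | ht
    · have hinj : Function.Injective f := (MonoidHom.ker_eq_bot_iff f).1 hb
      have := Nat.card_le_card_of_injective f hinj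
      rw [hcard, Nat.card_perm, ← Subgroup.index_eq_card, h] at this
      simp [Nat.factorial] at this
    · rw [hker] at ht
      have : H = ⊤ := top_le_iff.1 (ht ▸ H.normalCore_le)
      rw [this, Subgroup.index_top] at h
      omega

/-- overgroups of (the even part of) a Sylow 2-subgroup in degree `2^k+1` that move the fixed point -/
theorem alt_le_of_moves {α : Type} [Fintype α] [DecidableEq α] (P : Sylow 2 (Perm α)) {k : ℕ} (hk : 2 ≤ k)
    (hn : Fintype.card α = 2 ^ k + 1) :
    ∃ a₀ : α, (∀ g ∈ P, g a₀ = a₀) ∧ ∀ K : Subgroup (Perm α), (∀ g ∈ P, g ∈ alternatingGroup α → g ∈ K) →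
      (∃ g ∈ K, g a₀ ≠ a₀) → alternatingGroup α ≤ K := by
  classical
  obtain ⟨μ, hμ⟩ := exists_isMatch P
  have h4k : 4 ≤ 2 ^ k := by
    calc 4 = 2 ^ 2 := by norm_num
      _ ≤ 2 ^ k := Nat.pow_le_pow_right (by norm_num) hk
  have hev : 2 ∣ 2 ^ k := dvd_pow_self 2 (by omega)
  have hodd : ¬ 2 ∣ Fintype.card α := by rw [hn]; omega
  obtain ⟨a₀, ha₀⟩ := P.isPGroup'.nonempty_fixed_point_of_prime_not_dvd_card α (by rwa [Nat.card_eq_fintype_card])
  have hfix : ∀ g ∈ P, g a₀ = a₀ := fun g hg => ha₀ ⟨g, hg⟩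
  have hμa : μ a₀ = a₀ := by
    have := hfix _ (hμ.mem a₀)
    rwa [swap_apply_left] at this
  have hnf : ∀ x, x ≠ a₀ → μ x ≠ x := fun x hx h => hx (hμ.fix x a₀ h hμa)
  refine ⟨a₀, hfix, ?_⟩
  intro K hK hmv
  obtain ⟨g, hg, hga⟩ := hmv
  -- Sylow subgroup of the alternating group
  have hSp : IsPGroup 2 ((P : Subgroup (Perm α)).comap (alternatingGroup α).subtype) :=
    P.isPGroup'.comap_of_injective _ Subtype.val_injective
  obtain ⟨S, hS⟩ := hSp.exists_le_sylow
  have hS2 : (S : Subgroup (alternatingGroup α)) = (P : Subgroup (Perm α)).comap (alternatingGroup α).subtype := by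
    apply le_antisymm _ hS
    obtain ⟨Q, hQ⟩ := exists_sylow_perm S
    -- Q contains even part of P
    obtain ⟨c, hc⟩ := MulAction.exists_smul_eq (Perm α) Q P
    have hcardeq : Nat.card ((Q : Subgroup (Perm α)).comap (alternatingGroup α).subtype) =
        Nat.card ((P : Subgroup (Perm α)).comap (alternatingGroup α).subtype) := by
      rw [← hc]
      let ψ : MulAut (alternatingGroup α) := MulAut.conjNormal c
      have : ((c • Q : Sylow 2 (Perm α)) : Subgroup (Perm α)).comap (alternatingGroup α).subtype =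
          ((Q : Subgroup (Perm α)).comap (alternatingGroup α).subtype).map ψ.toMonoidHom := by
        ext x
        constructor
        · rintro ⟨q, hq, hx⟩
          have hx' : c * q * c⁻¹ = (x : Perm α) := hx
          have hqa : q ∈ alternatingGroup α := by
            have h1 := (alternatingGroup.normal (α := α)).conj_mem _ x.2 c⁻¹
            rw [← hx'] at h1
            have : c⁻¹ * (c * q * c⁻¹) * c⁻¹⁻¹ = q := by group
            rwa [this] at h1
          refine ⟨⟨q, hqa⟩, hq, ?_⟩
          apply Subtype.ext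
          exact hx'
        · rintro ⟨q, hq, hx⟩
          refine ⟨(q : Perm α), hq, ?_⟩
          rw [← hx]
          rfl
      rw [this, Subgroup.card_map_of_injective (f := ψ.toMonoidHom) ψ.injective]
    have hSQ : (S : Subgroup (alternatingGroup α)) = (Q : Subgroup (Perm α)).comap (alternatingGroup α).subtype := by
      ext x; exact hQ x
    have : (P : Subgroup (Perm α)).comap (alternatingGroup α).subtype = (S : Subgroup (alternatingGroup α)) := by
      apply Subgroup.eq_of_le_of_card_ge hS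
      rw [← hcardeq, hSQ]
    exact this.ge
  have hSfix : ∀ r ∈ S, r • a₀ = a₀ := by
    intro r hr
    have : r ∈ (S : Subgroup (alternatingGroup α)) := hr
    rw [hS2] at this
    exact hfix _ this
  have h2t : IsMultiplyPretransitive (alternatingGroup α) α 2 := by
    have := alternatingGroup.isMultiplyPretransitive α
    apply MulAction.isMultiplyPretransitive_of_le (n := Nat.card α - 2)
    · rw [Nat.card_eq_fintype_card, hn]; omega
    · exact Nat.sub_le _ _
  have htrS : ∀ x y, x ≠ a₀ → y ≠ a₀ → ∃ r ∈ K, r ∈ alternatingGroup α ∧ r x = y ∧ r a₀ = a₀ := by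
    intro x y hx hy
    obtain ⟨r, hr, h⟩ := sylow_trans h2t (by rw [Nat.card_eq_fintype_card, hn]) (by omega : 1 ≤ k) S a₀ hSfix x y hx hy
    have hr' : r ∈ (S : Subgroup (alternatingGroup α)) := hr
    rw [hS2] at hr'
    exact ⟨r, hK _ hr' r.2, r.2, h, hfix _ hr'⟩
  obtain ⟨g, hg, hgA, hga⟩ : ∃ g ∈ K, g ∈ alternatingGroup α ∧ g a₀ ≠ a₀ := by
    have h1 : g⁻¹ a₀ ≠ a₀ := fun h => hga (by rw [← h, apply_inv']; exact h.symm ▸ rfl)
    obtain ⟨y, hy⟩ : ∃ y, y ∉ ({a₀, g⁻¹ a₀} : Finset α) := by
      by_contra hcon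
      push Not at hcon
      have : (Finset.univ : Finset α) ⊆ {a₀, g⁻¹ a₀} := fun w _ => hcon w
      have h2 := Finset.card_le_card this
      have h3 : ({a₀, g⁻¹ a₀} : Finset α).card ≤ 2 := Finset.card_le_two
      rw [Finset.card_univ] at h2
      omega
    simp only [Finset.mem_insert, Finset.mem_singleton, not_or] at hy
    obtain ⟨r, hr, hrA, h, _⟩ := htrS (g⁻¹ a₀) y h1 hy.1
    refine ⟨g * r * g⁻¹, mul_mem (mul_mem hg hr) (inv_mem hg),
      (alternatingGroup.normal (α := α)).conj_mem _ hrA g, ?_⟩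
    rw [Perm.mul_apply, Perm.mul_apply, h]
    intro h2
    exact hy.2 (by rw [← h2, inv_apply'])
  have htr1 : ∀ x, ∃ h ∈ K, h ∈ alternatingGroup α ∧ h x = a₀ := by
    intro x
    by_cases hx : x = a₀
    · exact ⟨1, one_mem _, one_mem _, hx⟩
    · obtain ⟨r, hr, hrA, h, _⟩ := htrS x (g a₀) hx hga
      exact ⟨g⁻¹ * r, mul_mem (inv_mem hg) hr, mul_mem (inv_mem hgA) hrA, by rw [Perm.mul_apply, h, inv_apply']⟩
  have h2K : ∀ {a b c d : α} (_ : a ≠ b) (_ : c ≠ d), ∃ g : K, g • a = c ∧ g • b = d := by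
    intro a b c d hab hcd
    obtain ⟨g1, hg1, _, e1⟩ := htr1 a
    obtain ⟨g2, hg2, _, e2⟩ := htr1 c
    have hb : g1 b ≠ a₀ := fun h => hab (g1.injective (e1.trans h.symm))
    have hd : g2 d ≠ a₀ := fun h => hcd (g2.injective (e2.trans h.symm))
    obtain ⟨r, hr, _, h1, h2⟩ := htrS _ _ hb hd
    refine ⟨⟨g2⁻¹ * r * g1, mul_mem (mul_mem (inv_mem hg2) hr) hg1⟩, ?_, ?_⟩
    · change (g2⁻¹ * r * g1) a = c
      rw [Perm.mul_apply, Perm.mul_apply, e1, h2, ← e2, inv_apply']
    · change (g2⁻¹ * r * g1) b = d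
      rw [Perm.mul_apply, Perm.mul_apply, h1, inv_apply']
  have h2K' : IsMultiplyPretransitive K α 2 := is_two_pretransitive_iff.2 h2K
  have hprim : IsPreprimitive K α := isPreprimitive_of_is_two_pretransitive h2K'
  by_cases hk3 : 3 ≤ k
  · -- 3-cycle
    have h8 : 8 ≤ 2 ^ k := by
      calc 8 = 2 ^ 3 := by norm_num
        _ ≤ 2 ^ k := Nat.pow_le_pow_right (by norm_num) hk3
    -- even double swaps
    have hE : ∀ x y, x ≠ a₀ → y ≠ a₀ → swap x (μ x) * swap y (μ y) ∈ K := fun x y hx hy =>
      hK _ (mul_mem (hμ.mem x) (hμ.mem y)) (swap_swap_mem_alt (hnf x hx).symm (hnf y hy).symm)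
    let μ' : Perm α := g * μ * g⁻¹
    have hμ'inv : ∀ a, μ' (μ' a) = a := by
      intro a
      change g (μ (g⁻¹ (g (μ (g⁻¹ a))))) = a
      rw [inv_apply', hμ.invol, apply_inv']
    have hE' : ∀ x y, x ≠ g a₀ → y ≠ g a₀ → swap x (μ' x) * swap y (μ' y) ∈ K := by
      intro x y hx hy
      have hx' : g⁻¹ x ≠ a₀ := fun h => hx (by rw [← h, apply_inv'])
      have hy' : g⁻¹ y ≠ a₀ := fun h => hy (by rw [← h, apply_inv'])
      have h1 := mul_mem (mul_mem hg (hE _ _ hx' hy')) (inv_mem hg)
      have h2 : g * (swap (g⁻¹ x) (μ (g⁻¹ x)) * swap (g⁻¹ y) (μ (g⁻¹ y))) * g⁻¹ =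
          (g * swap (g⁻¹ x) (μ (g⁻¹ x)) * g⁻¹) * (g * swap (g⁻¹ y) (μ (g⁻¹ y)) * g⁻¹) := by group
      rw [h2, conj_swap, conj_swap, apply_inv', apply_inv'] at h1
      exact h1
    have hnf' : ∀ x, x ≠ g a₀ → μ' x ≠ x := by
      intro x hx h
      have hx' : g⁻¹ x ≠ a₀ := fun h => hx (by rw [← h, apply_inv'])
      apply hnf _ hx'
      apply g.injective
      rw [apply_inv']
      exact h
    set c := μ' a₀ with hc
    have hca : c ≠ a₀ := hnf' a₀ hga.symm
    set d := μ c with hd
    have hdc : d ≠ c := hnf c hca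
    have hda : d ≠ a₀ := fun h => hca (by
      have : μ d = c := by rw [hd, hμ.invol]
      rw [← this, h, hμa])
    have hμd : μ d = c := by rw [hd, hμ.invol]
    have hμ'c : μ' c = a₀ := by rw [hc, hμ'inv]
    obtain ⟨x, hx⟩ : ∃ x, x ∉ ({a₀, c, d, μ' d, g a₀} : Finset α) := by
      by_contra hcon
      push Not at hcon
      have : (Finset.univ : Finset α) ⊆ {a₀, c, d, μ' d, g a₀} := fun w _ => hcon w
      have h2 := Finset.card_le_card this
      have h3 : ({a₀, c, d, μ' d, g a₀} : Finset α).card ≤ 5 := Finset.card_le_five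
      rw [Finset.card_univ] at h2
      omega
    simp only [Finset.mem_insert, Finset.mem_singleton, not_or] at hx
    obtain ⟨hx1, hx2, hx3, hx4, hx5⟩ : x ≠ a₀ ∧ x ≠ c ∧ x ≠ d ∧ x ≠ μ' d ∧ x ≠ g a₀ := hx
    have hx'x : μ' x ≠ x := hnf' x hx5
    obtain ⟨z, hz⟩ : ∃ z, z ∉ ({c, d, a₀, x, μ' x} ∪ {μ x, μ (μ' x)} : Finset α) := by
      by_contra hcon
      push Not at hcon
      have : (Finset.univ : Finset α) ⊆ ({c, d, a₀, x, μ' x} ∪ {μ x, μ (μ' x)} : Finset α) := fun w _ => hcon w
      have h2 := Finset.card_le_card this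
      have h3 : ({c, d, a₀, x, μ' x} : Finset α).card ≤ 5 := Finset.card_le_five
      have h4 : ({μ x, μ (μ' x)} : Finset α).card ≤ 2 := Finset.card_le_two
      have h5 := Finset.card_union_le ({c, d, a₀, x, μ' x} : Finset α) {μ x, μ (μ' x)}
      rw [Finset.card_univ] at h2
      omega
    simp only [Finset.mem_union, Finset.mem_insert, Finset.mem_singleton, not_or] at hz
    obtain ⟨⟨hz1, hz2, hz3, hz4, hz5⟩, hz6, hz7⟩ :
      (z ≠ c ∧ z ≠ d ∧ z ≠ a₀ ∧ z ≠ x ∧ z ≠ μ' x) ∧ z ≠ μ x ∧ z ≠ μ (μ' x) := hz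
    have y1 : μ' x ≠ a₀ := fun h => hx2 (by rw [hc, ← h, hμ'inv])
    have y2 : μ' x ≠ c := fun h => hx1 (by rw [← hμ'inv x, h, hμ'c])
    have y3 : μ' x ≠ d := fun h => hx4 (by rw [← h, hμ'inv])
    have z1 : μ z ≠ c := fun h => hz2 (by rw [hd, ← h, hμ.invol])
    have z2 : μ z ≠ d := fun h => hz1 (by rw [← hμ.invol z, h, hμd])
    have z4 : μ z ≠ x := fun h => hz6 (by rw [← h, hμ.invol])
    have z5 : μ z ≠ μ' x := fun h => hz7 (by rw [← h, hμ.invol])
    have hu : swap a₀ c * swap x (μ' x) ∈ K := hE' a₀ x hga.symm hx5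
    have hv : swap c d * swap z (μ z) ∈ K := hE c z hca hz3
    set W := swap x (μ' x) * swap z (μ z) with hW
    set T := swap c a₀ * swap c d with hT
    have hcomm1 : swap x (μ' x) * swap c d = swap c d * swap x (μ' x) := by
      have := conj_swap (swap x (μ' x)) c d
      rw [swap_apply_of_ne_of_ne hx2.symm y2.symm, swap_apply_of_ne_of_ne hx3.symm y3.symm] at this
      exact mul_inv_eq_iff_eq_mul.mp this
    have huv : (swap a₀ c * swap x (μ' x)) * (swap c d * swap z (μ z)) = T * W := by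
      rw [hT, hW, swap_comm c a₀]
      calc (swap a₀ c * swap x (μ' x)) * (swap c d * swap z (μ z)) =
          swap a₀ c * (swap x (μ' x) * swap c d) * swap z (μ z) := by group
        _ = _ := by rw [hcomm1]; group
    have hWT : W * T = T * W := by
      have e1 : W * T * W⁻¹ = T := by
        rw [hT]
        have : W * (swap c a₀ * swap c d) * W⁻¹ = (W * swap c a₀ * W⁻¹) * (W * swap c d * W⁻¹) := by group
        rw [this, conj_swap, conj_swap]
        have w1 : W c = c := by
          rw [hW, Perm.mul_apply, swap_apply_of_ne_of_ne hz1.symm z1.symm, swap_apply_of_ne_of_ne hx2.symm y2.symm]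
        have w2 : W a₀ = a₀ := by
          have : μ z ≠ a₀ := fun h => hz3 (by rw [← hμ.invol z, h, hμa])
          rw [hW, Perm.mul_apply, swap_apply_of_ne_of_ne hz3.symm this.symm, swap_apply_of_ne_of_ne hx1.symm y1.symm]
        have w3 : W d = d := by
          rw [hW, Perm.mul_apply, swap_apply_of_ne_of_ne hz2.symm z2.symm, swap_apply_of_ne_of_ne hx3.symm y3.symm]
        rw [w1, w2, w3]
      calc W * T = (W * T * W⁻¹) * W := by group
        _ = T * W := by rw [e1]
    have hWW : W * W = 1 := by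
      have e1 : swap x (μ' x) * swap z (μ z) = swap z (μ z) * swap x (μ' x) := by
        have := conj_swap (swap x (μ' x)) z (μ z)
        rw [swap_apply_of_ne_of_ne hz4 hz5, swap_apply_of_ne_of_ne z4 z5] at this
        exact mul_inv_eq_iff_eq_mul.mp this
      calc W * W = swap x (μ' x) * swap z (μ z) * (swap z (μ z) * swap x (μ' x)) := by rw [hW, ← e1]
        _ = swap x (μ' x) * (swap z (μ z) * swap z (μ z)) * swap x (μ' x) := by group
        _ = 1 := by rw [swap_mul_self, mul_one, swap_mul_self]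
    have hTT : T * T ∈ K := by
      have h1 := mul_mem (mul_mem hu hv) (mul_mem hu hv)
      rw [huv] at h1
      have : T * W * (T * W) = T * T := by
        calc T * W * (T * W) = T * (W * T) * W := by group
          _ = T * T * (W * W) := by rw [hWT]; group
          _ = T * T := by rw [hWW, mul_one]
      rwa [this] at h1
    have hT3 : T.IsThreeCycle := Perm.isThreeCycle_swap_mul_swap_same hca hdc.symm hda.symm
    exact Perm.alternatingGroup_le_of_isPreprimitive_of_isThreeCycle_mem hprim hT3.isThreeCycle_sq hTT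
  · -- n = 5
    obtain rfl : k = 2 := by omega
    have h5 : Fintype.card α = 5 := by rw [hn]; norm_num
    have : Nontrivial α := by rw [← Fintype.one_lt_card_iff_nontrivial]; omega
    have hcard : Nat.card (alternatingGroup α) = 60 := by
      rw [nat_card_alternatingGroup, Nat.card_eq_fintype_card, h5]; simp [Nat.factorial]
    let H : Subgroup (alternatingGroup α) := K.comap (alternatingGroup α).subtype
    have hSH : (S : Subgroup (alternatingGroup α)) ≤ H := by
      rw [hS2]
      intro x hx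
      exact hK _ hx x.2
    have h4 : 4 ∣ Nat.card H := by
      have h1 := Subgroup.card_dvd_of_le hSH
      have hSc : Nat.card S = 4 := by
        have := S.card_eq_multiplicity
        rw [this, hcard]
        have : Nat.factorization 60 2 = 2 := by
          rw [Nat.factorization_def _ Nat.prime_two]
          have : (60 : ℕ) = 2 ^ 2 * 15 := by norm_num
          rw [this, padicValNat.mul (by norm_num) (by norm_num), padicValNat.prime_pow,
            padicValNat.eq_zero_of_not_dvd (by norm_num)]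
        rw [this]; norm_num
      have h2 : Nat.card (S : Subgroup (alternatingGroup α)) = 4 := hSc
      rwa [h2] at h1
    have h5' : 5 ∣ Nat.card H := by
      have hpt : IsPretransitive H α := ⟨fun x y => by
        obtain ⟨g1, hg1, hg1A, e1⟩ := htr1 x
        obtain ⟨g2, hg2, hg2A, e2⟩ := htr1 y
        refine ⟨⟨⟨g2⁻¹ * g1, mul_mem (inv_mem hg2A) hg1A⟩, mul_mem (inv_mem hg2) hg1⟩, ?_⟩
        change (g2⁻¹ * g1) x = y
        rw [Perm.mul_apply, e1, ← e2, inv_apply']⟩
      have := index_stabilizer_of_transitive H a₀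
      rw [Nat.card_eq_fintype_card, h5] at this
      rw [← this]
      exact Subgroup.index_dvd_card _
    have h20 : 20 ∣ Nat.card H := by
      have : Nat.Coprime 4 5 := by norm_num
      exact this.mul_dvd_of_dvd_of_dvd h4 h5'
    have hH := a5_index h5 h20
    intro x hx
    have : (⟨x, hx⟩ : alternatingGroup α) ∈ H := by rw [hH]; trivial
    exact this

end H42.AltGen
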