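import Cfsg.Agent.Lib.H42.InvCK
import Cfsg.Agent.Lib.H22.ChevRel

/-!
Characteristic two: computing with the matrices `x_r(1)` of a Chevalley datum through bit masks.
-/

set_option autoImplicit false

namespace H42.Inv2M

open H22.RCPack H42.InvCK
open Cfsg.Lie (ChevalleyDatum)
open scoped Matrix

variable {D : ChevalleyDatum} {F : Type*} [Field F]

/-- codes of coordinates -/
def cd : D.Idx → ℕ
  | Sum.inl i => i
  | Sum.inr s => D.rank + s

theorem cd_inl (i : Fin D.rank) : cd (Sum.inl i : D.Idx) = i := rfl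
theorem cd_inr (s : Fin D.nroots) : cd (Sum.inr s : D.Idx) = D.rank + s := rfl

theorem cd_inj : Function.Injective (cd (D := D)) := by
  rintro (i | s) (j | t) h
  · rw [cd_inl, cd_inl] at h; rw [Fin.ext h]
  · rw [cd_inl, cd_inr] at h; omega
  · rw [cd_inl, cd_inr] at h; omega
  · rw [cd_inr, cd_inr] at h
    have : s = t := Fin.ext (by omega)
    rw [this]

theorem cd_lt (x : D.Idx) : cd x < D.rank + D.nroots := by
  rcases x with i | s
  · rw [cd_inl]; omega
  · rw [cd_inr]; omega

theorem exists_cd {j : ℕ} (h : j < D.rank + D.nroots) : ∃ x : D.Idx, cd x = j := by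
  by_cases h1 : j < D.rank
  · exact ⟨Sum.inl ⟨j, h1⟩, rfl⟩
  · exact ⟨Sum.inr ⟨j - D.rank, by omega⟩, by rw [cd_inr]; show D.rank + (j - D.rank) = j; omega⟩

/-- the vector of a mask -/
def vec (F : Type*) [Field F] (b : ℕ) : D.Idx → F := fun x => if b.testBit (cd x) then 1 else 0

theorem vec_apply (b : ℕ) (x : D.Idx) : vec F b x = if b.testBit (cd x) then 1 else 0 := rfl

theorem vec_xor (h2F : (2 : F) = 0) (a b : ℕ) : (vec F (a ^^^ b) : D.Idx → F) = vec F a + vec F b := by
  have h : (1 : F) + 1 = 0 := by rw [← h2F]; norm_num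
  funext x
  rw [Pi.add_apply, vec_apply, vec_apply, vec_apply, Nat.testBit_xor]
  rcases a.testBit (cd x) <;> rcases b.testBit (cd x) <;> simp [h]

@[simp] theorem vec_zero : (vec F 0 : D.Idx → F) = 0 := by
  funext x; rw [vec_apply]; simp

theorem vec_pow (k : ℕ) (x : D.Idx) : vec F (2 ^ k) x = if k = cd x then 1 else 0 := by
  rw [vec_apply, Nat.testBit_two_pow]; simp

theorem vec_pow_cd (y : D.Idx) : (vec F (2 ^ cd y) : D.Idx → F) = Pi.single y 1 := by
  funext x
  rw [vec_pow]
  by_cases h : x = y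
  · subst h; simp
  · rw [Pi.single_eq_of_ne h, if_neg]
    intro h'; exact h (cd_inj h').symm

theorem cast_parity (h2F : (2 : F) = 0) (z : ℤ) : (z : F) = if oddB z then 1 else 0 := by
  by_cases h : Odd z
  · rw [if_pos ((oddB_iff z).2 h)]
    obtain ⟨m, rfl⟩ := h
    push_cast
    rw [h2F]; ring
  · have h' : Even z := Int.not_odd_iff_even.1 h
    rw [if_neg (fun h'' => h ((oddB_iff z).1 h''))]
    obtain ⟨m, rfl⟩ := h'
    push_cast
    rw [← two_mul, h2F, zero_mul]

/-! ### columns -/

/-- mask of a chain entry -/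
def chm (l : ℕ) : List (ℕ × ℤ) → ℕ
  | [] => 0
  | e :: L => (bif oddB e.2 then 2 ^ (l + e.1) else 0) ^^^ chm l L

/-- mask of a column from a chain row -/
def chmask (l s : ℕ) : List (ℕ × Array (ℕ × ℤ)) → ℕ
  | [] => 0
  | e :: L => (bif Nat.beq e.1 s then chm l e.2.toList else 0) ^^^ chmask l s L

/-- mask of a coroot -/
def crm (f : ℕ → ℤ) : ℕ → ℕ
  | 0 => 0
  | n + 1 => (bif oddB (f n) then 2 ^ n else 0) ^^^ crm f n

/-- mask of the `j`-th column of `x_r(1) - 1` -/
def colmask (D : ChevalleyDatum) (r : ℕ) (row : List (ℕ × Array (ℕ × ℤ))) (j : ℕ) : ℕ :=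
  bif Nat.ble (j + 1) D.rank then (bif oddB (D.cartan j r) then 2 ^ (D.rank + r) else 0)
  else bif Nat.beq j (D.rank + r) then 0
  else bif Nat.beq j (D.rank + D.neg r) then
    crm (fun i => (D.coroot.getD r #[]).getD i 0) D.rank ^^^ 2 ^ (D.rank + r)
  else chmask D.rank (j - D.rank) row

theorem vec_bif (h2F : (2 : F) = 0) (z : ℤ) (k : ℕ) (x : D.Idx) :
    vec F (bif oddB z then 2 ^ k else 0) x = if k = cd x then (z : F) else 0 := by
  rw [cast_parity h2F z]
  rcases oddB z
  · simp
  · simp [vec_pow]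

theorem vec_crm (h2F : (2 : F) = 0) (f : ℕ → ℤ) (n : ℕ) (x : D.Idx) :
    vec F (crm f n) x = if cd x < n then (f (cd x) : F) else 0 := by
  induction n with
  | zero => simp [crm]
  | succ n ih =>
    rw [crm, vec_xor h2F, Pi.add_apply, ih, vec_bif h2F]
    by_cases h1 : n = cd x
    · subst h1; simp
    · rw [if_neg h1, zero_add]
      by_cases h2 : cd x < n
      · rw [if_pos h2, if_pos (by omega)]
      · rw [if_neg h2, if_neg (by omega)]

theorem vec_chm_inl (h2F : (2 : F) = 0) (L : List (ℕ × ℤ)) (i : Fin D.rank) :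
    vec F (chm D.rank L) (Sum.inl i : D.Idx) = 0 := by
  induction L with
  | nil => simp [chm]
  | cons e L ih =>
    rw [chm, vec_xor h2F, Pi.add_apply, ih, vec_bif h2F, cd_inl, if_neg (by omega), add_zero]

theorem vec_chmask_inl (h2F : (2 : F) = 0) (s : ℕ) (L : List (ℕ × Array (ℕ × ℤ))) (i : Fin D.rank) :
    vec F (chmask D.rank s L) (Sum.inl i : D.Idx) = 0 := by
  induction L with
  | nil => simp [chmask]
  | cons e L ih =>
    rw [chmask, vec_xor h2F, Pi.add_apply, ih, add_zero]
    rcases Nat.beq e.1 s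
    · simp
    · simpa using vec_chm_inl h2F _ i

theorem vec_chm_inr (h2F : (2 : F) = 0) (L : List (ℕ × ℤ)) (u : Fin D.nroots) (k : ℕ) :
    ((((L.zipIdx k).filter (fun q => q.1.1 = (u : ℕ))).map fun q => ((q.2 + 1, q.1.2) : ℕ × ℤ)).map
      fun km => ((km.2 : ℤ) : F) * (1 : F) ^ km.1).sum = vec F (chm D.rank L) (Sum.inr u : D.Idx) := by
  induction L generalizing k with
  | nil => simp [chm]
  | cons e L ih =>
    rw [chm, vec_xor h2F, Pi.add_apply, vec_bif h2F, List.zipIdx_cons, List.filter_cons, cd_inr]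
    by_cases h : e.1 = (u : ℕ)
    · rw [if_pos (by simpa using h), List.map_cons, List.map_cons, List.sum_cons, ih, if_pos (by omega)]
      simp
    · rw [if_neg (by simpa using h), ih, if_neg (by omega), zero_add]

theorem vec_chmask_inr (h2F : (2 : F) = 0) (s : ℕ) (L : List (ℕ × Array (ℕ × ℤ))) (u : Fin D.nroots) :
    (((L.filter (fun e => e.1 = s)).flatMap fun e =>
      ((e.2.toList.zipIdx).filter (fun q => q.1.1 = (u : ℕ))).map fun q => ((q.2 + 1, q.1.2) : ℕ × ℤ)).map
      fun km => ((km.2 : ℤ) : F) * (1 : F) ^ km.1).sum = vec F (chmask D.rank s L) (Sum.inr u : D.Idx) := by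
  induction L with
  | nil => simp [chmask]
  | cons e L ih =>
    rw [chmask, vec_xor h2F, Pi.add_apply, List.filter_cons]
    by_cases h : e.1 = s
    · rw [if_pos (by simpa using h), List.flatMap_cons, List.map_append, List.sum_append, ih,
        vec_chm_inr h2F]
      have : Nat.beq e.1 s = true := by rw [h]; simp
      rw [this]; simp
    · rw [if_neg (by simpa using h), ih]
      have : Nat.beq e.1 s = false := by
        rw [Bool.eq_false_iff]; intro h'; exact h (Nat.eq_of_beq_eq_true h')
      rw [this]; simp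

theorem vec_pow_inl (k : ℕ) (i : Fin D.rank) :
    vec F (2 ^ k) (Sum.inl i : D.Idx) = if k = (i : ℕ) then 1 else 0 := vec_pow k _
theorem vec_pow_inr (k : ℕ) (u : Fin D.nroots) :
    vec F (2 ^ k) (Sum.inr u : D.Idx) = if k = D.rank + (u : ℕ) then 1 else 0 := vec_pow k _
theorem vec_bif_inl (h2F : (2 : F) = 0) (z : ℤ) (k : ℕ) (i : Fin D.rank) :
    vec F (bif oddB z then 2 ^ k else 0) (Sum.inl i : D.Idx) = if k = (i : ℕ) then (z : F) else 0 :=
  vec_bif h2F z k _
theorem vec_bif_inr (h2F : (2 : F) = 0) (z : ℤ) (k : ℕ) (u : Fin D.nroots) :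
    vec F (bif oddB z then 2 ^ k else 0) (Sum.inr u : D.Idx) =
      if k = D.rank + (u : ℕ) then (z : F) else 0 := vec_bif h2F z k _
theorem vec_crm_inl (h2F : (2 : F) = 0) (f : ℕ → ℤ) (i : Fin D.rank) :
    vec F (crm f D.rank) (Sum.inl i : D.Idx) = (f i : F) := by
  rw [vec_crm h2F, if_pos (by rw [cd_inl]; exact i.2), cd_inl]
theorem vec_crm_inr (h2F : (2 : F) = 0) (f : ℕ → ℤ) (u : Fin D.nroots) :
    vec F (crm f D.rank) (Sum.inr u : D.Idx) = 0 := by
  rw [vec_crm h2F, if_neg (by rw [cd_inr]; omega)]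

theorem x_entry (h2F : (2 : F) = 0) {r : ℕ} (hr : r < D.nroots) (row col : D.Idx) :
    D.x F r 1 row col =
      vec F (2 ^ cd col ^^^ colmask D r (D.chain.getD r #[]).toList (cd col)) row := by
  have hn : (-1 : F) = 1 := by linear_combination (-1) * h2F
  have hneg : ∀ z : F, -z = z := by intro z; rw [← neg_one_mul, hn, one_mul]
  rw [vec_xor h2F, Pi.add_apply]
  unfold ChevalleyDatum.x
  rw [dif_pos hr]
  unfold ChevalleyDatum.xMat
  rw [Matrix.of_apply]
  rcases col with i | s
  · have e1 : Nat.ble (cd (Sum.inl i : D.Idx) + 1) D.rank = true := by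
      rw [cd_inl]; exact Nat.ble_eq_true_of_le i.2
    unfold colmask
    rw [e1, cond_true, cd_inl]
    simp only
    rcases row with i' | u
    · rw [vec_pow_inl, vec_bif_inl h2F]
      simp only
      rw [if_neg (show ¬ (D.rank + r = (i' : ℕ)) by omega), add_zero]
      by_cases h : i' = i
      · rw [if_pos h, if_pos (by rw [h])]
      · rw [if_neg h, if_neg (fun h' => h (Fin.ext h'.symm))]
    · rw [vec_pow_inr, vec_bif_inr h2F]
      simp only
      rw [if_neg (show ¬ ((i : ℕ) = D.rank + u) by omega), zero_add]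
      by_cases h : u = ⟨r, hr⟩
      · rw [if_pos h, if_pos (by rw [h]), mul_one, hneg]; rfl
      · rw [if_neg h, if_neg (fun h' => h (Fin.ext (by simp only; omega)))]
  · have e1 : Nat.ble (cd (Sum.inr s : D.Idx) + 1) D.rank = false := by
      rw [cd_inr, Bool.eq_false_iff]; intro h; have := Nat.le_of_ble_eq_true h; omega
    unfold colmask
    rw [e1, cond_false]
    simp only
    by_cases hs : s = ⟨r, hr⟩
    · have e2 : Nat.beq (cd (Sum.inr s : D.Idx)) (D.rank + r) = true := by
        rw [cd_inr, hs]; simp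
      rw [e2, cond_true, if_pos hs, vec_zero, Pi.zero_apply, add_zero, cd_inr]
      rcases row with i' | u
      · rw [vec_pow_inl]
        simp only
        rw [if_neg (show ¬ (D.rank + (s : ℕ) = (i' : ℕ)) by omega)]
      · rw [vec_pow_inr]
        simp only
        by_cases h : u = ⟨r, hr⟩
        · rw [if_pos h, if_pos (by rw [hs, h])]
        · rw [if_neg h, if_neg]
          intro h'
          apply h
          rw [← hs]
          exact Fin.ext (by omega)
    · have e2 : Nat.beq (cd (Sum.inr s : D.Idx)) (D.rank + r) = false := by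
        rw [cd_inr, Bool.eq_false_iff]; intro h
        have := Nat.eq_of_beq_eq_true h
        exact hs (Fin.ext (by simp only; omega))
      rw [e2, cond_false, if_neg hs]
      by_cases hs2 : (s : ℕ) = D.neg r
      · have e3 : Nat.beq (cd (Sum.inr s : D.Idx)) (D.rank + D.neg r) = true := by
          rw [cd_inr, hs2]; simp
        rw [e3, cond_true, vec_xor h2F, Pi.add_apply, cd_inr]
        have hs2' : (s : ℕ) = D.negIdx.getD r 0 := hs2
        rw [if_pos hs2']
        rcases row with i' | u
        · rw [vec_pow_inl, vec_crm_inl h2F, vec_pow_inl]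
          simp only
          rw [if_neg (show ¬ (D.rank + (s : ℕ) = (i' : ℕ)) by omega),
            if_neg (show ¬ (D.rank + r = (i' : ℕ)) by omega)]
          simp
        · rw [vec_pow_inr, vec_crm_inr h2F, vec_pow_inr]
          simp only
          rw [zero_add]
          by_cases h1 : u = s
          · rw [if_pos h1, if_pos (by rw [h1]), if_neg, add_zero]
            intro h
            apply hs
            rw [← h1]
            exact Fin.ext (by simp only; omega)
          · rw [if_neg h1, if_neg (show ¬ (D.rank + (s : ℕ) = D.rank + (u : ℕ)) from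
              fun h => h1 (Fin.ext (by omega))), zero_add]
            by_cases h2 : u = ⟨r, hr⟩
            · rw [if_pos h2, if_pos (by rw [h2]), hneg, one_pow]
            · rw [if_neg h2, if_neg (fun h => h2 (Fin.ext (by simp only; omega)))]
      · have e3 : Nat.beq (cd (Sum.inr s : D.Idx)) (D.rank + D.neg r) = false := by
          rw [cd_inr, Bool.eq_false_iff]; intro h
          have := Nat.eq_of_beq_eq_true h
          exact hs2 (by omega)
        have hs2' : ¬ (s : ℕ) = D.negIdx.getD r 0 := hs2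
        rw [e3, cond_false, if_neg hs2']
        have e4 : cd (Sum.inr s : D.Idx) - D.rank = s := by rw [cd_inr]; omega
        rw [e4, cd_inr]
        rcases row with i' | u
        · rw [vec_chmask_inl h2F, vec_pow_inl]
          simp only
          rw [if_neg (show ¬ (D.rank + (s : ℕ) = (i' : ℕ)) by omega), add_zero]
        · rw [← vec_chmask_inr h2F (s : ℕ) (D.chain.getD r #[]).toList u, vec_pow_inr]
          simp only
          unfold ChevalleyDatum.chainCoeff
          congr 1
          by_cases h1 : u = s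
          · rw [if_pos h1, if_pos (by rw [h1])]
          · rw [if_neg h1, if_neg (fun h => h1 (Fin.ext (by omega)))]

/-! ### sparse operators -/

/-- total mask attached to an index -/
def look (j : ℕ) : List (ℕ × ℕ) → ℕ
  | [] => 0
  | p :: L => (bif Nat.beq p.1 j then p.2 else 0) ^^^ look j L

/-- the nilpotent part applied to a mask -/
def nact (b : ℕ) : List (ℕ × ℕ) → ℕ
  | [] => 0
  | p :: L => (bif b.testBit p.1 then p.2 else 0) ^^^ nact b L

/-- the action of `x_r(1)` on masks -/
def act (ops : List (ℕ × ℕ)) (b : ℕ) : ℕ := b ^^^ nact b ops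

def ckOpsAux (D : ChevalleyDatum) (r : ℕ) (row : List (ℕ × Array (ℕ × ℤ))) (ops : List (ℕ × ℕ)) : Bool :=
  allN (fun j => Nat.beq (colmask D r row j) (look j ops)) (D.rank + D.nroots) &&
  allL (fun p => Nat.ble (p.1 + 1) (D.rank + D.nroots)) ops && Nat.ble (r + 1) D.nroots

def ckOps (D : ChevalleyDatum) (r : ℕ) (ops : List (ℕ × ℕ)) : Bool :=
  ckOpsAux D r (D.chain.getD r #[]).toList ops

theorem sum_look (h2F : (2 : F) = 0) (b : ℕ) (y : D.Idx) : ∀ ops : List (ℕ × ℕ),
    (∀ p ∈ ops, p.1 < D.rank + D.nroots) →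
    ∑ x : D.Idx, (if b.testBit (cd x) then vec F (look (cd x) ops) y else 0) = vec F (nact b ops) y := by
  intro ops
  induction ops with
  | nil => intro _; simp [look, nact]
  | cons p L ih =>
    intro h
    have ih' := ih fun q hq => h q (List.mem_cons_of_mem _ hq)
    rw [nact, vec_xor h2F, Pi.add_apply, ← ih']
    have : ∀ x : D.Idx, (if b.testBit (cd x) then vec F (look (cd x) (p :: L)) y else 0) =
        (if b.testBit (cd x) then vec F (bif Nat.beq p.1 (cd x) then p.2 else 0) y else 0) +
        (if b.testBit (cd x) then vec F (look (cd x) L) y else 0) := by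
      intro x
      rw [look, vec_xor h2F, Pi.add_apply]
      split_ifs
      · rfl
      · simp
    rw [Finset.sum_congr rfl fun x _ => this x, Finset.sum_add_distrib]
    congr 1
    obtain ⟨x, hx⟩ := exists_cd (h p List.mem_cons_self)
    rw [Finset.sum_eq_single x]
    · rw [hx]
      have : Nat.beq p.1 p.1 = true := by simp
      rw [this, cond_true]
      rcases b.testBit p.1 <;> simp
    · intro z _ hz
      have : Nat.beq p.1 (cd z) = false := by
        rw [Bool.eq_false_iff]; intro h'
        apply hz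
        apply cd_inj
        rw [hx]; exact (Nat.eq_of_beq_eq_true h').symm
      rw [this]; simp
    · intro h'; exact absurd (Finset.mem_univ x) h'

theorem mulVec_x (h2F : (2 : F) = 0) {r : ℕ} {ops : List (ℕ × ℕ)} (h : ckOps D r ops = true) (b : ℕ) :
    D.x F r 1 *ᵥ vec F b = vec F (act ops b) := by
  unfold ckOps ckOpsAux at h
  simp only [Bool.and_eq_true] at h
  obtain ⟨⟨h1, h2⟩, h3⟩ := h
  have hr : r < D.nroots := Nat.le_of_ble_eq_true h3
  have hops : ∀ p ∈ ops, p.1 < D.rank + D.nroots := fun p hp => Nat.le_of_ble_eq_true (allL_spec h2 p hp)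
  funext y
  unfold act
  rw [vec_xor h2F, Pi.add_apply, ← sum_look h2F b y ops hops]
  unfold Matrix.mulVec dotProduct
  have e : ∀ x : D.Idx, D.x F r 1 y x * vec F b x =
      (if b.testBit (cd x) then vec F (2 ^ cd x) y else 0) +
      (if b.testBit (cd x) then vec F (look (cd x) ops) y else 0) := by
    intro x
    have h4 := allN_spec h1 (cd x) (cd_lt x)
    rw [x_entry h2F hr, Nat.eq_of_beq_eq_true h4, vec_xor h2F, Pi.add_apply, vec_apply b x]
    split_ifs <;> ring
  rw [Finset.sum_congr rfl fun x _ => e x, Finset.sum_add_distrib]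
  congr 1
  rw [Finset.sum_eq_single y]
  · rw [vec_pow, if_pos rfl, vec_apply]
  · intro z _ hz
    rw [vec_pow, if_neg (fun h => hz (cd_inj h))]; simp
  · intro h'; exact absurd (Finset.mem_univ y) h'

/-! ### words -/

variable (O : ℕ → List (ℕ × ℕ))

/-- action of a word of roots -/
def wact : List ℕ → ℕ → ℕ
  | [], b => b
  | r :: W, b => act (O r) (wact W b)

/-- the matrix of a word -/
def wm (D : ChevalleyDatum) (F : Type*) [Field F] (W : List ℕ) : Matrix D.Idx D.Idx F :=
  (W.map fun r => D.x F r 1).prod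

theorem wm_cons (r : ℕ) (W : List ℕ) : wm D F (r :: W) = D.x F r 1 * wm D F W := by simp [wm]

variable {O}

theorem wm_mulVec (h2F : (2 : F) = 0) {W : List ℕ} (h : ∀ r ∈ W, ckOps D r (O r) = true) (b : ℕ) :
    wm D F W *ᵥ vec F b = vec F (wact O W b) := by
  induction W with
  | nil => simp [wm, wact]
  | cons r W ih =>
    rw [wm_cons, ← Matrix.mulVec_mulVec, ih fun s hs => h s (List.mem_cons_of_mem _ hs),
      mulVec_x h2F (h r List.mem_cons_self)]
    rfl

/-- equality of two words -/
def eqW (O : ℕ → List (ℕ × ℕ)) (N : ℕ) (W W' : List ℕ) : Bool :=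
  allN (fun k => Nat.beq (wact O W (2 ^ k)) (wact O W' (2 ^ k))) N

theorem eqW_spec (h2F : (2 : F) = 0) {W W' : List ℕ} (h : ∀ r ∈ W, ckOps D r (O r) = true)
    (h' : ∀ r ∈ W', ckOps D r (O r) = true) (e : eqW O (D.rank + D.nroots) W W' = true) :
    wm D F W = wm D F W' := by
  apply Matrix.ext_of_mulVec_single
  intro x
  rw [← vec_pow_cd, wm_mulVec h2F h, wm_mulVec h2F h']
  have := Nat.eq_of_beq_eq_true (allN_spec e (cd x) (cd_lt x))
  rw [this]

/-! ### ranks -/

/-- vectors supported on a mask -/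
def supV (D : ChevalleyDatum) (F : Type*) [Field F] (P : ℕ) : Submodule F (D.Idx → F) where
  carrier := {w | ∀ x : D.Idx, P.testBit (cd x) = false → w x = 0}
  add_mem' := by
    intro a b ha hb x hx
    rw [Pi.add_apply, ha x hx, hb x hx, add_zero]
  zero_mem' := fun _ _ => rfl
  smul_mem' := by
    intro c a ha x hx
    rw [Pi.smul_apply, ha x hx, smul_zero]

/-- the rank of `M - 1` on the vectors supported on a mask -/
noncomputable def rkP (P : ℕ) (M : Matrix D.Idx D.Idx F) : ℕ :=
  Module.finrank F ((supV D F P).map (M - 1).mulVecLin)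

/-- the image vectors of a certificate -/
def imgs (O : ℕ → List (ℕ × ℕ)) (W : List ℕ) : List (ℕ × ℕ) → List (ℕ × ℕ)
  | [] => []
  | p :: L => (p.1, wact O W p.2 ^^^ p.2) :: imgs O W L

def redL (m : ℕ) : List (ℕ × ℕ) → ℕ
  | [] => 0
  | p :: L => (bif m.testBit p.1 then p.2 else 0) ^^^ redL m L

/-- biorthogonality of the image vectors with the pivots -/
def ckBi (A : List (ℕ × ℕ)) : Bool :=
  allIdx (fun i p => allIdx (fun j q => Bool.beq' (p.2.testBit q.1) (Nat.beq i j)) 0 A) 0 A
where Bool.beq' (a b : Bool) : Bool := bif a then b else !b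

def ckRank (O : ℕ → List (ℕ × ℕ)) (N : ℕ) (W : List ℕ) (P : ℕ) (A cert : List (ℕ × ℕ)) : Bool :=
  ckBi A && allL (fun p => Nat.ble (p.1 + 1) N) A &&
  allN (fun k => !(P.testBit k) ||
    Nat.beq (wact O W (2 ^ k) ^^^ 2 ^ k) (redL (wact O W (2 ^ k) ^^^ 2 ^ k) A)) N &&
  allL (fun p => Nat.beq (p.2 &&& P) p.2) cert

theorem mulVec_sub (h2F : (2 : F) = 0) {W : List ℕ} (h : ∀ r ∈ W, ckOps D r (O r) = true) (b : ℕ) :
    (wm D F W - 1) *ᵥ vec F b = vec F (wact O W b ^^^ b) := by
  have hn : (-1 : F) = 1 := by linear_combination (-1) * h2F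
  rw [Matrix.sub_mulVec, Matrix.one_mulVec, wm_mulVec h2F h, vec_xor h2F, sub_eq_add_neg]
  congr 1
  funext x
  rw [Pi.neg_apply, ← neg_one_mul, hn, one_mul]

theorem vec_redL (h2F : (2 : F) = 0) (m : ℕ) (A : List (ℕ × ℕ)) (S : Submodule F (D.Idx → F))
    (h : ∀ p ∈ A, vec F p.2 ∈ S) : vec F (redL m A) ∈ S := by
  induction A with
  | nil => rw [redL, vec_zero]; exact S.zero_mem
  | cons p A ih =>
    rw [redL, vec_xor h2F]
    apply S.add_mem _ (ih fun q hq => h q (List.mem_cons_of_mem _ hq))
    rcases m.testBit p.1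
    · rw [cond_false, vec_zero]; exact S.zero_mem
    · rw [cond_true]; exact h p List.mem_cons_self

theorem beq'_spec {a b : Bool} (h : ckBi.Bool.beq' a b = true) : a = b := by
  revert h; cases a <;> cases b <;> simp [ckBi.Bool.beq']

theorem mem_imgs {W : List ℕ} {cert : List (ℕ × ℕ)} {p : ℕ × ℕ} (h : p ∈ imgs O W cert) :
    ∃ q, (p.1, q) ∈ cert ∧ p.2 = wact O W q ^^^ q := by
  induction cert with
  | nil => simp [imgs] at h
  | cons c L ih =>
    rw [imgs, List.mem_cons] at h
    rcases h with rfl | h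
    · exact ⟨c.2, by simp, rfl⟩
    · obtain ⟨q, hq, e⟩ := ih h
      exact ⟨q, List.mem_cons_of_mem _ hq, e⟩

theorem rank_spec (h2F : (2 : F) = 0) {W : List ℕ} (h : ∀ r ∈ W, ckOps D r (O r) = true) {P : ℕ}
    {cert : List (ℕ × ℕ)}
    (hc : ckRank O (D.rank + D.nroots) W P (imgs O W cert) cert = true) :
    rkP P (wm D F W) = (imgs O W cert).length := by
  unfold ckRank at hc
  simp only [Bool.and_eq_true] at hc
  obtain ⟨⟨⟨h1, h2⟩, h3⟩, h4⟩ := hc
  set A := imgs O W cert with hA
  have hlt : ∀ i : Fin A.length, (A.get i).1 < D.rank + D.nroots := fun i =>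
    Nat.le_of_ble_eq_true (allL_spec h2 _ (List.get_mem A i))
  have hx : ∀ i : Fin A.length, ∃ x : D.Idx, cd x = (A.get i).1 := fun i => exists_cd (hlt i)
  choose x hx using hx
  have hbi : ∀ i j : Fin A.length, vec F (A.get i).2 (x j) = if i = j then 1 else 0 := by
    intro i j
    unfold ckBi at h1
    have e1 := allIdx_spec h1 i i.2
    have e2 := allIdx_spec e1 j j.2
    have e3 := beq'_spec e2
    rw [vec_apply, hx j]
    rw [List.get_eq_getElem, List.get_eq_getElem, e3]
    by_cases hij : i = j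
    · subst hij; simp
    · have : ¬ (0 + (i : ℕ) = 0 + (j : ℕ)) := fun h => hij (Fin.ext (by omega))
      rw [if_neg hij, if_neg]
      intro h'
      exact this (Nat.eq_of_beq_eq_true h')
  have hsp : (supV D F P).map (wm D F W - 1).mulVecLin =
      Submodule.span F (Set.range fun i : Fin A.length => vec F (A.get i).2) := by
    apply le_antisymm
    · rw [Submodule.map_le_iff_le_comap]
      intro w hw
      rw [Submodule.mem_comap, Matrix.mulVecLin_apply]
      have ew : w = ∑ y : D.Idx, w y • (Pi.single y 1 : D.Idx → F) := by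
        funext z
        rw [Finset.sum_apply]
        rw [Finset.sum_eq_single z]
        · simp
        · intro y _ hy
          rw [Pi.smul_apply, Pi.single_eq_of_ne (Ne.symm hy), smul_zero]
        · intro h'; exact absurd (Finset.mem_univ z) h'
      rw [ew, Matrix.mulVec_sum]
      apply Submodule.sum_mem
      intro y _
      rw [Matrix.mulVec_smul]
      by_cases hy : P.testBit (cd y) = true
      · apply Submodule.smul_mem
        rw [← vec_pow_cd, mulVec_sub h2F h]
        have e4 := allN_spec h3 (cd y) (cd_lt y)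
        rw [hy, Bool.not_true, Bool.false_or] at e4
        rw [Nat.eq_of_beq_eq_true e4]
        apply vec_redL h2F
        intro p hp
        apply Submodule.subset_span
        obtain ⟨i, hi⟩ := List.get_of_mem hp
        exact ⟨i, by rw [← hi]⟩
      · have : w y = 0 := hw y (by simpa using hy)
        rw [this, zero_smul]; exact Submodule.zero_mem _
    · rw [Submodule.span_le]
      rintro _ ⟨i, rfl⟩
      obtain ⟨q, hq, e⟩ := mem_imgs (O := O) (W := W) (cert := cert) (List.get_mem A i)
      refine ⟨vec F q, ?_, ?_⟩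
      · intro y hy
        have e5 := Nat.eq_of_beq_eq_true (allL_spec h4 _ hq)
        simp only at e5
        rw [vec_apply, ← e5, Nat.testBit_and, hy]; simp
      · rw [Matrix.mulVecLin_apply, mulVec_sub h2F h]
        show _ = vec F (A.get i).2
        rw [e]
  unfold rkP
  rw [hsp, finrank_span_eq_card, Fintype.card_fin]
  rw [Fintype.linearIndependent_iff]
  intro g hg j
  have := congrFun hg (x j)
  rw [Finset.sum_apply, Pi.zero_apply] at this
  rw [← this, Finset.sum_eq_single j]
  · rw [Pi.smul_apply, hbi, if_pos rfl]; simp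
  · intro i _ hi
    rw [Pi.smul_apply, hbi, if_neg hi]; simp
  · intro h'; exact absurd (Finset.mem_univ j) h'

def eqLL : List (ℕ × ℕ) → List (ℕ × ℕ) → Bool
  | [], [] => true
  | a :: L, b :: M => Nat.beq a.1 b.1 && Nat.beq a.2 b.2 && eqLL L M
  | _, _ => false

theorem eqLL_spec : ∀ {L M : List (ℕ × ℕ)}, eqLL L M = true → L = M := by
  intro L
  induction L with
  | nil => intro M h; cases M with
    | nil => rfl
    | cons b M => simp [eqLL] at h
  | cons a L ih => intro M h; cases M with
    | nil => simp [eqLL] at h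
    | cons b M =>
      simp only [eqLL, Bool.and_eq_true] at h
      rw [ih h.2, Prod.ext (Nat.eq_of_beq_eq_true h.1.1) (Nat.eq_of_beq_eq_true h.1.2)]

theorem rank_spec' (h2F : (2 : F) = 0) {W : List ℕ} (h : ∀ r ∈ W, ckOps D r (O r) = true) {P : ℕ}
    {cert A : List (ℕ × ℕ)} (hA : eqLL (imgs O W cert) A = true)
    (hc : ckRank O (D.rank + D.nroots) W P A cert = true) :
    rkP P (wm D F W) = A.length := by
  have e := eqLL_spec hA
  rw [← e] at hc ⊢
  exact rank_spec h2F h hc

/-- conjugation by a matrix preserving the supported vectors does not change the rank -/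
theorem rkP_conj {P : ℕ} {M M' : Matrix D.Idx D.Idx F} {g g' : Matrix D.Idx D.Idx F}
    (h1 : g * g' = 1) (h2 : g' * g = 1) (e : g * M * g' = M')
    (hg : ∀ w ∈ supV D F P, g *ᵥ w ∈ supV D F P) (hg' : ∀ w ∈ supV D F P, g' *ᵥ w ∈ supV D F P) :
    rkP P M = rkP P M' := by
  have key : ∀ {M M' g g' : Matrix D.Idx D.Idx F}, g * g' = 1 → g' * g = 1 → g * M * g' = M' →
      (∀ w ∈ supV D F P, g' *ᵥ w ∈ supV D F P) → rkP P M' ≤ rkP P M := by
    intro M M' g g' h1 h2 e hg'
    have h3 : M' - 1 = g * (M - 1) * g' := by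
      rw [← e, mul_sub, sub_mul, mul_one, h1]
    have h4 : (supV D F P).map (M' - 1).mulVecLin ≤ ((supV D F P).map (M - 1).mulVecLin).map g.mulVecLin := by
      rintro _ ⟨w, hw, rfl⟩
      refine ⟨(M - 1) *ᵥ (g' *ᵥ w), ⟨g' *ᵥ w, hg' w hw, rfl⟩, ?_⟩
      rw [Matrix.mulVecLin_apply, Matrix.mulVecLin_apply, h3, Matrix.mulVec_mulVec, Matrix.mulVec_mulVec]
    exact (Submodule.finrank_mono h4).trans (Submodule.finrank_map_le _ _)
  apply le_antisymm
  · refine key (g := g') (g' := g) h2 h1 ?_ hg
    rw [← e]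
    calc g' * (g * M * g') * g = (g' * g) * M * (g' * g) := by simp only [mul_assoc]
      _ = M := by rw [h2, one_mul, mul_one]
  · exact key h1 h2 e hg'

end H42.Inv2M
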