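import Cfsg.Agent.Lib.H42.Inv2E
import Cfsg.Agent.Lib.H42.Inv2M

/-!
Characteristic two: classification of the products of root elements for orthogonal families.
-/

set_option autoImplicit false
set_option linter.unusedSectionVars false

namespace H42.Inv2C

open H22.RGD H22.Coord H22.RCCheck H22.RCComb H22.ChevTri H22.ChevRel H22.ChevSys H22.ChevMain
open H22.RCPack H42.InvCK H42.InvW H42.Inv2F H42.Inv2E H42.Inv2M
open Cfsg.Lie (ChevalleyDatum)
open scoped MatrixGroups Matrix

variable {D : ChevalleyDatum}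

/-- evaluating words on root indices -/
def wr (D : ChevalleyDatum) : List ℕ → ℕ → ℕ
  | [], r => r
  | i :: u, r => D.reflectRoot i (wr D u r)

section comb

variable (X : RCX D)

/-- support condition -/
def Supp (m : ℕ) (r : Fin D.nroots) : Prop :=
  ∀ i : Fin D.rank, m.testBit i = false → (H22.RCComb.coord X).co r i = 0

theorem supp_refl {m : ℕ} {i : Fin D.rank} (hi : m.testBit i = true) {r : Fin D.nroots}
    (h : Supp X m r) : Supp X m ((H22.RCComb.comb X).refl i r) := by
  intro j hj
  have hne : j ≠ i := by rintro rfl; rw [hi] at hj; exact absurd hj (by decide)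
  rw [(H22.RCComb.coord X).co_refl_ne hne]
  exact h j hj

theorem supp_w {m : ℕ} {W : List (Fin D.rank)} (hW : ∀ i ∈ W, m.testBit i = true) {r : Fin D.nroots}
    (h : Supp X m r) : Supp X m ((H22.RCComb.comb X).w W r) := by
  induction W with
  | nil => exact h
  | cons i W ih =>
    rw [RootComb.w_cons, Equiv.Perm.mul_apply]
    exact supp_refl X (hW i List.mem_cons_self) (ih fun j hj => hW j (List.mem_cons_of_mem _ hj))

theorem refl_fix {i : Fin D.rank} {p : Fin D.nroots} (h : D.cartan i p = 0) :
    (H22.RCComb.comb X).refl i p = p := by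
  apply (H22.RCComb.coord X).co_inj
  funext l
  rw [(H22.RCComb.coord X).co_refl', H47.RootCent.pair_eq, h]
  simp

theorem w_fix {W : List (Fin D.rank)} {p : Fin D.nroots} (h : ∀ i ∈ W, D.cartan i p = 0) :
    (H22.RCComb.comb X).w W p = p := by
  induction W with
  | nil => rfl
  | cons i W ih =>
    rw [RootComb.w_cons, Equiv.Perm.mul_apply, ih fun j hj => h j (List.mem_cons_of_mem _ hj)]
    exact refl_fix X (h i List.mem_cons_self)

/-- a root supported on `m` can be moved to a dominant one -/
theorem reach {m : ℕ} {Θ : List (Fin D.nroots)}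
    (hdom : ∀ r : Fin D.nroots, Supp X m r → (∀ i : Fin D.rank, m.testBit i = true → 0 ≤ D.cartan i r) →
      r ∈ Θ) {r : Fin D.nroots} (hr : Supp X m r) :
    ∃ W : List (Fin D.rank), (∀ i ∈ W, m.testBit i = true) ∧ (H22.RCComb.comb X).w W r ∈ Θ := by
  classical
  have : Nonempty {s : Fin D.nroots // ∃ W : List (Fin D.rank), (∀ i ∈ W, m.testBit i = true) ∧
      (H22.RCComb.comb X).w W r = s} := ⟨⟨r, [], by simp, rfl⟩⟩
  obtain ⟨⟨s, W, hW, hs⟩, hmax⟩ := Finite.exists_max
    (fun p : {s : Fin D.nroots // ∃ W : List (Fin D.rank), (∀ i ∈ W, m.testBit i = true) ∧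
      (H22.RCComb.comb X).w W r = s} => ∑ l, (H22.RCComb.coord X).co p.1 l)
  refine ⟨W, hW, ?_⟩
  rw [hs]
  apply hdom
  · rw [← hs]; exact supp_w X hW hr
  · intro i hi
    by_contra hneg
    push Not at hneg
    have h1 := hmax ⟨(H22.RCComb.comb X).refl i s, i :: W, by
      intro j hj
      rcases List.mem_cons.1 hj with rfl | hj
      · exact hi
      · exact hW j hj, by rw [RootComb.w_cons, Equiv.Perm.mul_apply, hs]⟩
    simp only at h1
    have h2 : ∑ l, (H22.RCComb.coord X).co ((H22.RCComb.comb X).refl i s) l =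
        ∑ l, (H22.RCComb.coord X).co s l - D.cartan i s := by
      rw [Finset.sum_congr rfl fun l _ => (H22.RCComb.coord X).co_refl' i s l,
        Finset.sum_sub_distrib, Finset.sum_ite_eq' Finset.univ i, if_pos (Finset.mem_univ i),
        H47.RootCent.pair_eq]
    rw [h2] at h1
    omega

end comb

section moves

variable {F : Type*} [Field F] (R : Rel D F) {X : RCX D} (Q : Frm (H22.RCComb.coord X))

/-- one step of the classification -/
theorem step (h2F : (2 : F) = 0) {P : List (Fin D.nroots)} {m : ℕ} {Θ : List (Fin D.nroots)}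
    (hdom : ∀ r : Fin D.nroots, Supp X m r → (∀ i : Fin D.rank, m.testBit i = true → 0 ≤ D.cartan i r) →
      r ∈ Θ)
    (hP : ∀ p ∈ P, ∀ i : Fin D.rank, m.testBit i = true → D.cartan i p = 0)
    {r : Fin D.nroots} {rest : List (Fin D.nroots)} (ho : Orth Q (P ++ r :: rest))
    (hs : ∀ s ∈ r :: rest, Supp X m s) :
    ∃ θ ∈ Θ, ∃ rest' : List (Fin D.nroots), rest'.length = rest.length ∧
      Cj R (P ++ r :: rest) (P ++ θ :: rest') ∧ Orth Q (P ++ θ :: rest') ∧
      ∀ s ∈ rest', Supp X m s ∧ ip Q θ s = 0 := by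
  obtain ⟨W, hW, hθ⟩ := reach X hdom (hs r List.mem_cons_self)
  have hPm : P.map ((H22.RCComb.comb X).w W) = P := by
    conv_rhs => rw [← List.map_id P]
    apply List.map_congr_left
    intro p hp
    exact w_fix X fun i hi => hP p hp i (hW i hi)
  have e : (P ++ r :: rest).map ((H22.RCComb.comb X).w W) =
      P ++ (H22.RCComb.comb X).w W r :: rest.map ((H22.RCComb.comb X).w W) := by
    rw [List.map_append, List.map_cons, hPm]
  have ho' := orth_map Q W ho
  have hcj := cj_map R (X := X) h2F W (P ++ r :: rest)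
  rw [e] at ho' hcj
  refine ⟨_, hθ, rest.map ((H22.RCComb.comb X).w W), by simp, hcj, ho', ?_⟩
  intro s hs'
  refine ⟨?_, ?_⟩
  · obtain ⟨s', hs'', rfl⟩ := List.mem_map.1 hs'
    exact supp_w X hW (hs s' (List.mem_cons_of_mem _ hs''))
  · exact (List.pairwise_cons.1 (List.pairwise_append.1 ho').2.1).1 s hs'

/-- explicit rewriting of an initial segment -/
theorem rule (h2F : (2 : F) = 0) (hc : HC D) {g S T : List (Fin D.nroots)}
    (hw : aL R g * aL R S = aL R T * aL R g)
    (horth : ∀ s : Fin D.nroots, (∀ p ∈ S, ip Q p s = 0) → ∀ δ ∈ g ++ T, ip Q δ s = 0)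
    (hT : Orth Q T) {rest : List (Fin D.nroots)} (ho : Orth Q (S ++ rest)) :
    Cj R (S ++ rest) (T ++ rest) ∧ Orth Q (T ++ rest) := by
  have ho' := List.pairwise_append.1 ho
  have h1 : ∀ s ∈ rest, ∀ δ ∈ g ++ T, ip Q δ s = 0 := fun s hs => horth s fun p hp => ho'.2.2 p hp s hs
  refine ⟨⟨aL R g, aL_mem R g, ?_⟩, List.pairwise_append.2 ⟨hT, ho'.2.1, fun p hp s hs =>
    h1 s hs p (List.mem_append_right _ hp)⟩⟩
  have hcomm : Commute (aL R g) (aL R rest) := by
    unfold aL
    apply Commute.list_prod_right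
    intro x hx
    obtain ⟨s, hs, rfl⟩ := List.mem_map.1 hx
    apply Commute.list_prod_left
    intro y hy
    obtain ⟨δ, hδ, rfl⟩ := List.mem_map.1 hy
    exact orth_commute R Q h2F hc (h1 s hs δ (List.mem_append_left _ hδ)) 1 1
  rw [aL_append, aL_append]
  calc aL R g * (aL R S * aL R rest) * (aL R g)⁻¹ =
      (aL R g * aL R S) * aL R rest * (aL R g)⁻¹ := by simp only [mul_assoc]
    _ = aL R T * (aL R g * aL R rest) * (aL R g)⁻¹ := by rw [hw]; simp only [mul_assoc]
    _ = aL R T * aL R rest := by rw [hcomm.eq]; simp only [mul_assoc, mul_inv_cancel, mul_one]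

theorem wr_eq (u : List (Fin D.rank)) (r : Fin D.nroots) :
    (((H22.RCComb.comb X).w u r : Fin D.nroots) : ℕ) = wr D (u.map Fin.val) r := by
  induction u with
  | nil => rfl
  | cons i u ih =>
    rw [RootComb.w_cons, Equiv.Perm.mul_apply, List.map_cons]
    show D.reflectRoot i ((H22.RCComb.comb X).w u r : Fin D.nroots) = _
    rw [ih]; rfl

/-- moving by an explicit word and reordering -/
theorem rule_W (h2F : (2 : F) = 0) (hc : HC D) (u : List (Fin D.rank)) {S T : List (Fin D.nroots)}
    (hST : ((S.map Fin.val).map (wr D (u.map Fin.val))).Perm (T.map Fin.val))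
    {rest : List (Fin D.nroots)} (ho : Orth Q (S ++ rest)) :
    ∃ rest' : List (Fin D.nroots), rest'.length = rest.length ∧ Cj R (S ++ rest) (T ++ rest') ∧
      Orth Q (T ++ rest') := by
  have h1 : (S.map ((H22.RCComb.comb X).w u)).Perm T := by
    rw [← List.map_perm_map_iff Fin.val_injective]
    have : (S.map ((H22.RCComb.comb X).w u)).map Fin.val = (S.map Fin.val).map (wr D (u.map Fin.val)) := by
      rw [List.map_map, List.map_map]
      apply List.map_congr_left
      intro s _
      exact wr_eq u s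
    rw [this]; exact hST
  have h2 : ((S ++ rest).map ((H22.RCComb.comb X).w u)).Perm (T ++ rest.map ((H22.RCComb.comb X).w u)) := by
    rw [List.map_append]; exact h1.append_right _
  have ho' := orth_map Q u ho
  exact ⟨rest.map ((H22.RCComb.comb X).w u), by simp,
    (cj_map R h2F u _).trans (cj_perm R Q h2F hc ho' h2), orth_perm Q ho' h2⟩

end moves

/-! ### kernel checks -/

section ck

variable (T : ℕ) (A : ℕ → ℕ → ℤ) (d : ℕ → ℤ)

def supB (l m r : ℕ) : Bool := allN (fun i => m.testBit i || zB (co T l r i)) l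

def negB : ℤ → Bool
  | Int.ofNat _ => false
  | Int.negSucc _ => true

theorem negB_iff (x : ℤ) : negB x = true ↔ x < 0 := by
  cases x with
  | ofNat n => simp [negB]
  | negSucc n => simp [negB, Int.negSucc_lt_zero]

def memB (r : ℕ) : List ℕ → Bool
  | [] => false
  | a :: L => Nat.beq r a || memB r L

theorem memB_spec {r : ℕ} : ∀ {L : List ℕ}, memB r L = true → r ∈ L := by
  intro L
  induction L with
  | nil => intro h; simp [memB] at h
  | cons a L ih =>
    intro h
    simp only [memB, Bool.or_eq_true] at h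
    rcases h with h | h
    · rw [Nat.eq_of_beq_eq_true h]; exact List.mem_cons_self
    · exact List.mem_cons_of_mem _ (ih h)

def ckDom (D : ChevalleyDatum) (l n m : ℕ) (Θ : List ℕ) : Bool :=
  allN (fun r => !(supB T l m r) || (exN (fun i => m.testBit i && negB (cartanOf D T A r i l)) l ||
    memB r Θ)) n

/-- the form -/
def ipB (D : ChevalleyDatum) (l r s : ℕ) : ℕ → ℤ
  | 0 => 0
  | k + 1 => ipB D l r s k + d k * co T l r k * cartanOf D T A s k l

def ckNar (D : ChevalleyDatum) (l n m θ m' : ℕ) : Bool :=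
  allN (fun s => !(supB T l m s) || (!(zB (ipB T A d D l θ s l)) || supB T l m' s)) n

def ckFix (D : ChevalleyDatum) (l m : ℕ) (P : List ℕ) : Bool :=
  allL (fun p => allN (fun i => !(m.testBit i) || zB (cartanOf D T A p i l)) l) P

def ckRule (D : ChevalleyDatum) (l n : ℕ) (g S : List ℕ) : Bool :=
  allN (fun s => !(allL (fun p => zB (ipB T A d D l p s l)) S) ||
    allL (fun δ => zB (ipB T A d D l δ s l)) g) n

end ck

section sound

variable {T : ℕ} {A : ℕ → ℕ → ℤ} {d : ℕ → ℤ} {X : RCX D} (hco : X.rc.co = co T D.rank)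
  (hA : X.rc.A = A)

theorem allN_of {p : ℕ → Bool} : ∀ {n : ℕ}, (∀ i < n, p i = true) → allN p n = true := by
  intro n
  induction n with
  | zero => intro _; rfl
  | succ n ih =>
    intro h
    simp only [allN, Bool.and_eq_true]
    exact ⟨h n (by omega), ih fun i hi => h i (by omega)⟩

theorem zB_iff (x : ℤ) : zB x = true ↔ x = 0 := by simp [zB]

include hco in
theorem supB_iff (m : ℕ) (r : Fin D.nroots) : supB T D.rank m r = true ↔ Supp X m r := by
  unfold supB Supp
  constructor
  · intro h i hi
    have h1 := allN_spec h i i.2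
    rw [hi, Bool.false_or, zB_iff] at h1
    show X.rc.co r i = 0
    rw [hco]; exact h1
  · intro h
    apply allN_of
    intro i hi
    by_cases hb : m.testBit i = true
    · rw [hb]; rfl
    · have hb' : m.testBit i = false := by simpa using hb
      rw [hb', Bool.false_or, zB_iff]
      have := h ⟨i, hi⟩ hb'
      have e : (H22.RCComb.coord X).co r ⟨i, hi⟩ = X.rc.co r i := rfl
      rw [e, hco] at this; exact this

include hco hA in
theorem cartan_eq' (i : Fin D.rank) (r : Fin D.nroots) : cartanOf D T A r i D.rank = D.cartan i r := by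
  rw [X.rc.cartan_eq i i.2 r r.2, hco, hA, cartanOf_eq]

include hco hA in
theorem dom_spec {m : ℕ} {Θ : List ℕ} (h : ckDom T A D D.rank D.nroots m Θ = true)
    (r : Fin D.nroots) (hs : Supp X m r)
    (hr : ∀ i : Fin D.rank, m.testBit i = true → 0 ≤ D.cartan i r) : (r : ℕ) ∈ Θ := by
  have h1 := allN_spec h r r.2
  rw [(supB_iff hco m r).2 hs, Bool.not_true, Bool.false_or, Bool.or_eq_true] at h1
  rcases h1 with h1 | h1
  · obtain ⟨i, hi, h2⟩ := exN_spec h1
    rw [Bool.and_eq_true, negB_iff] at h2
    have h3 := hr ⟨i, hi⟩ h2.1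
    rw [← cartan_eq' hco hA ⟨i, hi⟩ r] at h3
    simp only at h3
    omega
  · exact memB_spec h1

include hco hA in
theorem ip_eq' (Q : Frm (H22.RCComb.coord X)) (hd : ∀ i : Fin D.rank, Q.d i = d i)
    (r s : Fin D.nroots) : ipB T A d D D.rank r s D.rank = ip Q r s := by
  unfold ip
  have h1 : ∀ k ≤ D.rank, ipB T A d D D.rank r s k = ∑ i ∈ Finset.range k,
      d i * co T D.rank r i * cartanOf D T A s i D.rank := by
    intro k
    induction k with
    | zero => intro _; simp [ipB]
    | succ k ih =>
      intro hk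
      rw [ipB, ih (by omega), Finset.sum_range_succ]
  rw [h1 _ le_rfl, ← Fin.sum_univ_eq_sum_range
    (fun i => d i * co T D.rank r i * cartanOf D T A s i D.rank) D.rank]
  refine Finset.sum_congr rfl fun i _ => ?_
  rw [hd, H47.RootCent.pair_eq, cartan_eq' hco hA]
  have e : (H22.RCComb.coord X).co r i = X.rc.co r i := rfl
  rw [e, hco]

include hco hA in
theorem nar_spec (Q : Frm (H22.RCComb.coord X)) (hd : ∀ i : Fin D.rank, Q.d i = d i)
    {m m' : ℕ} {θ : Fin D.nroots} (h : ckNar T A d D D.rank D.nroots m θ m' = true)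
    {s : Fin D.nroots} (hs : Supp X m s) (hi : ip Q θ s = 0) : Supp X m' s := by
  have h1 := allN_spec h s s.2
  rw [(supB_iff hco m s).2 hs, Bool.not_true, Bool.false_or, ip_eq' hco hA Q hd, hi] at h1
  have : zB 0 = true := rfl
  rw [this, Bool.not_true, Bool.false_or] at h1
  exact (supB_iff hco m' s).1 h1

include hco hA in
theorem fix_spec {m : ℕ} {P : List (Fin D.nroots)} (h : ckFix T A D D.rank m (P.map Fin.val) = true) :
    ∀ p ∈ P, ∀ i : Fin D.rank, m.testBit i = true → D.cartan i p = 0 := by
  intro p hp i hi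
  have h1 := allN_spec (allL_spec h p (List.mem_map_of_mem hp)) i i.2
  rw [hi, Bool.not_true, Bool.false_or, zB_iff, cartan_eq' hco hA] at h1
  exact h1

include hco hA in
theorem rule_spec (Q : Frm (H22.RCComb.coord X)) (hd : ∀ i : Fin D.rank, Q.d i = d i)
    {g S : List (Fin D.nroots)}
    (h : ckRule T A d D D.rank D.nroots (g.map Fin.val) (S.map Fin.val) = true) (s : Fin D.nroots)
    (hs : ∀ p ∈ S, ip Q p s = 0) : ∀ δ ∈ g, ip Q δ s = 0 := by
  intro δ hδ
  have h1 := allN_spec h s s.2
  have h2 : allL (fun p => zB (ipB T A d D D.rank p s D.rank)) (S.map Fin.val) = true := by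
    have aux : ∀ (p : ℕ → Bool) (L : List ℕ), (∀ a ∈ L, p a = true) → allL p L = true := by
      intro p L
      induction L with
      | nil => intro _; rfl
      | cons a L ih =>
        intro h
        simp only [allL, Bool.and_eq_true]
        exact ⟨h a List.mem_cons_self, ih fun b hb => h b (List.mem_cons_of_mem _ hb)⟩
    apply aux
    intro a ha
    obtain ⟨p, hp, rfl⟩ := List.mem_map.1 ha
    rw [ip_eq' hco hA Q hd, zB_iff]
    exact hs p hp
  rw [h2, Bool.not_true, Bool.false_or] at h1
  have h3 := allL_spec h1 δ (List.mem_map_of_mem hδ)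
  rw [ip_eq' hco hA Q hd, zB_iff] at h3
  exact h3

end sound

/-! ### words as group elements -/

section words

variable {F : Type*} [Field F] (R : Rel D F)

theorem aL_val (L : List (Fin D.nroots)) :
    ((aL R L : GL D.Idx F) : Matrix D.Idx D.Idx F) = wm D F (L.map Fin.val) := by
  induction L with
  | nil => simp [aL, wm]
  | cons r L ih => rw [aL_cons, List.map_cons, wm_cons, Units.val_mul, ih, xg_val]

theorem wm_append (W W' : List ℕ) : wm D F (W ++ W') = wm D F W * wm D F W' := by simp [wm]

theorem aL_rel {O : ℕ → List (ℕ × ℕ)} (h2F : (2 : F) = 0) {g S T : List (Fin D.nroots)}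
    (hO : ∀ r ∈ g ++ S ++ T, ckOps D r (O r) = true)
    (h : eqW O (D.rank + D.nroots) (g.map Fin.val ++ S.map Fin.val) (T.map Fin.val ++ g.map Fin.val) = true) :
    aL R g * aL R S = aL R T * aL R g := by
  apply Units.ext
  rw [Units.val_mul, Units.val_mul, aL_val, aL_val, aL_val, ← wm_append, ← wm_append]
  apply eqW_spec h2F _ _ h
  · intro r hr
    rw [List.mem_append] at hr
    rcases hr with hr | hr <;> obtain ⟨p, hp, rfl⟩ := List.mem_map.1 hr
    · exact hO p (by simp [hp])
    · exact hO p (by simp [hp])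
  · intro r hr
    rw [List.mem_append] at hr
    rcases hr with hr | hr <;> obtain ⟨p, hp, rfl⟩ := List.mem_map.1 hr
    · exact hO p (by simp [hp])
    · exact hO p (by simp [hp])

end words

end H42.Inv2C
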