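import Cfsg.Agent.Lib.H42.Inv2C

/-!
Characteristic two: the driver of the classification of involutions.
-/

set_option autoImplicit false
set_option linter.unusedSectionVars false

namespace H42.Inv2D

open H22.RGD H22.Coord H22.RCCheck H22.RCComb H22.ChevTri H22.ChevRel H22.ChevSys H22.ChevMain
open H22.RCPack H42.InvCK H42.InvW H42.Inv2F H42.Inv2E H42.Inv2M H42.Inv2C
open Cfsg.Lie (ChevalleyDatum)
open scoped MatrixGroups Matrix

/-- the data of a type -/
structure Env (D : ChevalleyDatum) (F : Type*) [Field F] where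
  R : Rel D F
  X : RCX D
  Q : Frm (H22.RCComb.coord X)
  h2F : (2 : F) = 0
  hc : HC D
  K : H23.ChevCore.Core D
  T : ℕ
  A : ℕ → ℕ → ℤ
  d : ℕ → ℤ
  hco : X.rc.co = co T D.rank
  hA : X.rc.A = A
  hd : ∀ i : Fin D.rank, Q.d i = d i
  h0 : 0 < D.nroots

/-! ### the parity hypothesis -/

def ckHC1 (D : ChevalleyDatum) (i : ℕ) : Bool :=
  allN (fun s => !(zB (D.cartan i s)) || allL (fun c => !(oddB c.2.1)) (D.commTerms (D.simple i) s)) D.nroots

theorem hc_of {D : ChevalleyDatum} (h : ∀ i < D.rank, ckHC1 D i = true) : HC D := by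
  intro i s h1 c hc
  have h2 := allN_spec (h i i.2) s s.2
  rw [h1] at h2
  have e : zB 0 = true := rfl
  rw [e, Bool.not_true, Bool.false_or] at h2
  have h3 := allL_spec h2 c hc
  by_contra h4
  rw [Int.not_even_iff_odd, ← oddB_iff] at h4
  rw [h4] at h3
  exact absurd h3 (by decide)

/-- the form from a table -/
def frmOf {D : ChevalleyDatum} (X : RCX D) (A : ℕ → ℕ → ℤ) (d : ℕ → ℤ) (hA : X.rc.A = A)
    (h1 : allN (fun i => Nat.blt 0 (d i).toNat) D.rank = true)
    (h2 : allN (fun i => allN (fun j => zB (d i * A i j - d j * A j i)) D.rank) D.rank = true) :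
    Frm (H22.RCComb.coord X) where
  d := fun i => d i
  dpos := by
    intro i
    have := allN_spec h1 i i.2
    have h3 : 0 < (d i).toNat := by simpa using this
    show 0 < d i
    omega
  sym := by
    intro i j
    have := (zB_iff _).1 (allN_spec (allN_spec h2 i i.2) j j.2)
    have e : ∀ i j : Fin D.rank, (H22.RCComb.coord X).A i j = A i j := by
      intro i j
      have e1 : (H22.RCComb.coord X).A i j = X.rc.A i j := rfl
      rw [e1, hA]
    rw [e, e]
    linarith

variable {D : ChevalleyDatum} {F : Type*} [Field F]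

/-- root indices -/
def fn (h0 : 0 < D.nroots) (k : ℕ) : Fin D.nroots := ⟨k % D.nroots, Nat.mod_lt _ h0⟩

theorem fn_val (h0 : 0 < D.nroots) {k : ℕ} (h : k < D.nroots) : (fn h0 k : ℕ) = k := Nat.mod_eq_of_lt h

theorem fn_coe (h0 : 0 < D.nroots) (r : Fin D.nroots) : fn h0 r = r := Fin.ext (Nat.mod_eq_of_lt r.2)

/-- bounds -/
def ckB (D : ChevalleyDatum) (L : List ℕ) : Bool := allL (fun k => Nat.ble (k + 1) D.nroots) L

theorem ckB_spec {L : List ℕ} (h : ckB D L = true) : ∀ k ∈ L, k < D.nroots := fun k hk =>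
  Nat.le_of_ble_eq_true (allL_spec h k hk)

namespace Env

variable (E : Env D F)

/-- lists of roots -/
def fl (L : List ℕ) : List (Fin D.nroots) := L.map (fn E.h0)

theorem fl_append (L M : List ℕ) : E.fl (L ++ M) = E.fl L ++ E.fl M := List.map_append

theorem fl_cons (k : ℕ) (L : List ℕ) : E.fl (k :: L) = fn E.h0 k :: E.fl L := rfl

theorem fl_length (L : List ℕ) : (E.fl L).length = L.length := by unfold fl; simp

theorem fl_val {L : List ℕ} (h : ckB D L = true) : (E.fl L).map Fin.val = L := by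
  unfold fl
  rw [List.map_map]
  conv_rhs => rw [← List.map_id L]
  apply List.map_congr_left
  intro k hk
  exact fn_val E.h0 (ckB_spec h k hk)

/-- orthogonality to `P` implies support condition -/
def ckSup (T : ℕ) (A : ℕ → ℕ → ℤ) (d : ℕ → ℤ) (D : ChevalleyDatum) (l n : ℕ) (P : List ℕ) (m : ℕ) : Bool :=
  allN (fun s => supB T l m s || !(allL (fun p => zB (ipB T A d D l p s l)) P)) n

theorem allL_of {α : Type*} {p : α → Bool} : ∀ {L : List α}, (∀ a ∈ L, p a = true) → allL p L = true := by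
  intro L
  induction L with
  | nil => intro _; rfl
  | cons a L ih =>
    intro h
    simp only [allL, Bool.and_eq_true]
    exact ⟨h a List.mem_cons_self, ih fun b hb => h b (List.mem_cons_of_mem _ hb)⟩

theorem sup_spec {P : List ℕ} {m : ℕ} (hP : ckB D P = true)
    (h : ckSup E.T E.A E.d D D.rank D.nroots P m = true) {s : Fin D.nroots}
    (hs : ∀ p ∈ E.fl P, ip E.Q p s = 0) : Supp E.X m s := by
  have h1 := allN_spec h s s.2
  have h2 : allL (fun p => zB (ipB E.T E.A E.d D D.rank p s D.rank)) P = true := by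
    apply allL_of
    intro a ha
    have := ip_eq' E.hco E.hA E.Q E.hd (fn E.h0 a) s
    rw [fn_val E.h0 (ckB_spec hP a ha)] at this
    rw [this, zB_iff]
    exact hs _ (List.mem_map_of_mem ha)
  rw [h2, Bool.not_true, Bool.or_false] at h1
  exact (supB_iff E.hco m s).1 h1

def ckNode (T : ℕ) (A : ℕ → ℕ → ℤ) (d : ℕ → ℤ) (D : ChevalleyDatum) (P : List ℕ) (m : ℕ) (Θ : List ℕ) : Bool :=
  ckB D P && ckSup T A d D D.rank D.nroots P m && ckDom T A D D.rank D.nroots m Θ &&
    ckFix T A D D.rank m P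

theorem node {P : List ℕ} {m : ℕ} {Θ : List ℕ} (hck : ckNode E.T E.A E.d D P m Θ = true)
    {G : List (Fin D.nroots) → Prop} (htr : ∀ L M, Cj E.R L M → G M → G L) {n : ℕ}
    (hnil : P.length = n → G (E.fl P))
    (hcons : ∀ θ ∈ Θ, ∀ rest : List (Fin D.nroots), P.length + 1 + rest.length = n →
      Orth E.Q (E.fl (P ++ [θ]) ++ rest) → G (E.fl (P ++ [θ]) ++ rest)) :
    ∀ rest : List (Fin D.nroots), P.length + rest.length = n → Orth E.Q (E.fl P ++ rest) →
      G (E.fl P ++ rest) := by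
  unfold ckNode at hck
  simp only [Bool.and_eq_true] at hck
  obtain ⟨⟨⟨hB, hS⟩, hDm⟩, hF⟩ := hck
  intro rest hn ho
  rcases rest with _ | ⟨r, rest⟩
  · rw [List.append_nil]
    exact hnil (by simpa using hn)
  · have ho' := List.pairwise_append.1 ho
    have hsup : ∀ s ∈ r :: rest, Supp E.X m s := fun s hs =>
      E.sup_spec hB hS fun p hp => ho'.2.2 p hp s hs
    have hP : ∀ p ∈ E.fl P, ∀ i : Fin D.rank, m.testBit i = true → D.cartan i p = 0 := by
      apply fix_spec E.hco E.hA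
      rw [E.fl_val hB]; exact hF
    obtain ⟨θ, hθ, rest', hl, hcj, ho2, _⟩ := step E.R (X := E.X) E.Q E.h2F (P := E.fl P) (m := m)
      (Θ := E.fl Θ) (fun r h1 h2 => by
        have := dom_spec E.hco E.hA hDm r h1 h2
        have h3 := List.mem_map_of_mem (f := fn E.h0) this
        rw [fn_coe] at h3
        exact h3) hP ho hsup
    obtain ⟨k, hk, rfl⟩ := List.mem_map.1 hθ
    have e : E.fl P ++ fn E.h0 k :: rest' = E.fl (P ++ [k]) ++ rest' := by
      rw [fl_append, List.append_assoc]; rfl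
    rw [e] at hcj ho2
    refine htr _ _ hcj (hcons k hk rest' ?_ ho2)
    rw [hl]; simp only [List.length_cons] at hn; omega

/-- moving by a word -/
def ckMove (D : ChevalleyDatum) (u S T' : List ℕ) : Bool :=
  ckB D S && ckB D T' && allL (fun i => Nat.ble (i + 1) D.rank) u &&
    (S.map (wr D u)).isPerm T'

theorem move {u S T' : List ℕ} (hck : ckMove D u S T' = true) {rest : List (Fin D.nroots)}
    (ho : Orth E.Q (E.fl S ++ rest)) : ∃ rest' : List (Fin D.nroots), rest'.length = rest.length ∧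
      Cj E.R (E.fl S ++ rest) (E.fl T' ++ rest') ∧ Orth E.Q (E.fl T' ++ rest') := by
  unfold ckMove at hck
  simp only [Bool.and_eq_true] at hck
  obtain ⟨⟨⟨h1, h2⟩, h3⟩, h4⟩ := hck
  have hu : ∀ i ∈ u, i < D.rank := fun i hi => Nat.le_of_ble_eq_true (allL_spec h3 i hi)
  have e : (u.attach.map fun i => (⟨i.1, hu i.1 i.2⟩ : Fin D.rank)).map Fin.val = u := by
    rw [List.map_map]
    conv_rhs => rw [← List.attach_map_subtype_val u]
    rfl
  apply rule_W E.R E.Q E.h2F E.hc (u.attach.map fun i => (⟨i.1, hu i.1 i.2⟩ : Fin D.rank)) _ ho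
  rw [e, E.fl_val h1, E.fl_val h2]
  exact List.isPerm_iff.1 h4

/-- rewriting -/
def ckRw (T : ℕ) (A : ℕ → ℕ → ℤ) (d : ℕ → ℤ) (O : ℕ → List (ℕ × ℕ)) (D : ChevalleyDatum)
    (g S T' : List ℕ) : Bool :=
  ckB D g && ckB D S && ckB D T' && eqW O (D.rank + D.nroots) (g ++ S) (T' ++ g) &&
    ckRule T A d D D.rank D.nroots (g ++ T') S &&
    allIdx (fun i p => allIdx (fun j q => Nat.ble j i || zB (ipB T A d D D.rank p q D.rank)) 0 T') 0 T'

theorem rw' {O : ℕ → List (ℕ × ℕ)} {Rs : List ℕ} (hO : ∀ r ∈ Rs, ckOps D r (O r) = true) {g S T' : List ℕ}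
    (hsub : g ++ S ++ T' ⊆ Rs)
    (hck : ckRw E.T E.A E.d O D g S T' = true) {rest : List (Fin D.nroots)}
    (ho : Orth E.Q (E.fl S ++ rest)) :
    Cj E.R (E.fl S ++ rest) (E.fl T' ++ rest) ∧ Orth E.Q (E.fl T' ++ rest) := by
  unfold ckRw at hck
  simp only [Bool.and_eq_true] at hck
  obtain ⟨⟨⟨⟨⟨h1, h2⟩, h3⟩, h4⟩, h5⟩, h6⟩ := hck
  apply rule E.R E.Q E.h2F E.hc (g := E.fl g)
  · apply aL_rel E.R (O := O) E.h2F
    · intro r hr
      rw [← fl_append, ← fl_append] at hr
      obtain ⟨k, hk, rfl⟩ := List.mem_map.1 hr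
      have hk' : k < D.nroots := by
        rw [List.mem_append, List.mem_append] at hk
        rcases hk with (hk | hk) | hk
        · exact ckB_spec h1 k hk
        · exact ckB_spec h2 k hk
        · exact ckB_spec h3 k hk
      rw [fn_val E.h0 hk']
      exact hO k (hsub hk)
    · rw [E.fl_val h1, E.fl_val h2, E.fl_val h3]; exact h4
  · intro s hs
    have h7 : ckB D (g ++ T') = true := by
      apply allL_of
      intro k hk
      apply Nat.ble_eq_true_of_le
      rw [List.mem_append] at hk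
      rcases hk with hk | hk
      · exact ckB_spec h1 k hk
      · exact ckB_spec h3 k hk
    rw [← fl_append]
    apply rule_spec E.hco E.hA E.Q E.hd _ s hs
    rw [E.fl_val h7, E.fl_val h2]; exact h5
  · unfold Orth
    rw [List.pairwise_iff_getElem]
    intro i j hi hj hij
    rw [fl_length] at hi hj
    have h8 := allIdx_spec (allIdx_spec h6 i hi) j hj
    have h9 : Nat.ble (0 + j) (0 + i) = false := by
      rw [Bool.eq_false_iff]; intro h
      have := Nat.le_of_ble_eq_true h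
      omega
    rw [h9, Bool.false_or, zB_iff] at h8
    have e : ∀ (i : ℕ) (hi : i < T'.length), (E.fl T')[i]'(by rw [fl_length]; exact hi) = fn E.h0 T'[i] := by
      intro i hi
      unfold fl
      rw [List.getElem_map]
    rw [e i hi, e j hj, ← ip_eq' E.hco E.hA E.Q E.hd]
    rw [fn_val E.h0 (ckB_spec h3 _ (List.getElem_mem hi)), fn_val E.h0 (ckB_spec h3 _ (List.getElem_mem hj))]
    exact h8
  · exact ho

/-- orthogonality of an explicit list -/
def ckOrth (T : ℕ) (A : ℕ → ℕ → ℤ) (d : ℕ → ℤ) (D : ChevalleyDatum) (L : List ℕ) : Bool :=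
  ckB D L && allIdx (fun i p => allIdx (fun j q => Nat.ble j i || zB (ipB T A d D D.rank p q D.rank)) 0 L) 0 L

theorem orth_spec {L : List ℕ} (h : ckOrth E.T E.A E.d D L = true) : Orth E.Q (E.fl L) := by
  unfold ckOrth at h
  rw [Bool.and_eq_true] at h
  obtain ⟨h3, h6⟩ := h
  unfold Orth
  rw [List.pairwise_iff_getElem]
  intro i j hi hj hij
  rw [fl_length] at hi hj
  have h8 := allIdx_spec (allIdx_spec h6 i hi) j hj
  have h9 : Nat.ble (0 + j) (0 + i) = false := by
    rw [Bool.eq_false_iff]; intro h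
    have := Nat.le_of_ble_eq_true h
    omega
  rw [h9, Bool.false_or, zB_iff] at h8
  have e : ∀ (i : ℕ) (hi : i < L.length), (E.fl L)[i]'(by rw [fl_length]; exact hi) = fn E.h0 L[i] := by
    intro i hi
    unfold fl
    rw [List.getElem_map]
  rw [e i hi, e j hj, ← ip_eq' E.hco E.hA E.Q E.hd]
  rw [fn_val E.h0 (ckB_spec h3 _ (List.getElem_mem hi)), fn_val E.h0 (ckB_spec h3 _ (List.getElem_mem hj))]
  exact h8

/-- the goal of the classification -/
def Goal (Ts : List (List ℕ)) (L : List (Fin D.nroots)) : Prop := ∃ Y ∈ Ts, Cj E.R L (E.fl Y)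

variable {E} in
theorem Goal.tr {Ts : List (List ℕ)} {L M : List (Fin D.nroots)} (h : Cj E.R L M)
    (h' : E.Goal Ts M) : E.Goal Ts L := by
  obtain ⟨Y, hY, h2⟩ := h'
  exact ⟨Y, hY, h.trans h2⟩

theorem move_len {u S T' : List ℕ} (hck : ckMove D u S T' = true) : S.length = T'.length := by
  unfold ckMove at hck
  simp only [Bool.and_eq_true] at hck
  have := (List.isPerm_iff.1 hck.2).length_eq
  simpa using this

/-- targets -/
theorem goal_end {Ts : List (List ℕ)} {u S Y : List ℕ} (hS : ckOrth E.T E.A E.d D S = true)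
    (hck : ckMove D u S Y = true) (hY : Y ∈ Ts) : E.Goal Ts (E.fl S) := by
  have h1 : Orth E.Q (E.fl S ++ []) := by rw [List.append_nil]; exact E.orth_spec hS
  obtain ⟨rest', hl, hcj, _⟩ := E.move hck h1
  have : rest' = [] := List.length_eq_zero_iff.1 (by simpa using hl)
  subst this
  rw [List.append_nil, List.append_nil] at hcj
  exact ⟨Y, hY, hcj⟩

/-- moving within a goal -/
theorem goal_move {Ts : List (List ℕ)} {u S T' : List ℕ} (hck : ckMove D u S T' = true) {n : ℕ}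
    (h : ∀ rest : List (Fin D.nroots), T'.length + rest.length = n → Orth E.Q (E.fl T' ++ rest) →
      E.Goal Ts (E.fl T' ++ rest)) :
    ∀ rest : List (Fin D.nroots), S.length + rest.length = n → Orth E.Q (E.fl S ++ rest) →
      E.Goal Ts (E.fl S ++ rest) := by
  intro rest hn ho
  obtain ⟨rest', hl, hcj, ho'⟩ := E.move hck ho
  exact Goal.tr hcj (h rest' (by rw [hl, ← move_len hck]; exact hn) ho')

/-- moving and shortening -/
theorem goal_red {Ts : List (List ℕ)} {O : ℕ → List (ℕ × ℕ)} {Rs : List ℕ}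
    (hO : ∀ r ∈ Rs, ckOps D r (O r) = true) {g S' T' : List ℕ} (hsub : g ++ S' ++ T' ⊆ Rs)
    (hrw : ckRw E.T E.A E.d O D g S' T' = true) (hlt : T'.length < S'.length) (hne : T' ≠ [])
    {u S ex : List ℕ} (hck : ckMove D u S (S' ++ ex) = true) {n : ℕ}
    (ih : ∀ m < n, ∀ L : List (Fin D.nroots), L.length = m → Orth E.Q L → L ≠ [] → E.Goal Ts L) :
    ∀ rest : List (Fin D.nroots), S.length + rest.length = n → Orth E.Q (E.fl S ++ rest) →
      E.Goal Ts (E.fl S ++ rest) := by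
  apply E.goal_move hck
  intro rest hn ho
  rw [fl_append, List.append_assoc] at ho ⊢
  obtain ⟨hcj, ho'⟩ := E.rw' hO hsub hrw ho
  refine Goal.tr hcj (ih (T'.length + ex.length + rest.length) ?_ _ ?_ ho' ?_)
  · rw [List.length_append] at hn; omega
  · rw [List.length_append, List.length_append, fl_length, fl_length]; omega
  · intro h
    have h2 := congrArg List.length h
    rw [List.length_append, fl_length] at h2
    apply hne
    apply List.length_eq_zero_iff.1
    simp only [List.length_nil] at h2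
    omega

/-! ### conclusions -/

theorem aL_sq {L : List (Fin D.nroots)} (hL : Orth E.Q L) : aL E.R L * aL E.R L = 1 := by
  induction L with
  | nil => simp [aL]
  | cons r L ih =>
    have hL' := List.pairwise_cons.1 hL
    have h1 : Commute (xg E.R (r : ℕ) 1) (aL E.R L) := by
      unfold aL
      apply Commute.list_prod_right
      intro x hx
      obtain ⟨s, hs, rfl⟩ := List.mem_map.1 hx
      exact orth_commute E.R E.Q E.h2F E.hc (hL'.1 s hs) 1 1
    have h2 : xg E.R (r : ℕ) (1 : F) * xg E.R r 1 = 1 := by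
      rw [xg_mul]
      have : (1 : F) + 1 = 0 := by rw [← E.h2F]; norm_num
      rw [this, xg_zero]
    rw [aL_cons]
    calc xg E.R (r : ℕ) 1 * aL E.R L * (xg E.R (r : ℕ) 1 * aL E.R L) =
        xg E.R (r : ℕ) 1 * (aL E.R L * xg E.R (r : ℕ) 1) * aL E.R L := by simp only [mul_assoc]
      _ = (xg E.R (r : ℕ) 1 * xg E.R (r : ℕ) 1) * (aL E.R L * aL E.R L) := by
        rw [h1.eq.symm]; simp only [mul_assoc]
      _ = 1 := by rw [h2, ih hL'.2, mul_one]

theorem aL_fl {L : List ℕ} (h : ckB D L = true) :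
    ((aL E.R (E.fl L) : GL D.Idx F) : Matrix D.Idx D.Idx F) = wm D F L := by
  rw [aL_val, E.fl_val h]

section final

variable {Ts : List (List ℕ)}
  (hcls : ∀ L : List (Fin D.nroots), Orth E.Q L → L ≠ [] → ∃ Y ∈ Ts, Cj E.R L (E.fl Y))
  (horth : ∀ Y ∈ Ts, Orth E.Q (E.fl Y))
  {ι : Type*} (inv : Matrix D.Idx D.Idx F → ι)
  (hinv : ∀ g ∈ D.group F, ∀ M : GL D.Idx F,
    inv ((g * M * g⁻¹ : GL D.Idx F) : Matrix D.Idx D.Idx F) = inv (M : Matrix D.Idx D.Idx F))
  (hsep : ∀ Y ∈ Ts, ∀ Y' ∈ Ts, inv (wm D F Y) = inv (wm D F Y') → Y = Y')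
  (h1 : ∀ Y ∈ Ts, inv (wm D F Y) ≠ inv 1) (hB : ∀ Y ∈ Ts, ckB D Y = true)

include horth h1 hB in
theorem order_two : ∀ Y ∈ Ts, orderOf (aL E.R (E.fl Y)) = 2 := by
  intro Y hY
  refine orderOf_eq_prime ?_ ?_
  · rw [pow_two]; exact E.aL_sq (horth Y hY)
  · intro h
    apply h1 Y hY
    rw [← E.aL_fl (hB Y hY), h]; rfl

include hcls in
theorem cls_of [Fintype F] {g : GL D.Idx F} (hg : g ∈ D.group F) (h2 : orderOf g = 2) :
    ∃ Y ∈ Ts, ∃ h ∈ D.group F, h * g * h⁻¹ = aL E.R (E.fl Y) := by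
  have hsq : g * g = 1 := by rw [← pow_two, ← h2]; exact pow_orderOf_eq_one g
  obtain ⟨L, hL, k, hk, e⟩ := to_list E.R E.Q E.h2F E.hc E.K hg hsq
  have hne : L ≠ [] := by
    rintro rfl
    have e2 : aL E.R ([] : List (Fin D.nroots)) = 1 := by simp [aL]
    rw [e2, mul_inv_eq_one] at e
    have : g = 1 := by simpa using e
    rw [this] at h2
    simp at h2
  obtain ⟨Y, hY, k', hk', e'⟩ := hcls L hL hne
  exact ⟨Y, hY, k' * k, mul_mem hk' hk, by rw [← e', ← e]; group⟩

include hcls horth hinv hsep h1 hB in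
theorem final [Fintype F] {Ms : List (Matrix D.Idx D.Idx F)} (hM : Ms = Ts.map (wm D F)) :
    (∀ y : GL D.Idx F, (y : Matrix D.Idx D.Idx F) ∈ Ms → y ∈ D.group F ∧ orderOf y = 2) ∧
    (∀ g ∈ D.group F, orderOf g = 2 → ∃ y ∈ D.group F, (y : Matrix D.Idx D.Idx F) ∈ Ms ∧
      ∃ h ∈ D.group F, h * g * h⁻¹ = y) ∧
    (∀ y₁ ∈ D.group F, ∀ y₂ ∈ D.group F, (y₁ : Matrix D.Idx D.Idx F) ∈ Ms →
      (y₂ : Matrix D.Idx D.Idx F) ∈ Ms → (∃ h ∈ D.group F, h * y₁ * h⁻¹ = y₂) →
      (y₁ : Matrix D.Idx D.Idx F) = (y₂ : Matrix D.Idx D.Idx F)) := by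
  subst hM
  have key : ∀ y : GL D.Idx F, (y : Matrix D.Idx D.Idx F) ∈ Ts.map (wm D F) →
      ∃ Y ∈ Ts, y = aL E.R (E.fl Y) := by
    intro y hy
    obtain ⟨Y, hY, e⟩ := List.mem_map.1 hy
    exact ⟨Y, hY, Units.ext (by rw [E.aL_fl (hB Y hY), e])⟩
  refine ⟨?_, ?_, ?_⟩
  · intro y hy
    obtain ⟨Y, hY, rfl⟩ := key y hy
    exact ⟨aL_mem E.R _, E.order_two horth inv h1 hB Y hY⟩
  · intro g hg h2
    obtain ⟨Y, hY, h, hh, e⟩ := E.cls_of hcls hg h2
    refine ⟨aL E.R (E.fl Y), aL_mem E.R _, ?_, h, hh, e⟩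
    rw [E.aL_fl (hB Y hY)]
    exact List.mem_map_of_mem hY
  · rintro y₁ _ y₂ _ hy₁ hy₂ ⟨h, hh, e⟩
    obtain ⟨Y, hY, e1⟩ := List.mem_map.1 hy₁
    obtain ⟨Y', hY', e2⟩ := List.mem_map.1 hy₂
    have := hinv h hh y₁
    rw [e, ← e1, ← e2] at this
    rw [← e1, ← e2, hsep Y' hY' Y hY this]

include hcls horth hinv hsep h1 hB in
theorem final_card [Fintype F] (hnd : Ts.Nodup) :
    (ConjClasses.mk '' {g : ↥(D.group F) | orderOf g = 2}).ncard = Ts.length := by
  classical
  set f : List ℕ → ConjClasses ↥(D.group F) := fun Y => ConjClasses.mk ⟨aL E.R (E.fl Y), aL_mem E.R _⟩ with hf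
  have e : ConjClasses.mk '' {g : ↥(D.group F) | orderOf g = 2} = f '' {Y | Y ∈ Ts} := by
    apply Set.Subset.antisymm
    · rintro _ ⟨g, hg, rfl⟩
      have hg' : orderOf (g : GL D.Idx F) = 2 := by rw [Subgroup.orderOf_coe]; exact hg
      obtain ⟨Y, hY, h, hh, e⟩ := E.cls_of hcls g.2 hg'
      refine ⟨Y, hY, ?_⟩
      rw [hf]
      simp only
      rw [ConjClasses.mk_eq_mk_iff_isConj]
      apply IsConj.symm
      rw [isConj_iff]
      exact ⟨⟨h, hh⟩, Subtype.ext e⟩
    · rintro _ ⟨Y, hY, rfl⟩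
      refine ⟨⟨aL E.R (E.fl Y), aL_mem E.R _⟩, ?_, rfl⟩
      have := E.order_two horth inv h1 hB Y hY
      show orderOf (⟨aL E.R (E.fl Y), aL_mem E.R _⟩ : ↥(D.group F)) = 2
      rw [← Subgroup.orderOf_coe]; exact this
  rw [e, Set.InjOn.ncard_image]
  · have : {Y | Y ∈ Ts} = (Ts.toFinset : Set (List ℕ)) := by ext Y; simp
    rw [this, Set.ncard_coe_finset, List.toFinset_card_of_nodup hnd]
  · intro Y hY Y' hY' hYY
    rw [hf] at hYY
    simp only at hYY
    rw [ConjClasses.mk_eq_mk_iff_isConj, isConj_iff] at hYY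
    obtain ⟨c, hc⟩ := hYY
    have hc' := congrArg Subtype.val hc
    have h3 : (c : GL D.Idx F) * aL E.R (E.fl Y) * (c : GL D.Idx F)⁻¹ = aL E.R (E.fl Y') := hc'
    have h4 := hinv c c.2 (aL E.R (E.fl Y))
    rw [h3, E.aL_fl (hB Y hY), E.aL_fl (hB Y' hY')] at h4
    exact (hsep Y' hY' Y hY h4).symm

end final

end Env

/-! ### rank invariants -/

/-- the full mask -/
theorem supV_full {N : ℕ} (hN : D.rank + D.nroots ≤ N) (w : D.Idx → F) :
    w ∈ supV D F (2 ^ N - 1) := by
  intro x hx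
  have := cd_lt x
  rw [Nat.testBit_two_pow_sub_one] at hx
  simp only [decide_eq_false_iff_not] at hx
  omega

theorem rk_full_conj {N : ℕ} (hN : D.rank + D.nroots ≤ N) (g M : GL D.Idx F) :
    rkP (2 ^ N - 1) ((g * M * g⁻¹ : GL D.Idx F) : Matrix D.Idx D.Idx F) =
      rkP (2 ^ N - 1) (M : Matrix D.Idx D.Idx F) := by
  symm
  apply rkP_conj (g := (g : Matrix D.Idx D.Idx F)) (g' := ((g⁻¹ : GL D.Idx F) : Matrix D.Idx D.Idx F))
  · rw [← Units.val_mul, mul_inv_cancel, Units.val_one]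
  · rw [← Units.val_mul, inv_mul_cancel, Units.val_one]
  · rw [Units.val_mul, Units.val_mul]
  · intro w _; exact supV_full hN _
  · intro w _; exact supV_full hN _

theorem rkP_one (P : ℕ) : rkP P (1 : Matrix D.Idx D.Idx F) = 0 := by
  unfold rkP
  rw [sub_self]
  have : (supV D F P).map (0 : Matrix D.Idx D.Idx F).mulVecLin = ⊥ := by
    rw [eq_bot_iff]
    rintro _ ⟨w, _, rfl⟩
    simp
  rw [this, finrank_bot]

end H42.Inv2D
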