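import Cfsg.Agent.Lib.H42.InvW

/-!
Invariant forms for root combinatorics; every involution of a Weyl group is a product of
reflections in pairwise orthogonal roots.
-/

set_option autoImplicit false
set_option linter.unusedSectionVars false

namespace H42.Inv2F

open H22.RGD H22.Coord H42.InvW

variable {Φ I : Type*} {C : RootComb Φ I} [Fintype I] [DecidableEq I]

/-- an invariant form -/
structure Frm (K : CoordSys C) where
  d : I → ℤ
  dpos : ∀ i, 0 < d i
  sym : ∀ i j, d i * K.A i j = d j * K.A j i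

variable {K : CoordSys C} (Q : Frm K)

/-- the inner product -/
def ip (r s : Φ) : ℤ := ∑ i, Q.d i * K.co r i * K.pair i s

theorem ip_lin_left {x y z : Φ} {c : ℤ} (h : ∀ l, K.co x l = K.co y l - c * K.co z l) (s : Φ) :
    ip Q x s = ip Q y s - c * ip Q z s := by
  unfold ip
  rw [Finset.mul_sum, ← Finset.sum_sub_distrib]
  refine Finset.sum_congr rfl fun i _ => ?_
  rw [h]; ring

theorem ip_eq (r s : Φ) : ip Q r s = ∑ i, ∑ k, Q.d i * K.A i k * K.co r i * K.co s k := by
  unfold ip CoordSys.pair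
  refine Finset.sum_congr rfl fun i _ => ?_
  rw [Finset.mul_sum]
  refine Finset.sum_congr rfl fun k _ => ?_
  ring

theorem ip_comm (r s : Φ) : ip Q r s = ip Q s r := by
  rw [ip_eq, ip_eq, Finset.sum_comm]
  refine Finset.sum_congr rfl fun i _ => ?_
  refine Finset.sum_congr rfl fun k _ => ?_
  rw [Q.sym k i]; ring

theorem ip_simple_left (i : I) (s : Φ) : ip Q (C.simple i) s = Q.d i * K.pair i s := by
  unfold ip
  rw [Finset.sum_eq_single i]
  · rw [K.co_simple, if_pos rfl, mul_one]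
  · intro j _ hj
    rw [K.co_simple, if_neg hj]; ring
  · intro h; exact absurd (Finset.mem_univ i) h

theorem ip_neg_left (r s : Φ) : ip Q (C.neg r) s = - ip Q r s := by
  unfold ip
  rw [← Finset.sum_neg_distrib]
  refine Finset.sum_congr rfl fun i _ => ?_
  rw [K.co_neg]; ring

theorem ip_neg_right (r s : Φ) : ip Q r (C.neg s) = - ip Q r s := by
  rw [ip_comm, ip_neg_left, ip_comm]

theorem ip_refl (j : I) (r s : Φ) : ip Q (C.refl j r) (C.refl j s) = ip Q r s := by
  have h1 : ∀ (r : Φ) (l : I), K.co (C.refl j r) l = K.co r l - K.pair j r * K.co (C.simple j) l := by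
    intro r l
    rw [K.co_refl', K.co_simple]
    split_ifs <;> ring
  rw [ip_lin_left Q (h1 r), ip_simple_left, ip_comm Q r, ip_lin_left Q (h1 s), ip_simple_left,
    K.pair_refl, ip_comm Q s r]
  ring

theorem ip_W {w : Equiv.Perm Φ} (hw : w ∈ C.W) (r s : Φ) : ip Q (w r) (w s) = ip Q r s := by
  obtain ⟨L, rfl⟩ := C.exists_word hw
  clear hw
  induction L with
  | nil => rfl
  | cons i L ih =>
    rw [RootComb.w_cons, Equiv.Perm.mul_apply, Equiv.Perm.mul_apply, ip_refl, ih]

theorem ip_self_pos (hsc : ∀ r : Φ, ∃ L i, C.w L (C.simple i) = r) (r : Φ) : 0 < ip Q r r := by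
  obtain ⟨L, i, rfl⟩ := hsc r
  rw [ip_W Q (C.w_mem L), ip_simple_left, K.pair_simple, K.pair_self]
  have := Q.dpos i
  omega

/-- the reflection in a root -/
noncomputable def rf (hsc : ∀ r : Φ, ∃ L i, C.w L (C.simple i) = r) (r : Φ) : Equiv.Perm Φ :=
  C.w (hsc r).choose * C.refl (hsc r).choose_spec.choose * (C.w (hsc r).choose)⁻¹

variable (hsc : ∀ r : Φ, ∃ L i, C.w L (C.simple i) = r)

theorem rf_eq [Finite Φ] (K : CoordSys C) {w : Equiv.Perm Φ} (hw : w ∈ C.W) (i : I) {r : Φ} (h : w (C.simple i) = r) :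
    rf hsc r = w * C.refl i * w⁻¹ := by
  unfold rf
  set L := (hsc r).choose
  set j := (hsc r).choose_spec.choose
  have hL : C.w L (C.simple j) = r := (hsc r).choose_spec.choose_spec
  have hv : w⁻¹ * C.w L ∈ C.W := C.W.mul_mem (C.W.inv_mem hw) (C.w_mem _)
  have h2 := K.conj_refl hv (i := i) (j := j) (by
    rw [Equiv.Perm.mul_apply, hL, ← h]; simp)
  have e1 : C.w L * C.refl j = w * ((w⁻¹ * C.w L) * C.refl j) := by simp [mul_assoc]
  rw [mul_inv_eq_iff_eq_mul]
  show C.w L * C.refl j = w * C.refl i * w⁻¹ * C.w L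
  rw [e1, h2]; simp only [mul_assoc]

theorem rf_mem (r : Φ) : rf hsc r ∈ C.W :=
  C.W.mul_mem (C.W.mul_mem (C.w_mem _) (refl_mem _)) (C.W.inv_mem (C.w_mem _))

theorem rf_sq (r : Φ) : rf hsc r * rf hsc r = 1 := by
  unfold rf
  set v := C.w (hsc r).choose
  set s := C.refl (hsc r).choose_spec.choose
  have : v * s * v⁻¹ * (v * s * v⁻¹) = v * (s * s) * v⁻¹ := by group
  rw [this, C.refl_mul_self]; simp

theorem rf_conj [Finite Φ] (K : CoordSys C) {w : Equiv.Perm Φ} (hw : w ∈ C.W) (r : Φ) :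
    rf hsc (w r) = w * rf hsc r * w⁻¹ := by
  obtain ⟨L, i, hL⟩ := hsc r
  rw [rf_eq hsc K (C.w_mem L) i hL, rf_eq hsc K (C.W.mul_mem hw (C.w_mem L)) i (r := w r) (by
    rw [Equiv.Perm.mul_apply, hL])]
  group

theorem rf_neg [Finite Φ] (K : CoordSys C) (r : Φ) : rf hsc (C.neg r) = rf hsc r := by
  obtain ⟨L, i, hL⟩ := hsc r
  rw [rf_eq hsc K (C.w_mem L) i hL, rf_eq hsc K (C.W.mul_mem (C.w_mem L) (refl_mem i)) i (r := C.neg r) (by
    rw [Equiv.Perm.mul_apply, C.refl_simple, C.w_neg, hL])]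
  rw [mul_inv_rev, RootComb.refl_inv]
  have : C.w L * C.refl i * C.refl i * (C.refl i * (C.w L)⁻¹) =
    C.w L * (C.refl i * C.refl i) * C.refl i * (C.w L)⁻¹ := by group
  rw [this, C.refl_mul_self, mul_one]

theorem rf_self (r : Φ) : rf hsc r r = C.neg r := by
  have hL := (hsc r).choose_spec.choose_spec
  unfold rf
  rw [Equiv.Perm.mul_apply, Equiv.Perm.mul_apply]
  have : (C.w (hsc r).choose)⁻¹ r = C.simple (hsc r).choose_spec.choose := by
    rw [Equiv.Perm.inv_eq_iff_eq]; exact hL.symm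
  rw [this, C.refl_simple, C.w_neg, hL]

theorem rf_co (K : CoordSys C) (r s : Φ) : ∃ c : ℤ, ∀ l, K.co (rf hsc r s) l = K.co s l - c * K.co r l := by
  have hL := (hsc r).choose_spec.choose_spec
  unfold rf
  set L := (hsc r).choose
  set i := (hsc r).choose_spec.choose
  refine ⟨K.pair i ((C.w L)⁻¹ s), fun l => ?_⟩
  have h := K.co_mul_refl (C.w_mem L) i ((C.w L)⁻¹ s) l
  rw [hL] at h
  have e : (C.w L) ((C.w L)⁻¹ s) = s := by simp
  rw [e] at h
  rw [Equiv.Perm.mul_apply]
  exact h

theorem rf_fix {r s : Φ} (h : ip Q r s = 0) : rf hsc r s = s := by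
  obtain ⟨c, hc⟩ := rf_co hsc K r s
  have h1 : ip Q (rf hsc r s) r = 0 := by
    have e : r = rf hsc r (C.neg r) := by
      have h2 := rf_self hsc r
      rw [← h2, ← Equiv.Perm.mul_apply, rf_sq]; rfl
    conv_lhs => rw [show ip Q (rf hsc r s) r = ip Q (rf hsc r s) (rf hsc r (C.neg r)) by rw [← e]]
    rw [ip_W Q (rf_mem hsc r), ip_neg_right, ip_comm, h, neg_zero]
  rw [ip_lin_left Q hc, ip_comm Q s, h, zero_sub, neg_eq_zero] at h1
  have hpos := ip_self_pos Q hsc r
  have hc0 : c = 0 := by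
    rcases mul_eq_zero.1 h1 with h2 | h2
    · exact h2
    · omega
  apply K.co_inj
  funext l
  rw [hc, hc0]; ring

/-- every involution of the Weyl group is a product of orthogonal reflections -/
theorem exists_orth [Finite Φ] (Q : Frm K) : ∀ (n : ℕ) (w : Equiv.Perm Φ), w ∈ C.W → w * w = 1 → mu w = n →
    ∃ L : List Φ, L.Pairwise (fun r s => ip Q r s = 0) ∧ (L.map (rf hsc)).prod = w ∧
      ∀ r ∈ L, w r = C.neg r := by
  intro n
  induction n using Nat.strong_induction_on with
  | _ n ih =>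
    intro w hw h2 hmu
    obtain ⟨v, hv, hdesc⟩ := exists_min_conj hw h2
    by_cases hex : ∀ s, C.pos ((v * w * v⁻¹) (C.simple s))
    · have hw1 : v * w * v⁻¹ = 1 := by
        apply K.eq_one_of_len_zero (C.W.mul_mem (C.W.mul_mem hv hw) (C.W.inv_mem hv))
        by_contra hne
        obtain ⟨i, hi⟩ := K.exists_right_descent (C.W.mul_mem (C.W.mul_mem hv hw) (C.W.inv_mem hv)) hne
        exact hi (hex i)
      have hw1' : w = 1 := by
        have : w = v⁻¹ * (v * w * v⁻¹) * v := by group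
        rw [this, hw1]; group
      exact ⟨[], List.Pairwise.nil, by rw [hw1']; rfl, by simp⟩
    push Not at hex
    obtain ⟨s, hs⟩ := hex
    have hs' := hdesc s hs
    set b := v⁻¹ (C.simple s) with hb
    have hvb : v b = C.simple s := by rw [hb]; simp
    have hwb : w b = C.neg b := by
      have h3 : v (w b) = C.neg (C.simple s) := by
        rw [← hs', Equiv.Perm.mul_apply, Equiv.Perm.mul_apply, ← hb]
      have h4 : v (C.neg b) = C.neg (C.simple s) := by rw [C.W_neg hv, hvb]
      exact v.injective (h3.trans h4.symm)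
    have hrb : rf hsc b = v⁻¹ * C.refl s * v := by
      rw [rf_eq hsc K (C.W.inv_mem hv) s rfl, inv_inv]
    have hcomm : w * rf hsc b = rf hsc b * w := by
      have := rf_conj hsc K hw b
      rw [hwb, rf_neg hsc K] at this
      rw [eq_mul_inv_iff_mul_eq] at this
      exact this.symm
    set w' := rf hsc b * w with hw'
    have hw'W : w' ∈ C.W := C.W.mul_mem (rf_mem hsc b) hw
    have hw'2 : w' * w' = 1 := by
      have : w' * w' = rf hsc b * (w * rf hsc b) * w := by rw [hw']; group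
      rw [this, hcomm]
      have : rf hsc b * (rf hsc b * w) * w = (rf hsc b * rf hsc b) * (w * w) := by group
      rw [this, rf_sq, h2, mul_one]
    have hmu' : mu w' < n := by
      rw [← hmu, ← mu_conj v w, ← mu_conj v w']
      have : v * w' * v⁻¹ = C.refl s * (v * w * v⁻¹) := by rw [hw', hrb]; group
      rw [this]
      exact mu_lt K (C.W.mul_mem (C.W.mul_mem hv hw) (C.W.inv_mem hv)) hs'
    obtain ⟨L, hL1, hL2, hL3⟩ := ih _ hmu' w' hw'W hw'2 rfl
    have hw'b : w' b = b := by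
      rw [hw', Equiv.Perm.mul_apply, hwb, C.W_neg (rf_mem hsc b), rf_self, C.neg_neg]
    have horth : ∀ r ∈ L, ip Q b r = 0 := by
      intro r hr
      have h3 := ip_W Q hw'W b r
      rw [hw'b, hL3 r hr, ip_neg_right] at h3
      omega
    refine ⟨b :: L, List.pairwise_cons.2 ⟨horth, hL1⟩, ?_, ?_⟩
    · rw [List.map_cons, List.prod_cons, hL2, hw', ← mul_assoc, rf_sq, one_mul]
    · have hw'' : w = rf hsc b * w' := by rw [hw', ← mul_assoc, rf_sq, one_mul]
      intro r hr
      rcases List.mem_cons.1 hr with rfl | hr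
      · exact hwb
      · rw [hw'', Equiv.Perm.mul_apply, hL3 r hr, C.W_neg (rf_mem hsc b),
          rf_fix Q hsc (horth r hr)]

end H42.Inv2F
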