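import Cfsg.Agent.Lib.H42.InvH
import Cfsg.Agent.Lib.H22.ChevOrder

/-!
Every involution of a Chevalley group of odd characteristic (with suitable Cartan integers) is
conjugate into the torus.
-/

set_option autoImplicit false

namespace H42.InvC

open H22.RGD H22.Coord H22.RCCheck H22.RCComb H22.ChevTri H22.ChevRel H22.ChevSys H22.ChevMain
open H22.ChevStd H22.ChevUni H42.InvW H42.InvH
open Cfsg.Lie (ChevalleyDatum)
open scoped MatrixGroups Matrix

variable {D : ChevalleyDatum} {F : Type*} [Field F] (R : Rel D F) {X : RCX D}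

theorem conj_pr {h : GL D.Idx F} {χ : ℕ → F}
    (hχ : ∀ s < D.nroots, ∀ t : F, h * xg R s t * h⁻¹ = xg R s (χ s * t)) (τ : ℕ → F) :
    ∀ m k, k + m ≤ D.nroots → h * pr R τ k m * h⁻¹ = pr R (fun r => χ r * τ r) k m := by
  intro m
  induction m with
  | zero => intro k _; simp [pr]
  | succ m ih =>
    intro k hk
    rw [pr_succ, pr_succ, ← ih (k + 1) (by omega), ← hχ k (by omega)]
    group

variable (Z : Lex X.rc)

include Z in
/-- an element of `U` commuting with a torus element has coordinates supported on its kernel -/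
theorem pr_of_comm {u h : GL D.Idx F} (hu : u ∈ (chevSys R X).U) {χ : ℕ → F}
    (hχ : ∀ s < D.nroots, ∀ t : F, h * xg R s t * h⁻¹ = xg R s (χ s * t)) (hc : h * u * h⁻¹ = u) :
    ∃ τ : ℕ → F, u = pr R τ X.rc.half X.rc.half ∧
      ∀ r, X.rc.half ≤ r → r < D.nroots → χ r ≠ 1 → τ r = 0 := by
  have hn : X.rc.half + X.rc.half = D.nroots := by have := X.rc.nroots_eq; omega
  rw [chevSys_U, posUnipotent_eq_Vk R X.rc, mem_Vk_iff R Z X.rc.half X.rc.half hn le_rfl] at hu
  obtain ⟨τ, rfl⟩ := hu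
  refine ⟨τ, rfl, fun r hr hr' hne => ?_⟩
  rw [conj_pr R hχ τ _ _ hn.le] at hc
  have h1 := pr_inj R Z X.rc.half X.rc.half hn le_rfl hc r hr (by omega)
  have h2 : (χ r - 1) * τ r = 0 := by linear_combination h1
  rcases mul_eq_zero.1 h2 with h3 | h3
  · exact absurd (sub_eq_zero.1 h3) hne
  · exact h3

include Z in
theorem hC (h2F : (2 : F) ≠ 0) (K : CK D) : ∀ u ∈ (chevSys R X).U,
    (∀ h ∈ (chevSys R X).H, u * h * u⁻¹ ∈ (chevSys R X).H) → u = 1 := by
  intro u hu hh
  have hn : X.rc.half + X.rc.half = D.nroots := by have := X.rc.nroots_eq; omega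
  have hcomm : ∀ h ∈ (chevSys R X).H, h * u * h⁻¹ = u := by
    intro h hh'
    have h1 := hh h hh'
    have h2 : h * u * h⁻¹ ∈ (chevSys R X).U := conj_mem_of_stabSub ((chevSys R X).H_le_stab_U hh') hu
    have h3 : u * (h * u * h⁻¹)⁻¹ = 1 := by
      apply (chevSys R X).eq_one_of_mem_U_H
      · exact (chevSys R X).U.mul_mem hu ((chevSys R X).U.inv_mem h2)
      · have : u * (h * u * h⁻¹)⁻¹ = (u * h * u⁻¹) * h⁻¹ := by group
        rw [this]
        exact (chevSys R X).H.mul_mem h1 ((chevSys R X).H.inv_mem hh')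
    rw [mul_inv_eq_one] at h3
    exact h3.symm
  have h1 : (1 : F) ≠ -1 := by
    intro h
    apply h2F
    linear_combination h
  have hu' := hu
  rw [chevSys_U, posUnipotent_eq_Vk R X.rc, mem_Vk_iff R Z X.rc.half X.rc.half hn le_rfl] at hu'
  obtain ⟨τ, hτ⟩ := hu'
  have h0 : ∀ r, X.rc.half ≤ r → r < X.rc.half + X.rc.half → τ r = 0 := by
    intro r hr hr'
    obtain ⟨i, hi⟩ := K.nbr ⟨r, by omega⟩
    have hmem : hs R (i : ℕ) (-1 : F) ∈ (chevSys R X).H := by
      rw [chevSys_H, diagonalSubgroup_eq R X]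
      exact hs_mem R i.2 (neg_ne_zero.2 one_ne_zero)
    have h2 := hcomm _ hmem
    rw [hτ, conj_pr R (fun s hs t => hs_conj R i.2 (neg_ne_zero.2 one_ne_zero) hs X.rc t) τ _ _ hn.le] at h2
    have h3 := pr_inj R Z X.rc.half X.rc.half hn le_rfl h2 r hr (by omega)
    rw [Odd.neg_one_zpow hi] at h3
    have h4 : 2 * τ r = 0 := by linear_combination (-1) * h3
    rcases mul_eq_zero.1 h4 with h5 | h5
    · exact absurd h5 h2F
    · exact h5
  rw [hτ]
  exact H47.RootCent.pr_zero_of R _ _ h0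

include Z in
/-- every involution is conjugate into the torus -/
theorem conj_H [Fintype F] (h2F : (2 : F) ≠ 0) (K : CK D) (E : SLH R) {t : GL D.Idx F}
    (ht : t ∈ D.group F) (h2 : t * t = 1) : ∃ g ∈ D.group F, g * t * g⁻¹ ∈ (chevSys R X).H := by
  have hodd : ¬ 2 ∣ Nat.card (chevSys R X).U := by
    rw [chevSys_U, H22.ChevOrder.card_U R X rfl]
    intro h
    have h3 := Nat.Prime.dvd_of_dvd_pow Nat.prime_two h
    have : ringChar F ≠ 2 := by
      intro h
      apply h2F
      have := ringChar.Nat.cast_ringChar (R := F)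
      rw [h] at this
      exact_mod_cast this
    have h4 := FiniteField.odd_card_of_char_ne_two this
    omega
  rw [← chevSys_Γ R X] at ht
  obtain ⟨g, hg, hgN⟩ := H42.InvN.conj_N (chevSys R X) hodd (hC R Z h2F K) ht h2
  obtain ⟨w, hw⟩ := (chevSys R X).exists_rep hgN
  have h2' : g * t * g⁻¹ * (g * t * g⁻¹) = 1 := by
    have : g * t * g⁻¹ * (g * t * g⁻¹) = g * (t * t) * g⁻¹ := by group
    rw [this, h2]; simp
  obtain ⟨g', hg', hH⟩ := to_H E h2F K _ _ w hw h2' rfl
  rw [chevSys_Γ] at hg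
  refine ⟨g' * g, (D.group F).mul_mem hg' hg, ?_⟩
  have : g' * g * t * (g' * g)⁻¹ = g' * (g * t * g⁻¹) * g'⁻¹ := by group
  rw [this]; exact hH

end H42.InvC
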