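import Cfsg.Agent.Lib.H42.Inv2N
import Cfsg.Agent.Lib.H42.Inv2F
import Cfsg.Agent.Lib.H42.InvC

/-!
Characteristic two: every involution of a Chevalley group over a finite field is conjugate to a
product of root elements `x_r(1)` for pairwise orthogonal roots `r`.
-/

set_option autoImplicit false
set_option linter.unusedSectionVars false

namespace H42.Inv2E

open H22.RGD H22.Coord H22.RCCheck H22.RCComb H22.ChevTri H22.ChevRel H22.ChevSys H22.ChevMain
open H22.ChevStd H22.ChevUni H42.InvH H42.InvW H42.Inv2F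
open H23.SL2Hom
open Cfsg.Lie (ChevalleyDatum)
open scoped MatrixGroups Matrix

section sl

variable {F : Type*} [Field F]

theorem sl_rel (h2F : (2 : F) = 0) : (ym 1 : Matrix.SpecialLinearGroup (Fin 2) F) * N xm ym 1 =
    xm 1 * ym 1 := by
  have h : (1 : F) + 1 = 0 := by rw [← h2F]; norm_num
  have hn : (-1 : F) = 1 := by linear_combination (-1) * h
  ext i j
  unfold N
  fin_cases i <;> fin_cases j <;>
    simp [mul_e, xm00, xm01, xm10, xm11, ym00, ym01, ym10, ym11, hn, h]

end sl

variable {D : ChevalleyDatum} {F : Type*} [Field F] (R : Rel D F) {X : RCX D}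

theorem commute_even (h2F : (2 : F) = 0) {r s : ℕ} (hr : r < D.nroots) (hs : s < D.nroots) (h1 : s ≠ r)
    (h2 : s ≠ D.neg r) (h : ∀ c ∈ D.commTerms r s, Even c.2.1) (u v : F) :
    Commute (xg R r u) (xg R s v) := by
  have h3 := comm_g R hr hs h1 h2 u v
  have h4 : wg R (D.commWord F r s u v) = 1 := by
    rw [← Subgroup.mem_bot]
    apply wg_mem
    intro p hp
    unfold ChevalleyDatum.commWord at hp
    simp only [List.mem_map] at hp
    obtain ⟨c, hc, rfl⟩ := hp
    obtain ⟨m, hm⟩ := h c hc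
    rw [Subgroup.mem_bot]
    simp only
    have : ((c.2.1 : ℤ) : F) = 0 := by
      rw [hm]; push_cast; rw [← two_mul, h2F, zero_mul]
    rw [this, zero_mul, zero_mul]
    exact xg_zero R _
  rw [h4, mul_one] at h3
  exact h3.symm

/-- hypothesis on the commutator relations -/
def HC (D : ChevalleyDatum) : Prop :=
  ∀ (i : Fin D.rank) (s : Fin D.nroots), D.cartan i s = 0 → ∀ c ∈ D.commTerms (D.simple i) s, Even c.2.1

variable (Q : Frm (H22.RCComb.coord X))

include Q in
theorem orth_commute (h2F : (2 : F) = 0) (hc : HC D) {r s : Fin D.nroots} (h : ip Q r s = 0) (u v : F) :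
    Commute (xg R (r : ℕ) u) (xg R (s : ℕ) v) := by
  obtain ⟨L, i, hL, ε, _, hx, _⟩ := exists_ng_conj R X r
  obtain ⟨η, hη, hη'⟩ := exists_sign_word R X L
  set s' := ((H22.RCComb.comb X).w L)⁻¹ s with hs'
  have es : (H22.RCComb.comb X).w L s' = s := by rw [hs']; simp
  have h1 : xg R (s : ℕ) v = nsw R L * xg R (s' : ℕ) (η s' * v) * (nsw R L)⁻¹ := by
    rw [hη', es, ← mul_assoc]
    have : η s' * η s' = 1 := by rcases (hη s').1 with h | h <;> rw [h] <;> ring
    rw [this, one_mul]
  rw [h1, hx u]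
  have h3 : ip Q ((H22.RCComb.comb X).simple i) s' = 0 := by
    have := ip_W Q ((H22.RCComb.comb X).w_mem L) ((H22.RCComb.comb X).simple i) s'
    rw [hL, es, h] at this
    exact this.symm
  rw [ip_simple_left, H47.RootCent.pair_eq] at h3
  have h4 : D.cartan i s' = 0 := by
    rcases mul_eq_zero.1 h3 with h5 | h5
    · have := Q.dpos i; omega
    · exact h5
  have hself : D.cartan i (D.simple i) = 2 := by
    rw [cartan_simple X.rc i.2 i.2]; exact cartan_self X.rc i.2
  have h5 : Commute (xg R (D.simple i) (ε * u)) (xg R (s' : ℕ) (η s' * v)) := by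
    apply commute_even R h2F (X.rc.simple_lt i i.2) s'.2 _ _ (hc i s' h4)
    · intro h6; rw [h6, hself] at h4; omega
    · intro h6
      rw [h6, cartan_neg X.rc i.2 (X.rc.simple_lt i i.2), hself] at h4; omega
  exact (Commute.conj_iff (nsw R L)).2 h5

/-- rank one homomorphisms for all roots -/
theorem exists_φ (K : H23.ChevCore.Core D) (r : Fin D.nroots) :
    ∃ φ : Matrix.SpecialLinearGroup (Fin 2) F →* GL D.Idx F,
      (∀ t, φ (xm t) = xg R r t) ∧ ∀ t, φ (ym t) = xg R (D.neg r) t := by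
  obtain ⟨φ, _, h⟩ := H23.ChevH2.sl2_hom (F := F) K r.2
  exact ⟨φ, fun t => xg_eq R ((h (xm t) t).1 rfl), fun t => xg_eq R ((h (ym t) t).2 rfl)⟩

/-- the product of the `x_r(1)` -/
def aL (L : List (Fin D.nroots)) : GL D.Idx F := (L.map fun r : Fin D.nroots => xg R (r : ℕ) (1 : F)).prod
/-- the product of the `n_r(1)` -/
def nL (L : List (Fin D.nroots)) : GL D.Idx F := (L.map fun r : Fin D.nroots => ng R (r : ℕ) (1 : F)).prod
/-- the product of the `x_{-r}(1)` -/
def yL (L : List (Fin D.nroots)) : GL D.Idx F := (L.map fun r : Fin D.nroots => xg R (D.neg r : ℕ) (1 : F)).prod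

theorem aL_cons (r : Fin D.nroots) (L : List (Fin D.nroots)) : aL R (r :: L) = xg R (r : ℕ) 1 * aL R L := by
  simp [aL]
theorem nL_cons (r : Fin D.nroots) (L : List (Fin D.nroots)) : nL R (r :: L) = ng R (r : ℕ) 1 * nL R L := by
  simp [nL]
theorem yL_cons (r : Fin D.nroots) (L : List (Fin D.nroots)) : yL R (r :: L) = xg R (D.neg r : ℕ) 1 * yL R L := by
  simp [yL]
theorem aL_append (L M : List (Fin D.nroots)) : aL R (L ++ M) = aL R L * aL R M := by
  simp [aL]

theorem aL_mem (L : List (Fin D.nroots)) : aL R L ∈ D.group F := by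
  unfold aL
  apply Subgroup.list_prod_mem
  intro x hx
  simp only [List.mem_map] at hx
  obtain ⟨r, _, rfl⟩ := hx
  exact rootSubgroup_le_group R r.2 (xg_mem R _ _)

theorem yL_mem (Q : RC D) (L : List (Fin D.nroots)) : yL R L ∈ D.group F := by
  unfold yL
  apply Subgroup.list_prod_mem
  intro x hx
  simp only [List.mem_map] at hx
  obtain ⟨r, _, rfl⟩ := hx
  exact rootSubgroup_le_group R (neg_lt Q r.2) (xg_mem R _ _)

/-- orthogonal families -/
abbrev Orth (L : List (Fin D.nroots)) : Prop := L.Pairwise fun r s => ip Q r s = 0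

include Q in
theorem neg_commute (h2F : (2 : F) = 0) (hc : HC D) {r s : Fin D.nroots} (h : ip Q r s = 0) (u v : F) :
    Commute (xg R (D.neg r : ℕ) u) (xg R (s : ℕ) v) := by
  have : ip Q ((H22.RCComb.comb X).neg r) s = 0 := by rw [ip_neg_left, h, neg_zero]
  exact orth_commute R Q h2F hc this u v

include Q in
theorem neg_commute' (h2F : (2 : F) = 0) (hc : HC D) {r s : Fin D.nroots} (h : ip Q r s = 0) (u v : F) :
    Commute (xg R (D.neg r : ℕ) u) (xg R (D.neg s : ℕ) v) := by
  have : ip Q ((H22.RCComb.comb X).neg r) ((H22.RCComb.comb X).neg s) = 0 := by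
    rw [ip_neg_left, ip_neg_right, h]; simp
  exact orth_commute R Q h2F hc this u v

include Q in
/-- elements of the rank one group of `r` commute with those of an orthogonal root -/
theorem φ_commute (h2F : (2 : F) = 0) (hc : HC D) {r s : Fin D.nroots} (h : ip Q r s = 0) (t : F) :
    (Commute (xg R (D.neg r : ℕ) t) (ng R (s : ℕ) 1)) ∧ (Commute (ng R (r : ℕ) 1) (xg R (D.neg s : ℕ) t)) ∧
      (Commute (ng R (r : ℕ) 1) (ng R (s : ℕ) 1)) := by
  have h' : ip Q s r = 0 := by rw [ip_comm]; exact h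
  have e1 : ∀ u v, Commute (xg R (r : ℕ) u) (xg R (s : ℕ) v) := orth_commute R Q h2F hc h
  have e2 : ∀ u v, Commute (xg R (D.neg r : ℕ) u) (xg R (s : ℕ) v) := neg_commute R Q h2F hc h
  have e3 : ∀ u v, Commute (xg R (r : ℕ) u) (xg R (D.neg s : ℕ) v) :=
    fun u v => (neg_commute R Q h2F hc h' v u).symm
  have e4 : ∀ u v, Commute (xg R (D.neg r : ℕ) u) (xg R (D.neg s : ℕ) v) := neg_commute' R Q h2F hc h
  rw [ng_def, ng_def]
  have f1 : ∀ u v, Commute (xg R (D.neg r : ℕ) u) (xg R (s : ℕ) v * xg R (D.neg s : ℕ) (-v⁻¹) * xg R (s : ℕ) v) :=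
    fun u v => ((e2 u v).mul_right (e4 u _)).mul_right (e2 u v)
  have f2 : ∀ u v, Commute (xg R (r : ℕ) u) (xg R (s : ℕ) v * xg R (D.neg s : ℕ) (-v⁻¹) * xg R (s : ℕ) v) :=
    fun u v => ((e1 u v).mul_right (e3 u _)).mul_right (e1 u v)
  refine ⟨f1 t 1, ((e3 1 t).mul_left (e4 _ t)).mul_left (e3 1 t), ?_⟩
  exact ((f2 1 1).mul_left (f1 _ 1)).mul_left (f2 1 1)

theorem ng_sq_one (h2F : (2 : F) = 0) (r : ℕ) : ng R r (1 : F) * ng R r 1 = 1 := by
  have hn : (-1 : F) = 1 := by linear_combination (-1) * h2F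
  have h1 := ng_inv R r (1 : F)
  rw [hn] at h1
  calc ng R r (1 : F) * ng R r 1 = ng R r (1 : F) * (ng R r 1)⁻¹ := by rw [h1]
    _ = 1 := mul_inv_cancel _

include Q in
theorem nL_sq (h2F : (2 : F) = 0) (hc : HC D) {L : List (Fin D.nroots)} (hL : Orth Q L) :
    nL R L * nL R L = 1 := by
  induction L with
  | nil => simp [nL]
  | cons r L ih =>
    have hL' := List.pairwise_cons.1 hL
    have h1 : Commute (ng R (r : ℕ) 1) (nL R L) := by
      unfold nL
      apply Commute.list_prod_right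
      intro x hx
      simp only [List.mem_map] at hx
      obtain ⟨s, hs, rfl⟩ := hx
      exact (φ_commute R Q h2F hc (hL'.1 s hs) 1).2.2
    rw [nL_cons]
    calc ng R (r : ℕ) 1 * nL R L * (ng R (r : ℕ) 1 * nL R L) =
        ng R (r : ℕ) 1 * (nL R L * ng R (r : ℕ) 1) * nL R L := by simp only [mul_assoc]
      _ = (ng R (r : ℕ) 1 * ng R (r : ℕ) 1) * (nL R L * nL R L) := by rw [h1.eq.symm]; simp only [mul_assoc]
      _ = 1 := by rw [ng_sq_one R h2F, ih hL'.2, mul_one]

include Q in
/-- `n_L` is conjugate to `x_L` -/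
theorem nL_conj (h2F : (2 : F) = 0) (hc : HC D) (K : H23.ChevCore.Core D) {L : List (Fin D.nroots)}
    (hL : Orth Q L) : yL R L * nL R L = aL R L * yL R L := by
  induction L with
  | nil => simp [nL, yL, aL]
  | cons r L ih =>
    have hL' := List.pairwise_cons.1 hL
    obtain ⟨φ, h1, h2⟩ := exists_φ R K r
    have h3 : xg R (D.neg r : ℕ) 1 * ng R (r : ℕ) 1 = xg R (r : ℕ) 1 * xg R (D.neg r : ℕ) 1 := by
      have := congrArg φ (sl_rel h2F)
      unfold N at this
      rw [map_mul, map_mul, map_mul, map_mul, h1, h2, h2, inv_one] at this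
      rw [ng_def, inv_one]
      exact this
    have h4 : Commute (ng R (r : ℕ) 1) (yL R L) := by
      unfold yL
      apply Commute.list_prod_right
      intro x hx
      simp only [List.mem_map] at hx
      obtain ⟨s, hs, rfl⟩ := hx
      exact (φ_commute R Q h2F hc (hL'.1 s hs) 1).2.1
    have h5 : Commute (xg R (D.neg r : ℕ) 1) (aL R L) := by
      unfold aL
      apply Commute.list_prod_right
      intro x hx
      simp only [List.mem_map] at hx
      obtain ⟨s, hs, rfl⟩ := hx
      exact neg_commute R Q h2F hc (hL'.1 s hs) 1 1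
    rw [yL_cons, nL_cons, aL_cons]
    calc xg R (D.neg r : ℕ) 1 * yL R L * (ng R (r : ℕ) 1 * nL R L) =
        xg R (D.neg r : ℕ) 1 * (yL R L * ng R (r : ℕ) 1) * nL R L := by simp only [mul_assoc]
      _ = (xg R (D.neg r : ℕ) 1 * ng R (r : ℕ) 1) * (yL R L * nL R L) := by
          rw [h4.eq.symm]; simp only [mul_assoc]
      _ = xg R (r : ℕ) 1 * (xg R (D.neg r : ℕ) 1 * aL R L) * yL R L := by
          rw [h3, ih hL'.2]; simp only [mul_assoc]
      _ = _ := by rw [h5.eq]; simp only [mul_assoc]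

theorem hsc (X : RCX D) : ∀ r : Fin D.nroots, ∃ L i, (H22.RCComb.comb X).w L ((H22.RCComb.comb X).simple i) = r :=
  fun r => exists_simple_conj X r

/-- `n_r(1)` represents the reflection in `r` -/
theorem rep_ngr (r : Fin D.nroots) : (chevSys R X).Rep (ng R (r : ℕ) 1) (rf (hsc X) r) := by
  obtain ⟨L, i, hL, ε, hε, _, hn⟩ := exists_ng_conj R X r
  have hε0 : ε * 1 ≠ 0 := by
    rcases hε with h | h <;> rw [h] <;> simp
  have h1 := (((chevSys R X).rep_nw L).mul (rep_ng (R := R) (X := X) i hε0)).mul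
    ((chevSys R X).rep_nw L).inv
  rw [← nsw_eq_nw R X, ← hn 1] at h1
  rw [rf_eq (hsc X) (H22.RCComb.coord X) ((H22.RCComb.comb X).w_mem L) i hL]
  exact h1

theorem rep_nL (L : List (Fin D.nroots)) : (chevSys R X).Rep (nL R L) (L.map (rf (hsc X))).prod := by
  induction L with
  | nil => exact (chevSys R X).rep_H (one_mem _)
  | cons r L ih =>
    rw [nL_cons, List.map_cons, List.prod_cons]
    exact (rep_ngr R r).mul ih

/-- elements of the torus have order dividing `q - 1` -/
theorem H_pow [Fintype F] {h : GL D.Idx F} (hh : h ∈ (chevSys R X).H) :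
    h ^ (Fintype.card F - 1) = 1 := by
  have hh' := hh
  rw [chevSys_H, diagonalSubgroup_eq R X] at hh'
  obtain ⟨ε, h0, h1⟩ := H47.RootCent.Hyp.exists_eps ((chevSys R X).rep_H hh)
  apply eq_one_of_centralises R X.rc ((Hs R).pow_mem hh' _)
  intro s hs
  have h2 : ∀ k : ℕ, h ^ k * xg R s 1 * (h ^ k)⁻¹ = xg R s (ε ⟨s, hs⟩ ^ k * 1) := by
    intro k
    induction k with
    | zero => simp
    | succ k ih =>
      have e : h ^ (k + 1) * xg R s 1 * (h ^ (k + 1))⁻¹ = h * (h ^ k * xg R s 1 * (h ^ k)⁻¹) * h⁻¹ := by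
        rw [pow_succ']; group
      have h3 := h1 ⟨s, hs⟩ (ε ⟨s, hs⟩ ^ k * 1)
      simp only [Equiv.Perm.coe_one, id_eq] at h3
      rw [e, ih, h3, pow_succ', mul_assoc]
  have h3 := h2 (Fintype.card F - 1)
  rw [FiniteField.pow_card_sub_one_eq_one _ (h0 _), mul_one, mul_inv_eq_iff_eq_mul] at h3
  exact h3

include Q in
/-- every involution is conjugate to a product of root elements for orthogonal roots -/
theorem to_list [Fintype F] (h2F : (2 : F) = 0) (hc : HC D) (K : H23.ChevCore.Core D) {t : GL D.Idx F}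
    (ht : t ∈ D.group F) (h2 : t * t = 1) : ∃ L : List (Fin D.nroots), Orth Q L ∧
      ∃ g ∈ D.group F, g * t * g⁻¹ = aL R L := by
  rw [← chevSys_Γ R X] at ht ⊢
  obtain ⟨g, hg, hgN⟩ := H42.Inv2N.conj_N (chevSys R X) (H22.RCComb.coord X) ht h2
  obtain ⟨w, hw⟩ := (chevSys R X).exists_rep hgN
  set m := g * t * g⁻¹ with hm
  have hm2 : m * m = 1 := by
    have : m * m = g * (t * t) * g⁻¹ := by rw [hm]; group
    rw [this, h2]; simp
  have hw2 : w * w = 1 := by
    have h1 := hw.mul hw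
    rw [hm2] at h1
    exact h1.unique ((chevSys R X).rep_H (chevSys R X).H.one_mem)
  obtain ⟨L, hL1, hL2, _⟩ := exists_orth (hsc X) Q _ w hw.2.1 hw2 rfl
  have hn := rep_nL (X := X) R L
  rw [hL2] at hn
  have hn2 := nL_sq R Q h2F hc hL1
  set n := nL R L with hnn
  -- `m = h n`
  have hh : m * n⁻¹ ∈ (chevSys R X).H := by
    have := hw.mul hn.inv
    rw [mul_inv_cancel] at this
    exact (chevSys R X).mem_H_of_rep_one this
  set h := m * n⁻¹ with hhdef
  have hmh : m = h * n := by rw [hhdef]; group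
  have hninv : n⁻¹ = n := inv_eq_of_mul_eq_one_left hn2
  have hinv : n * h * n⁻¹ = h⁻¹ := by
    rw [hmh] at hm2
    rw [eq_comm, inv_eq_iff_mul_eq_one, hninv]
    calc h * (n * h * n) = h * n * (h * n) := by group
      _ = 1 := hm2
  -- the square root
  have hq2 : Fintype.card F % 2 = 0 := by
    have : ringChar F = 2 := by
      have h3 : ringChar F ∣ 2 := (ringChar.spec F 2).1 (by exact_mod_cast h2F)
      rcases (Nat.dvd_prime Nat.prime_two).1 h3 with h4 | h4
      · exact absurd h4 (CharP.ringChar_ne_one (R := F))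
      · exact h4
    exact FiniteField.even_card_of_char_two this
  have hq1 : 1 < Fintype.card F := Fintype.one_lt_card
  set k := h ^ (Fintype.card F / 2) with hk
  have hk2 : k * k = h := by
    rw [hk, ← pow_add]
    have : Fintype.card F / 2 + Fintype.card F / 2 = (Fintype.card F - 1) + 1 := by omega
    rw [this, pow_succ, H_pow R hh, one_mul]
  have hkH : k ∈ (chevSys R X).H := (chevSys R X).H.pow_mem hh _
  have hkinv : n * k * n⁻¹ = k⁻¹ := by
    rw [hk, ← conj_pow, hinv, inv_pow]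
  have hconj : k⁻¹ * m * k = n := by
    have e1 : n * k = k⁻¹ * n := by rw [← hkinv]; group
    calc k⁻¹ * m * k = k⁻¹ * (k * k) * (n * k) := by rw [hmh, ← hk2]; group
      _ = n := by rw [e1]; group
  have hfin := nL_conj R Q h2F hc K hL1
  refine ⟨L, hL1, yL R L * k⁻¹ * g, ?_, ?_⟩
  · have h5 : yL R L ∈ (chevSys R X).Γ := by rw [chevSys_Γ]; exact yL_mem R X.rc L
    exact mul_mem (mul_mem h5 (inv_mem ((chevSys R X).B_le_Γ ((chevSys R X).H_le_B hkH)))) hg
  · have e2 : yL R L * k⁻¹ * g * t * (yL R L * k⁻¹ * g)⁻¹ = yL R L * (k⁻¹ * m * k) * (yL R L)⁻¹ := by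
      rw [hm]; group
    rw [e2, hconj, hfin]; group

/-! ### moving lists -/

/-- conjugacy of list products in the group -/
def Cj (L M : List (Fin D.nroots)) : Prop := ∃ g ∈ D.group F, g * aL R L * g⁻¹ = aL R M

variable {R}

theorem Cj.refl (L : List (Fin D.nroots)) : Cj R L L := ⟨1, one_mem _, by simp⟩

theorem Cj.trans {L M N : List (Fin D.nroots)} (h : Cj R L M) (h' : Cj R M N) : Cj R L N := by
  obtain ⟨g, hg, e⟩ := h
  obtain ⟨g', hg', e'⟩ := h'
  exact ⟨g' * g, mul_mem hg' hg, by rw [← e', ← e]; group⟩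

theorem Cj.symm {L M : List (Fin D.nroots)} (h : Cj R L M) : Cj R M L := by
  obtain ⟨g, hg, e⟩ := h
  exact ⟨g⁻¹, inv_mem hg, by rw [← e]; group⟩

variable (R)

theorem cj_map (h2F : (2 : F) = 0) (W : List (Fin D.rank)) (L : List (Fin D.nroots)) :
    Cj R L (L.map ((H22.RCComb.comb X).w W)) := by
  obtain ⟨ε, h1, h2⟩ := exists_sign_word R X W
  have hn : (-1 : F) = 1 := by linear_combination (-1) * h2F
  have hε : ∀ s, ε s = 1 := by
    intro s
    rcases (h1 s).1 with h | h
    · exact h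
    · rw [h, hn]
  refine ⟨nsw R W, ?_, ?_⟩
  · rw [nsw_eq_nw R X, ← chevSys_Γ R X]
    exact (chevSys R X).N_le_Γ ((chevSys R X).nw_mem_N W)
  · induction L with
    | nil => simp [aL]
    | cons r L ih =>
      rw [aL_cons, List.map_cons, aL_cons, ← ih]
      have := h2 r 1
      rw [hε, one_mul] at this
      rw [← this]; group

include Q in
theorem cj_perm (h2F : (2 : F) = 0) (hc : HC D) {L M : List (Fin D.nroots)} (hL : Orth Q L)
    (h : L.Perm M) : Cj R L M := by
  have hc2 : (L.map fun r : Fin D.nroots => xg R (r : ℕ) (1 : F)).Pairwise Commute := by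
    rw [List.pairwise_map]
    exact hL.imp fun {r s} hrs => orth_commute R Q h2F hc hrs 1 1
  refine ⟨1, one_mem _, ?_⟩
  have h3 : (L.map fun r : Fin D.nroots => xg R (r : ℕ) (1 : F)).Perm (M.map fun r : Fin D.nroots => xg R (r : ℕ) (1 : F)) := h.map _
  have h4 := h3.prod_eq' hc2
  unfold aL
  rw [h4]; simp

theorem orth_map (W : List (Fin D.rank)) {L : List (Fin D.nroots)} (hL : Orth Q L) :
    Orth Q (L.map ((H22.RCComb.comb X).w W)) := by
  unfold Orth at *
  rw [List.pairwise_map]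
  exact hL.imp fun {r s} hrs => by rw [ip_W Q ((H22.RCComb.comb X).w_mem W)]; exact hrs

theorem orth_perm {L M : List (Fin D.nroots)} (hL : Orth Q L) (h : L.Perm M) : Orth Q M := by
  unfold Orth at *
  exact hL.perm h (fun {r s} hrs => by rw [ip_comm]; exact hrs)

end H42.Inv2E
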