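import Cfsg.Agent.Lib.H42.Inv2E6a
import Cfsg.Agent.Lib.H22.ChevAll
import Cfsg.Agent.Lib.H23.ChevAll

/-!
Characteristic two, type E6: classification of involutions.
-/

set_option autoImplicit false
set_option maxRecDepth 100000

namespace H42.Inv2E6

open H22.RCPack H42.Inv2M H42.Inv2D H42.Inv2E H42.Inv2C H42.Inv2F H22.ChevRel H22.ChevUni

/-- lengths -/
def dd : ℕ → ℤ := fun _ => 1

/-- the form -/
def frm : Frm (H22.RCComb.coord H22.PoinE6.rcxE6) :=
  frmOf H22.PoinE6.rcxE6 H22.RCE6.matE6 dd rfl (by decide +kernel) (by decide +kernel)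

/-- the environment -/
noncomputable def env {F : Type*} [Field F] (h2F : (2 : F) = 0) : Env Cfsg.Lie.chevE6 F where
  R := H22.ChevAll.rel _ (by simp) F
  X := H22.PoinE6.rcxE6
  Q := frm
  h2F := h2F
  hc := hc
  K := H23.ChevAll.core Cfsg.Lie.chevE6 (by simp)
  T := H22.RCE6.tabE6
  A := H22.RCE6.matE6
  d := dd
  hco := rfl
  hA := rfl
  hd := fun _ => rfl
  h0 := by decide

/-- the representatives -/
def Ts : List (List ℕ) := [[71], [68, 66], [55, 65, 67]]

local notation "ckN" => Env.ckNode H22.RCE6.tabE6 H22.RCE6.matE6 dd Cfsg.Lie.chevE6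

theorem n0 : ckN [] 63 [71] = true := by decide +kernel
theorem n1 : ckN [71] 61 [60] = true := by decide +kernel
theorem n2 : ckN [71, 60] 28 [44] = true := by decide +kernel
theorem n3 : ckN [71, 60, 44] 8 [39] = true := by decide +kernel

theorem r3 : Env.ckRw H22.RCE6.tabE6 H22.RCE6.matE6 dd O Cfsg.Lie.chevE6 [20, 47, 8, 69]
    [71, 60, 44, 39] [71, 60, 44] = true := by decide +kernel

theorem m3 : Env.ckMove Cfsg.Lie.chevE6 [] [71, 60, 44, 39]
    ([71, 60, 44, 39] ++ []) = true := by decide +kernel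
theorem t1 : Env.ckMove Cfsg.Lie.chevE6 [] [71]
    [71] = true := by decide +kernel
theorem t2 : Env.ckMove Cfsg.Lie.chevE6 [4, 3, 1] [71, 60]
    [68, 66] = true := by decide +kernel
theorem t3 : Env.ckMove Cfsg.Lie.chevE6 [0, 2, 3, 1, 0] [71, 60, 44]
    [55, 65, 67] = true := by decide +kernel
theorem q1 : Env.ckOrth H22.RCE6.tabE6 H22.RCE6.matE6 dd Cfsg.Lie.chevE6 [71] = true := by
  decide +kernel
theorem q2 : Env.ckOrth H22.RCE6.tabE6 H22.RCE6.matE6 dd Cfsg.Lie.chevE6 [71, 60] = true := by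
  decide +kernel
theorem q3 : Env.ckOrth H22.RCE6.tabE6 H22.RCE6.matE6 dd Cfsg.Lie.chevE6 [71, 60, 44] = true := by
  decide +kernel

theorem o0 : ∀ Y ∈ Ts, Env.ckOrth H22.RCE6.tabE6 H22.RCE6.matE6 dd Cfsg.Lie.chevE6 Y = true := by
  decide +kernel

theorem hsub : ([20, 47, 8, 69] ++ [71, 60, 44, 39] ++ [71, 60, 44] : List ℕ) ⊆ Rs := by decide

theorem cls {F : Type*} [Field F] (h2F : (2 : F) = 0) :
    ∀ L : List (Fin Cfsg.Lie.chevE6.nroots), Orth (env h2F).Q L → L ≠ [] → (env h2F).Goal Ts L := by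
  have key : ∀ n, ∀ L : List (Fin Cfsg.Lie.chevE6.nroots), L.length = n → Orth (env h2F).Q L →
      L ≠ [] → (env h2F).Goal Ts L := by
    intro n
    induction n using Nat.strong_induction_on with
    | _ n ih =>
      have N3 := (env h2F).node (P := [71, 60, 44]) n3 (G := (env h2F).Goal Ts)
        (fun _ _ h h' => h'.tr h) (n := n) (fun _ => (env h2F).goal_end q3 t3 (by decide)) (by
          intro θ hθ
          simp only [List.mem_cons, List.not_mem_nil, or_false] at hθ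
          subst hθ
          exact (env h2F).goal_red ckO hsub r3 (by decide) (by decide) (ex := []) m3 ih)
      have N2 := (env h2F).node (P := [71, 60]) n2 (G := (env h2F).Goal Ts)
        (fun _ _ h h' => h'.tr h) (n := n) (fun _ => (env h2F).goal_end q2 t2 (by decide)) (by
          intro θ hθ
          simp only [List.mem_cons, List.not_mem_nil, or_false] at hθ
          subst hθ
          exact N3)
      have N1 := (env h2F).node (P := [71]) n1 (G := (env h2F).Goal Ts)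
        (fun _ _ h h' => h'.tr h) (n := n) (fun _ => (env h2F).goal_end q1 t1 (by decide)) (by
          intro θ hθ
          simp only [List.mem_cons, List.not_mem_nil, or_false] at hθ
          subst hθ
          exact N2)
      intro L hL ho hne
      have h0 : 0 < n := by rw [← hL]; exact List.length_pos_iff.2 hne
      have N0 := (env h2F).node (P := []) n0 (G := (env h2F).Goal Ts)
        (fun _ _ h h' => h'.tr h) (n := n) (fun h => absurd h (by simp only [List.length_nil]; omega)) (by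
          intro θ hθ
          simp only [List.mem_cons, List.not_mem_nil, or_false] at hθ
          subst hθ
          exact N1)
      exact N0 L (by simpa using hL) ho
  intro L
  exact key L.length L rfl

theorem hB : ∀ Y ∈ Ts, ckB Cfsg.Lie.chevE6 Y = true := by decide

theorem rk {F : Type*} [Field F] (h2F : (2 : F) = 0) : ∀ Y ∈ Ts, ∀ Y' ∈ Ts,
    rkP (2 ^ 78 - 1) (wm Cfsg.Lie.chevE6 F Y) = rkP (2 ^ 78 - 1) (wm Cfsg.Lie.chevE6 F Y') → Y = Y' := by
  intro Y hY Y' hY'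
  unfold Ts at hY hY'
  simp only [List.mem_cons, List.not_mem_nil, or_false] at hY hY'
  rcases hY with rfl | rfl | rfl <;> rcases hY' with rfl | rfl | rfl <;>
    simp only [rk1 h2F, rk2 h2F, rk3 h2F] <;> decide

theorem rkne {F : Type*} [Field F] (h2F : (2 : F) = 0) : ∀ Y ∈ Ts,
    rkP (2 ^ 78 - 1) (wm Cfsg.Lie.chevE6 F Y) ≠ rkP (2 ^ 78 - 1) (1 : Matrix Cfsg.Lie.chevE6.Idx Cfsg.Lie.chevE6.Idx F) := by
  intro Y hY
  unfold Ts at hY
  simp only [List.mem_cons, List.not_mem_nil, or_false] at hY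
  rw [rkP_one]
  rcases hY with rfl | rfl | rfl <;>
    simp only [rk1 h2F, rk2 h2F, rk3 h2F] <;> decide

theorem main {F : Type*} [Field F] [Fintype F] (h2F : (2 : F) = 0) :
    (∀ y : GL Cfsg.Lie.chevE6.Idx F, (y : Matrix Cfsg.Lie.chevE6.Idx Cfsg.Lie.chevE6.Idx F) ∈
      Ts.map (wm Cfsg.Lie.chevE6 F) → y ∈ Cfsg.Lie.chevE6.group F ∧ orderOf y = 2) ∧
    (∀ g ∈ Cfsg.Lie.chevE6.group F, orderOf g = 2 → ∃ y ∈ Cfsg.Lie.chevE6.group F,
      (y : Matrix Cfsg.Lie.chevE6.Idx Cfsg.Lie.chevE6.Idx F) ∈ Ts.map (wm Cfsg.Lie.chevE6 F) ∧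
      ∃ h ∈ Cfsg.Lie.chevE6.group F, h * g * h⁻¹ = y) ∧
    (∀ y₁ ∈ Cfsg.Lie.chevE6.group F, ∀ y₂ ∈ Cfsg.Lie.chevE6.group F,
      (y₁ : Matrix Cfsg.Lie.chevE6.Idx Cfsg.Lie.chevE6.Idx F) ∈ Ts.map (wm Cfsg.Lie.chevE6 F) →
      (y₂ : Matrix Cfsg.Lie.chevE6.Idx Cfsg.Lie.chevE6.Idx F) ∈ Ts.map (wm Cfsg.Lie.chevE6 F) →
      (∃ h ∈ Cfsg.Lie.chevE6.group F, h * y₁ * h⁻¹ = y₂) →
      (y₁ : Matrix Cfsg.Lie.chevE6.Idx Cfsg.Lie.chevE6.Idx F) = (y₂ : Matrix Cfsg.Lie.chevE6.Idx Cfsg.Lie.chevE6.Idx F)) :=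
  (env h2F).final (Ts := Ts) (cls h2F) (fun Y hY => (env h2F).orth_spec (o0 Y hY))
    (rkP (D := Cfsg.Lie.chevE6) (F := F) (2 ^ 78 - 1))
    (fun g _ M => rk_full_conj (D := Cfsg.Lie.chevE6) (N := 78) (by decide) g M)
    (rk h2F) (rkne h2F) hB (Ms := Ts.map (wm Cfsg.Lie.chevE6 F)) rfl

theorem card {F : Type*} [Field F] [Fintype F] (h2F : (2 : F) = 0) :
    (ConjClasses.mk '' {g : ↥(Cfsg.Lie.chevE6.group F) | orderOf g = 2}).ncard = Ts.length :=
  (env h2F).final_card (Ts := Ts) (cls h2F) (fun Y hY => (env h2F).orth_spec (o0 Y hY))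
    (rkP (D := Cfsg.Lie.chevE6) (F := F) (2 ^ 78 - 1))
    (fun g _ M => rk_full_conj (D := Cfsg.Lie.chevE6) (N := 78) (by decide) g M)
    (rk h2F) (rkne h2F) hB (by decide)

end H42.Inv2E6
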