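import Cfsg.Agent.Lib.H42.Inv2E7a
import Cfsg.Agent.Lib.H22.ChevAll
import Cfsg.Agent.Lib.H23.ChevAll

/-!
Characteristic two, type E7: classification of involutions.
-/

set_option autoImplicit false
set_option maxRecDepth 100000

namespace H42.Inv2E7

open H22.RCPack H42.Inv2M H42.Inv2D H42.Inv2E H42.Inv2C H42.Inv2F H22.ChevRel H22.ChevUni

/-- lengths -/
def dd : ℕ → ℤ := fun _ => 1

/-- the form -/
def frm : Frm (H22.RCComb.coord H22.PoinE7.rcxE7) :=
  frmOf H22.PoinE7.rcxE7 H22.RCE7.matE7 dd rfl (by decide +kernel) (by decide +kernel)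

/-- the environment -/
noncomputable def env {F : Type*} [Field F] (h2F : (2 : F) = 0) : Env Cfsg.Lie.chevE7 F where
  R := H22.ChevAll.rel _ (by simp) F
  X := H22.PoinE7.rcxE7
  Q := frm
  h2F := h2F
  hc := hc
  K := H23.ChevAll.core Cfsg.Lie.chevE7 (by simp)
  T := H22.RCE7.tabE7
  A := H22.RCE7.matE7
  d := dd
  hco := rfl
  hA := rfl
  hd := fun _ => rfl
  h0 := by decide

/-- the representatives -/
def Ts : List (List ℕ) := [[125], [125, 92], [125, 92, 63], [125, 92, 87], [125, 92, 63, 87]]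

local notation "ckN" => Env.ckNode H22.RCE7.tabE7 H22.RCE7.matE7 dd Cfsg.Lie.chevE7

theorem n0 : ckN [] 127 [125] = true := by decide +kernel
theorem n1 : ckN [125] 126 [92] = true := by decide +kernel
theorem n2 : ckN [125, 92] 94 [63, 87] = true := by decide +kernel
theorem n3a : ckN [125, 92, 63] 30 [87] = true := by decide +kernel
theorem n3b : ckN [125, 92, 87] 86 [63, 66, 73, 78] = true := by decide +kernel
theorem n4 : ckN [125, 92, 63, 87] 22 [66, 73, 78] = true := by decide +kernel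

theorem r3 : Env.ckRw H22.RCE7.tabE7 H22.RCE7.matE7 dd O Cfsg.Lie.chevE7 [22, 94, 17, 123]
    [125, 92, 87, 73] [125, 92, 87] = true := by decide +kernel

theorem m73 : Env.ckMove Cfsg.Lie.chevE7 [] [125, 92, 87, 73]
    ([125, 92, 87, 73] ++ []) = true := by decide +kernel
theorem m4_66 : Env.ckMove Cfsg.Lie.chevE7 [5, 4, 3, 2, 1, 3, 4, 5, 0, 2, 3, 4, 1, 3, 2, 0] [125, 92, 63, 87, 66]
    ([125, 92, 87, 73] ++ [63]) = true := by decide +kernel
theorem m4_73 : Env.ckMove Cfsg.Lie.chevE7 [] [125, 92, 63, 87, 73]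
    ([125, 92, 87, 73] ++ [63]) = true := by decide +kernel
theorem m4_78 : Env.ckMove Cfsg.Lie.chevE7 [5, 4, 3, 2, 1, 3, 4, 5] [125, 92, 63, 87, 78]
    ([125, 92, 87, 73] ++ [63]) = true := by decide +kernel
theorem m3_66 : Env.ckMove Cfsg.Lie.chevE7 [5, 6, 4, 5] [125, 92, 87, 66]
    [125, 92, 63, 87] = true := by decide +kernel
theorem m3_78 : Env.ckMove Cfsg.Lie.chevE7 [5, 6, 4, 5, 0, 2, 3, 4, 1, 3, 2, 0] [125, 92, 87, 78]
    [125, 92, 63, 87] = true := by decide +kernel
theorem m3_63 : Env.ckMove Cfsg.Lie.chevE7 [] [125, 92, 87, 63]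
    [125, 92, 63, 87] = true := by decide +kernel
theorem t1 : Env.ckMove Cfsg.Lie.chevE7 [] [125]
    [125] = true := by decide +kernel
theorem t2 : Env.ckMove Cfsg.Lie.chevE7 [] [125, 92]
    [125, 92] = true := by decide +kernel
theorem t3 : Env.ckMove Cfsg.Lie.chevE7 [] [125, 92, 63]
    [125, 92, 63] = true := by decide +kernel
theorem t4 : Env.ckMove Cfsg.Lie.chevE7 [] [125, 92, 87]
    [125, 92, 87] = true := by decide +kernel
theorem t5 : Env.ckMove Cfsg.Lie.chevE7 [] [125, 92, 63, 87]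
    [125, 92, 63, 87] = true := by decide +kernel
theorem q1 : Env.ckOrth H22.RCE7.tabE7 H22.RCE7.matE7 dd Cfsg.Lie.chevE7 [125] = true := by
  decide +kernel
theorem q2 : Env.ckOrth H22.RCE7.tabE7 H22.RCE7.matE7 dd Cfsg.Lie.chevE7 [125, 92] = true := by
  decide +kernel
theorem q3 : Env.ckOrth H22.RCE7.tabE7 H22.RCE7.matE7 dd Cfsg.Lie.chevE7 [125, 92, 63] = true := by
  decide +kernel
theorem q4 : Env.ckOrth H22.RCE7.tabE7 H22.RCE7.matE7 dd Cfsg.Lie.chevE7 [125, 92, 87] = true := by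
  decide +kernel
theorem q5 : Env.ckOrth H22.RCE7.tabE7 H22.RCE7.matE7 dd Cfsg.Lie.chevE7 [125, 92, 63, 87] = true := by
  decide +kernel

theorem o0 : ∀ Y ∈ Ts, Env.ckOrth H22.RCE7.tabE7 H22.RCE7.matE7 dd Cfsg.Lie.chevE7 Y = true := by
  decide +kernel

theorem hsub : ([22, 94, 17, 123] ++ [125, 92, 87, 73] ++ [125, 92, 87] : List ℕ) ⊆ Rs := by decide

theorem cls {F : Type*} [Field F] (h2F : (2 : F) = 0) :
    ∀ L : List (Fin Cfsg.Lie.chevE7.nroots), Orth (env h2F).Q L → L ≠ [] → (env h2F).Goal Ts L := by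
  have key : ∀ n, ∀ L : List (Fin Cfsg.Lie.chevE7.nroots), L.length = n → Orth (env h2F).Q L →
      L ≠ [] → (env h2F).Goal Ts L := by
    intro n
    induction n using Nat.strong_induction_on with
    | _ n ih =>
      have N4 := (env h2F).node (P := [125, 92, 63, 87]) n4 (G := (env h2F).Goal Ts)
        (fun _ _ h h' => h'.tr h) (n := n) (fun _ => (env h2F).goal_end q5 t5 (by decide)) (by
          intro θ hθ
          simp only [List.mem_cons, List.not_mem_nil, or_false] at hθ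
          rcases hθ with rfl | rfl | rfl
          · exact (env h2F).goal_red ckO hsub r3 (by decide) (by decide) (ex := [63]) m4_66 ih
          · exact (env h2F).goal_red ckO hsub r3 (by decide) (by decide) (ex := [63]) m4_73 ih
          · exact (env h2F).goal_red ckO hsub r3 (by decide) (by decide) (ex := [63]) m4_78 ih)
      have N3b := (env h2F).node (P := [125, 92, 87]) n3b (G := (env h2F).Goal Ts)
        (fun _ _ h h' => h'.tr h) (n := n) (fun _ => (env h2F).goal_end q4 t4 (by decide)) (by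
          intro θ hθ
          simp only [List.mem_cons, List.not_mem_nil, or_false] at hθ
          rcases hθ with rfl | rfl | rfl | rfl
          · exact (env h2F).goal_move m3_63 N4
          · exact (env h2F).goal_move m3_66 N4
          · exact (env h2F).goal_red ckO hsub r3 (by decide) (by decide) (ex := []) m73 ih
          · exact (env h2F).goal_move m3_78 N4)
      have N3a := (env h2F).node (P := [125, 92, 63]) n3a (G := (env h2F).Goal Ts)
        (fun _ _ h h' => h'.tr h) (n := n) (fun _ => (env h2F).goal_end q3 t3 (by decide)) (by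
          intro θ hθ
          simp only [List.mem_cons, List.not_mem_nil, or_false] at hθ
          subst hθ
          exact N4)
      have N2 := (env h2F).node (P := [125, 92]) n2 (G := (env h2F).Goal Ts)
        (fun _ _ h h' => h'.tr h) (n := n) (fun _ => (env h2F).goal_end q2 t2 (by decide)) (by
          intro θ hθ
          simp only [List.mem_cons, List.not_mem_nil, or_false] at hθ
          rcases hθ with rfl | rfl
          · exact N3a
          · exact N3b)
      have N1 := (env h2F).node (P := [125]) n1 (G := (env h2F).Goal Ts)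
        (fun _ _ h h' => h'.tr h) (n := n) (fun _ => (env h2F).goal_end q1 t1 (by decide)) (by
          intro θ hθ
          simp only [List.mem_cons, List.not_mem_nil, or_false] at hθ
          subst hθ
          exact N2)
      intro L hL ho hne
      have h0 : 0 < n := by rw [← hL]; exact List.length_pos_iff.2 hne
      have N0 := (env h2F).node (P := []) n0 (G := (env h2F).Goal Ts)
        (fun _ _ h h' => h'.tr h) (n := n) (fun h => absurd h (by simp only [List.length_nil]; omega)) (by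
          intro θ hθ
          simp only [List.mem_cons, List.not_mem_nil, or_false] at hθ
          subst hθ
          exact N1)
      exact N0 L (by simpa using hL) ho
  intro L
  exact key L.length L rfl

theorem hB : ∀ Y ∈ Ts, ckB Cfsg.Lie.chevE7 Y = true := by decide

theorem rk {F : Type*} [Field F] (h2F : (2 : F) = 0) : ∀ Y ∈ Ts, ∀ Y' ∈ Ts,
    rkP (2 ^ 133 - 1) (wm Cfsg.Lie.chevE7 F Y) = rkP (2 ^ 133 - 1) (wm Cfsg.Lie.chevE7 F Y') → Y = Y' := by
  intro Y hY Y' hY'
  unfold Ts at hY hY'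
  simp only [List.mem_cons, List.not_mem_nil, or_false] at hY hY'
  rcases hY with rfl | rfl | rfl | rfl | rfl <;> rcases hY' with rfl | rfl | rfl | rfl | rfl <;>
    simp only [rk1 h2F, rk2 h2F, rk3 h2F, rk4 h2F, rk5 h2F] <;> decide

theorem rkne {F : Type*} [Field F] (h2F : (2 : F) = 0) : ∀ Y ∈ Ts,
    rkP (2 ^ 133 - 1) (wm Cfsg.Lie.chevE7 F Y) ≠ rkP (2 ^ 133 - 1) (1 : Matrix Cfsg.Lie.chevE7.Idx Cfsg.Lie.chevE7.Idx F) := by
  intro Y hY
  unfold Ts at hY
  simp only [List.mem_cons, List.not_mem_nil, or_false] at hY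
  rw [rkP_one]
  rcases hY with rfl | rfl | rfl | rfl | rfl <;>
    simp only [rk1 h2F, rk2 h2F, rk3 h2F, rk4 h2F, rk5 h2F] <;> decide

theorem main {F : Type*} [Field F] [Fintype F] (h2F : (2 : F) = 0) :
    (∀ y : GL Cfsg.Lie.chevE7.Idx F, (y : Matrix Cfsg.Lie.chevE7.Idx Cfsg.Lie.chevE7.Idx F) ∈
      Ts.map (wm Cfsg.Lie.chevE7 F) → y ∈ Cfsg.Lie.chevE7.group F ∧ orderOf y = 2) ∧
    (∀ g ∈ Cfsg.Lie.chevE7.group F, orderOf g = 2 → ∃ y ∈ Cfsg.Lie.chevE7.group F,
      (y : Matrix Cfsg.Lie.chevE7.Idx Cfsg.Lie.chevE7.Idx F) ∈ Ts.map (wm Cfsg.Lie.chevE7 F) ∧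
      ∃ h ∈ Cfsg.Lie.chevE7.group F, h * g * h⁻¹ = y) ∧
    (∀ y₁ ∈ Cfsg.Lie.chevE7.group F, ∀ y₂ ∈ Cfsg.Lie.chevE7.group F,
      (y₁ : Matrix Cfsg.Lie.chevE7.Idx Cfsg.Lie.chevE7.Idx F) ∈ Ts.map (wm Cfsg.Lie.chevE7 F) →
      (y₂ : Matrix Cfsg.Lie.chevE7.Idx Cfsg.Lie.chevE7.Idx F) ∈ Ts.map (wm Cfsg.Lie.chevE7 F) →
      (∃ h ∈ Cfsg.Lie.chevE7.group F, h * y₁ * h⁻¹ = y₂) →
      (y₁ : Matrix Cfsg.Lie.chevE7.Idx Cfsg.Lie.chevE7.Idx F) = (y₂ : Matrix Cfsg.Lie.chevE7.Idx Cfsg.Lie.chevE7.Idx F)) :=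
  (env h2F).final (Ts := Ts) (cls h2F) (fun Y hY => (env h2F).orth_spec (o0 Y hY))
    (rkP (D := Cfsg.Lie.chevE7) (F := F) (2 ^ 133 - 1))
    (fun g _ M => rk_full_conj (D := Cfsg.Lie.chevE7) (N := 133) (by decide) g M)
    (rk h2F) (rkne h2F) hB (Ms := Ts.map (wm Cfsg.Lie.chevE7 F)) rfl

theorem card {F : Type*} [Field F] [Fintype F] (h2F : (2 : F) = 0) :
    (ConjClasses.mk '' {g : ↥(Cfsg.Lie.chevE7.group F) | orderOf g = 2}).ncard = Ts.length :=
  (env h2F).final_card (Ts := Ts) (cls h2F) (fun Y hY => (env h2F).orth_spec (o0 Y hY))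
    (rkP (D := Cfsg.Lie.chevE7) (F := F) (2 ^ 133 - 1))
    (fun g _ M => rk_full_conj (D := Cfsg.Lie.chevE7) (N := 133) (by decide) g M)
    (rk h2F) (rkne h2F) hB (by decide)

end H42.Inv2E7
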