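import Cfsg.Agent.Lib.H42.Inv2E8b
import Cfsg.Agent.Lib.H42.Inv2E8c
import Cfsg.Agent.Lib.H22.ChevAll
import Cfsg.Agent.Lib.H23.ChevAll

/-!
Characteristic two, type E8: classification of involutions.
-/

set_option autoImplicit false
set_option maxRecDepth 100000

namespace H42.Inv2E8

open H22.RCPack H42.Inv2M H42.Inv2D H42.Inv2E H42.Inv2C H42.Inv2F H22.ChevRel H22.ChevUni

/-- lengths -/
def dd : ℕ → ℤ := fun _ => 1

/-- the form -/
def frm : Frm (H22.RCComb.coord H22.PoinE8.rcxE8) :=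
  frmOf H22.PoinE8.rcxE8 H22.RCE8.matE8 dd rfl (by decide +kernel) (by decide +kernel)

/-- the environment -/
noncomputable def env {F : Type*} [Field F] (h2F : (2 : F) = 0) : Env Cfsg.Lie.chevE8 F where
  R := H22.ChevAll.rel _ (by simp) F
  X := H22.PoinE8.rcxE8
  Q := frm
  h2F := h2F
  hc := hc
  K := H23.ChevAll.core Cfsg.Lie.chevE8 (by simp)
  T := H22.RCE8.tabE8
  A := H22.RCE8.matE8
  d := dd
  hco := rfl
  hA := rfl
  hd := fun _ => rfl
  h0 := by decide

/-- the representatives -/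
def Ts : List (List ℕ) := [[239], [232, 233], [228, 222, 218], [226, 220, 213, 216]]

local notation "ckN" => Env.ckNode H22.RCE8.tabE8 H22.RCE8.matE8 dd Cfsg.Lie.chevE8

theorem n0 : ckN [] 255 [239] = true := by decide +kernel
theorem n1 : ckN [239] 127 [226] = true := by decide +kernel
theorem n2 : ckN [239, 226] 126 [159] = true := by decide +kernel
theorem n3 : ckN [239, 226, 159] 94 [121, 152] = true := by decide +kernel
theorem n4 : ckN [239, 226, 159, 152] 86 [121, 126, 135, 141] = true := by decide +kernel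

theorem r3 : Env.ckRw H22.RCE8.tabE8 H22.RCE8.matE8 dd O Cfsg.Lie.chevE8 [79, 122, 12, 237]
    [239, 226, 159, 121] [239, 226, 159] = true := by decide +kernel

theorem m3 : Env.ckMove Cfsg.Lie.chevE8 [] [239, 226, 159, 121] ([239, 226, 159, 121] ++ []) = true := by
  decide +kernel
theorem m121 : Env.ckMove Cfsg.Lie.chevE8 [] [239, 226, 159, 152, 121] [239, 226, 159, 121, 152] = true := by
  decide +kernel
theorem m126 : Env.ckMove Cfsg.Lie.chevE8 [5, 6, 4, 5] [239, 226, 159, 152, 126]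
    [239, 226, 159, 121, 152] = true := by decide +kernel
theorem m135 : Env.ckMove Cfsg.Lie.chevE8
    [5, 6, 4, 5, 0, 2, 3, 4, 1, 3, 2, 0, 7, 6, 5, 4, 3, 2, 1, 3, 4, 5, 6, 7] [239, 226, 159, 152, 135]
    [239, 226, 159, 121, 152] = true := by decide +kernel
theorem m141 : Env.ckMove Cfsg.Lie.chevE8 [5, 6, 4, 5, 0, 2, 3, 4, 1, 3, 2, 0] [239, 226, 159, 152, 141]
    [239, 226, 159, 121, 152] = true := by decide +kernel
theorem t2 : Env.ckMove Cfsg.Lie.chevE8 [1, 3, 4, 5, 6, 7] [239, 226] [232, 233] = true := by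
  decide +kernel
theorem t3 : Env.ckMove Cfsg.Lie.chevE8 [5, 4, 3, 1, 2, 3, 4, 5, 6, 7, 4, 3, 2, 0] [239, 226, 159]
    [228, 222, 218] = true := by decide +kernel
theorem t4 : Env.ckMove Cfsg.Lie.chevE8
    [7, 6, 5, 4, 3, 1, 2, 3, 4, 5, 6, 7, 6, 5, 4, 3, 2, 0, 4, 5] [239, 226, 159, 152]
    [226, 220, 213, 216] = true := by decide +kernel

theorem q1 : Env.ckOrth H22.RCE8.tabE8 H22.RCE8.matE8 dd Cfsg.Lie.chevE8 [239] = true := by
  decide +kernel
theorem q2 : Env.ckOrth H22.RCE8.tabE8 H22.RCE8.matE8 dd Cfsg.Lie.chevE8 [239, 226] = true := by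
  decide +kernel
theorem q3 : Env.ckOrth H22.RCE8.tabE8 H22.RCE8.matE8 dd Cfsg.Lie.chevE8 [239, 226, 159] = true := by
  decide +kernel
theorem q4 : Env.ckOrth H22.RCE8.tabE8 H22.RCE8.matE8 dd Cfsg.Lie.chevE8 [239, 226, 159, 152] = true := by
  decide +kernel
theorem t1 : Env.ckMove Cfsg.Lie.chevE8 [] [239] [239] = true := by
  decide +kernel

theorem o0 : ∀ Y ∈ Ts, Env.ckOrth H22.RCE8.tabE8 H22.RCE8.matE8 dd Cfsg.Lie.chevE8 Y = true := by
  decide +kernel

theorem cls {F : Type*} [Field F] (h2F : (2 : F) = 0) :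
    ∀ L : List (Fin Cfsg.Lie.chevE8.nroots), Orth (env h2F).Q L → L ≠ [] → (env h2F).Goal Ts L := by
  have key : ∀ n, ∀ L : List (Fin Cfsg.Lie.chevE8.nroots), L.length = n → Orth (env h2F).Q L →
      L ≠ [] → (env h2F).Goal Ts L := by
    intro n
    induction n using Nat.strong_induction_on with
    | _ n ih =>
      have N4 := (env h2F).node (P := [239, 226, 159, 152]) n4 (G := (env h2F).Goal Ts)
        (fun _ _ h h' => h'.tr h) (n := n) (fun _ => (env h2F).goal_end q4 t4 (by decide)) (by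
          intro θ hθ
          have hsub : ([79, 122, 12, 237] ++ [239, 226, 159, 121] ++ [239, 226, 159] : List ℕ) ⊆ Rs := by
            decide
          simp only [List.mem_cons, List.not_mem_nil, or_false] at hθ
          rcases hθ with rfl | rfl | rfl | rfl
          · exact (env h2F).goal_red ckO hsub r3 (by decide) (by decide) (ex := [152]) m121 ih
          · exact (env h2F).goal_red ckO hsub r3 (by decide) (by decide) (ex := [152]) m126 ih
          · exact (env h2F).goal_red ckO hsub r3 (by decide) (by decide) (ex := [152]) m135 ih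
          · exact (env h2F).goal_red ckO hsub r3 (by decide) (by decide) (ex := [152]) m141 ih)
      have N3 := (env h2F).node (P := [239, 226, 159]) n3 (G := (env h2F).Goal Ts)
        (fun _ _ h h' => h'.tr h) (n := n) (fun _ => (env h2F).goal_end q3 t3 (by decide)) (by
          intro θ hθ
          have hsub : ([79, 122, 12, 237] ++ [239, 226, 159, 121] ++ [239, 226, 159] : List ℕ) ⊆ Rs := by
            decide
          simp only [List.mem_cons, List.not_mem_nil, or_false] at hθ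
          rcases hθ with rfl | rfl
          · exact (env h2F).goal_red ckO hsub r3 (by decide) (by decide) (ex := []) m3 ih
          · exact N4)
      have N2 := (env h2F).node (P := [239, 226]) n2 (G := (env h2F).Goal Ts)
        (fun _ _ h h' => h'.tr h) (n := n) (fun _ => (env h2F).goal_end q2 t2 (by decide)) (by
          intro θ hθ
          simp only [List.mem_cons, List.not_mem_nil, or_false] at hθ
          subst hθ
          exact N3)
      have N1 := (env h2F).node (P := [239]) n1 (G := (env h2F).Goal Ts)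
        (fun _ _ h h' => h'.tr h) (n := n) (fun _ => (env h2F).goal_end q1 t1 (by decide)) (by
          intro θ hθ
          simp only [List.mem_cons, List.not_mem_nil, or_false] at hθ
          subst hθ
          exact N2)
      intro L hL ho hne
      have h0 : 0 < n := by rw [← hL]; exact List.length_pos_iff.2 hne
      have N0 := (env h2F).node (P := []) n0 (G := (env h2F).Goal Ts)
        (fun _ _ h h' => h'.tr h) (n := n) (fun h => absurd h (by simp only [List.length_nil]; omega)) (by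
          intro θ hθ
          simp only [List.mem_cons, List.not_mem_nil, or_false] at hθ
          subst hθ
          exact N1)
      exact N0 L (by simpa using hL) ho
  intro L
  exact key L.length L rfl

theorem hB : ∀ Y ∈ Ts, ckB Cfsg.Lie.chevE8 Y = true := by decide

theorem rk {F : Type*} [Field F] (h2F : (2 : F) = 0) : ∀ Y ∈ Ts, ∀ Y' ∈ Ts,
    rkP (2 ^ 248 - 1) (wm Cfsg.Lie.chevE8 F Y) = rkP (2 ^ 248 - 1) (wm Cfsg.Lie.chevE8 F Y') → Y = Y' := by
  intro Y hY Y' hY'
  unfold Ts at hY hY'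
  simp only [List.mem_cons, List.not_mem_nil, or_false] at hY hY'
  rcases hY with rfl | rfl | rfl | rfl <;> rcases hY' with rfl | rfl | rfl | rfl <;>
    simp only [rk1 h2F, rk2 h2F, rk3 h2F, rk4 h2F] <;> decide

theorem rkne {F : Type*} [Field F] (h2F : (2 : F) = 0) : ∀ Y ∈ Ts,
    rkP (2 ^ 248 - 1) (wm Cfsg.Lie.chevE8 F Y) ≠ rkP (2 ^ 248 - 1) (1 : Matrix Cfsg.Lie.chevE8.Idx Cfsg.Lie.chevE8.Idx F) := by
  intro Y hY
  unfold Ts at hY
  simp only [List.mem_cons, List.not_mem_nil, or_false] at hY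
  rw [rkP_one]
  rcases hY with rfl | rfl | rfl | rfl <;>
    simp only [rk1 h2F, rk2 h2F, rk3 h2F, rk4 h2F] <;> decide

theorem main {F : Type*} [Field F] [Fintype F] (h2F : (2 : F) = 0) :
    (∀ y : GL Cfsg.Lie.chevE8.Idx F, (y : Matrix Cfsg.Lie.chevE8.Idx Cfsg.Lie.chevE8.Idx F) ∈
      Ts.map (wm Cfsg.Lie.chevE8 F) → y ∈ Cfsg.Lie.chevE8.group F ∧ orderOf y = 2) ∧
    (∀ g ∈ Cfsg.Lie.chevE8.group F, orderOf g = 2 → ∃ y ∈ Cfsg.Lie.chevE8.group F,
      (y : Matrix Cfsg.Lie.chevE8.Idx Cfsg.Lie.chevE8.Idx F) ∈ Ts.map (wm Cfsg.Lie.chevE8 F) ∧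
      ∃ h ∈ Cfsg.Lie.chevE8.group F, h * g * h⁻¹ = y) ∧
    (∀ y₁ ∈ Cfsg.Lie.chevE8.group F, ∀ y₂ ∈ Cfsg.Lie.chevE8.group F,
      (y₁ : Matrix Cfsg.Lie.chevE8.Idx Cfsg.Lie.chevE8.Idx F) ∈ Ts.map (wm Cfsg.Lie.chevE8 F) →
      (y₂ : Matrix Cfsg.Lie.chevE8.Idx Cfsg.Lie.chevE8.Idx F) ∈ Ts.map (wm Cfsg.Lie.chevE8 F) →
      (∃ h ∈ Cfsg.Lie.chevE8.group F, h * y₁ * h⁻¹ = y₂) →
      (y₁ : Matrix Cfsg.Lie.chevE8.Idx Cfsg.Lie.chevE8.Idx F) = (y₂ : Matrix Cfsg.Lie.chevE8.Idx Cfsg.Lie.chevE8.Idx F)) :=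
  (env h2F).final (Ts := Ts) (cls h2F) (fun Y hY => (env h2F).orth_spec (o0 Y hY))
    (rkP (D := Cfsg.Lie.chevE8) (F := F) (2 ^ 248 - 1))
    (fun g _ M => rk_full_conj (D := Cfsg.Lie.chevE8) (N := 248) (by decide) g M)
    (rk h2F) (rkne h2F) hB (Ms := Ts.map (wm Cfsg.Lie.chevE8 F)) rfl

end H42.Inv2E8
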