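import Cfsg.Agent.Lib.H42.Inv2D
import Cfsg.Agent.Lib.H22.PoinE8

/-!
Characteristic two, type E8: the parity condition.
-/

set_option autoImplicit false
set_option maxRecDepth 100000

namespace H42.Inv2E8

open H22.RCPack H42.Inv2M H42.Inv2D H42.Inv2E H42.Inv2C

theorem hc0 : ckHC1 Cfsg.Lie.chevE8 0 = true := by decide +kernel

theorem hc1 : ckHC1 Cfsg.Lie.chevE8 1 = true := by decide +kernel

theorem hc2 : ckHC1 Cfsg.Lie.chevE8 2 = true := by decide +kernel

theorem hc3 : ckHC1 Cfsg.Lie.chevE8 3 = true := by decide +kernel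

theorem hc4 : ckHC1 Cfsg.Lie.chevE8 4 = true := by decide +kernel

theorem hc5 : ckHC1 Cfsg.Lie.chevE8 5 = true := by decide +kernel

theorem hc6 : ckHC1 Cfsg.Lie.chevE8 6 = true := by decide +kernel

theorem hc7 : ckHC1 Cfsg.Lie.chevE8 7 = true := by decide +kernel

theorem hc : HC Cfsg.Lie.chevE8 := by
  apply hc_of
  intro i hi
  have hi' : i < 8 := hi
  interval_cases i
  · exact hc0
  · exact hc1
  · exact hc2
  · exact hc3
  · exact hc4
  · exact hc5
  · exact hc6
  · exact hc7

end H42.Inv2E8
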