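import Cfsg.Agent.Lib.H42.Inv2F4a
import Cfsg.Agent.Lib.H22.ChevAll
import Cfsg.Agent.Lib.H23.ChevAll

/-!
Characteristic two, type F4: classification of involutions.
-/

set_option autoImplicit false
set_option maxRecDepth 100000

namespace H42.Inv2F4

open H22.RCPack H42.Inv2M H42.Inv2D H42.Inv2E H42.Inv2C H42.Inv2F H22.ChevRel H22.ChevUni H42.Inv2P

/-- lengths -/
def dd : ℕ → ℤ := fun i => bif Nat.ble 2 i then 2 else 1

/-- the form -/
def frm : Frm (H22.RCComb.coord H22.PoinF4.rcxF4) :=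
  frmOf H22.PoinF4.rcxF4 H22.RCSmall.matF4 dd rfl (by decide +kernel) (by decide +kernel)

/-- the environment -/
noncomputable def env {F : Type*} [Field F] (h2F : (2 : F) = 0) : Env Cfsg.Lie.chevF4 F where
  R := H22.ChevAll.rel _ (by simp) F
  X := H22.PoinF4.rcxF4
  Q := frm
  h2F := h2F
  hc := hc
  K := H23.ChevAll.core Cfsg.Lie.chevF4 (by simp)
  T := H22.RCSmall.tabF4
  A := H22.RCSmall.matF4
  d := dd
  hco := rfl
  hA := rfl
  hd := fun _ => rfl
  h0 := by decide

/-- the representatives -/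
def Ts : List (List ℕ) := [[47], [44], [47, 44], [39, 45]]

local notation "ckN" => Env.ckNode H22.RCSmall.tabF4 H22.RCSmall.matF4 dd Cfsg.Lie.chevF4

theorem n0 : ckN [] 15 [44, 47] = true := by decide +kernel
theorem n47 : ckN [47] 7 [37, 41] = true := by decide +kernel
theorem n44 : ckN [44] 14 [29, 32] = true := by decide +kernel
theorem nll : ckN [47, 41] 6 [28, 30] = true := by decide +kernel
theorem nls : ckN [47, 37] 5 [25, 33] = true := by decide +kernel

theorem rA : Env.ckRw H22.RCSmall.tabF4 H22.RCSmall.matF4 dd O Cfsg.Lie.chevF4 [18, 6]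
    [44, 29] [47, 41] = true := by decide +kernel
theorem rAs : ([18, 6] ++ [44, 29] ++ [47, 41] : List ℕ) ⊆ Rs := by decide

theorem rL : Env.ckRw H22.RCSmall.tabF4 H22.RCSmall.matF4 dd O Cfsg.Lie.chevF4 [7, 29, 30, 33, 17]
    [47, 41, 30] [47, 33] = true := by decide +kernel
theorem rLs : ([7, 29, 30, 33, 17] ++ [47, 41, 30] ++ [47, 33] : List ℕ) ⊆ Rs := by decide

theorem rM : Env.ckRw H22.RCSmall.tabF4 H22.RCSmall.matF4 dd O Cfsg.Lie.chevF4 [18, 23, 42]
    [47, 41, 28] [47, 28] = true := by decide +kernel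
theorem rMs : ([18, 23, 42] ++ [47, 41, 28] ++ [47, 28] : List ℕ) ⊆ Rs := by decide

theorem rB : eqW O (Cfsg.Lie.chevF4.rank + Cfsg.Lie.chevF4.nroots) ([18] ++ [47, 44]) ([47, 41] ++ [18]) = true := by decide +kernel

theorem mA : Env.ckMove Cfsg.Lie.chevF4 [] [44, 29]
    ([44, 29] ++ []) = true := by decide +kernel
theorem mL : Env.ckMove Cfsg.Lie.chevF4 [] [47, 41, 30]
    ([47, 41, 30] ++ []) = true := by decide +kernel
theorem mM : Env.ckMove Cfsg.Lie.chevF4 [] [47, 41, 28]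
    ([47, 41, 28] ++ []) = true := by decide +kernel
theorem mls1 : Env.ckMove Cfsg.Lie.chevF4 [0, 1] [47, 37, 25]
    ([47, 41, 28] ++ []) = true := by decide +kernel
theorem mls2 : Env.ckMove Cfsg.Lie.chevF4 [3, 2, 0, 1, 2, 3] [47, 37, 33]
    ([44, 29] ++ [30]) = true := by decide +kernel
theorem m44 : Env.ckMove Cfsg.Lie.chevF4 [3, 2, 1, 0] [44, 32]
    [47, 37] = true := by decide +kernel
theorem t1 : Env.ckMove Cfsg.Lie.chevF4 [] [47]
    [47] = true := by decide +kernel
theorem t2 : Env.ckMove Cfsg.Lie.chevF4 [] [44]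
    [44] = true := by decide +kernel
theorem t4 : Env.ckMove Cfsg.Lie.chevF4 [2, 3] [47, 37]
    [39, 45] = true := by decide +kernel
theorem q1 : Env.ckOrth H22.RCSmall.tabF4 H22.RCSmall.matF4 dd Cfsg.Lie.chevF4 [47] = true := by
  decide +kernel
theorem q2 : Env.ckOrth H22.RCSmall.tabF4 H22.RCSmall.matF4 dd Cfsg.Lie.chevF4 [44] = true := by
  decide +kernel
theorem q3 : Env.ckOrth H22.RCSmall.tabF4 H22.RCSmall.matF4 dd Cfsg.Lie.chevF4 [47, 41] = true := by
  decide +kernel
theorem q4 : Env.ckOrth H22.RCSmall.tabF4 H22.RCSmall.matF4 dd Cfsg.Lie.chevF4 [47, 37] = true := by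
  decide +kernel
theorem o4 : Env.ckOrth H22.RCSmall.tabF4 H22.RCSmall.matF4 dd Cfsg.Lie.chevF4 [39, 45] = true := by
  decide +kernel

theorem cj3 {F : Type*} [Field F] (h2F : (2 : F) = 0) :
    Cj (env h2F).R ((env h2F).fl [47, 41]) ((env h2F).fl [47, 44]) := by
  have h := cj_of (env h2F) (O := O) (g := [18]) (S := [47, 44]) (T' := [47, 41])
    (fun r hr => ckO r ((by decide : ([18] ++ [47, 44] ++ [47, 41] : List ℕ) ⊆ Rs) hr))
    (by decide) (by decide) (by decide) rB
  exact h.symm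

theorem cls {F : Type*} [Field F] (h2F : (2 : F) = 0) :
    ∀ L : List (Fin Cfsg.Lie.chevF4.nroots), Orth (env h2F).Q L → L ≠ [] → (env h2F).Goal Ts L := by
  have key : ∀ n, ∀ L : List (Fin Cfsg.Lie.chevF4.nroots), L.length = n → Orth (env h2F).Q L →
      L ≠ [] → (env h2F).Goal Ts L := by
    intro n
    induction n using Nat.strong_induction_on with
    | _ n ih =>
      have Nll := (env h2F).node (P := [47, 41]) nll (G := (env h2F).Goal Ts)
        (fun _ _ h h' => h'.tr h) (n := n) (fun _ => ⟨[47, 44], by decide, cj3 h2F⟩) (by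
          intro θ hθ
          simp only [List.mem_cons, List.not_mem_nil, or_false] at hθ
          rcases hθ with rfl | rfl
          · exact (env h2F).goal_red ckO rMs rM (by decide) (by decide) (ex := []) mM ih
          · exact (env h2F).goal_red ckO rLs rL (by decide) (by decide) (ex := []) mL ih)
      have Nls := (env h2F).node (P := [47, 37]) nls (G := (env h2F).Goal Ts)
        (fun _ _ h h' => h'.tr h) (n := n) (fun _ => (env h2F).goal_end q4 t4 (by decide)) (by
          intro θ hθ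
          simp only [List.mem_cons, List.not_mem_nil, or_false] at hθ
          rcases hθ with rfl | rfl
          · exact (env h2F).goal_red ckO rMs rM (by decide) (by decide) (ex := []) mls1 ih
          · exact goal_rw (env h2F) ckO rAs rA (by decide) (ex := [30]) mls2 Nll)
      have Ns := (env h2F).node (P := [44]) n44 (G := (env h2F).Goal Ts)
        (fun _ _ h h' => h'.tr h) (n := n) (fun _ => (env h2F).goal_end q2 t2 (by decide)) (by
          intro θ hθ
          simp only [List.mem_cons, List.not_mem_nil, or_false] at hθ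
          rcases hθ with rfl | rfl
          · exact goal_rw (env h2F) ckO rAs rA (by decide) (ex := []) mA Nll
          · exact (env h2F).goal_move m44 Nls)
      have Nl := (env h2F).node (P := [47]) n47 (G := (env h2F).Goal Ts)
        (fun _ _ h h' => h'.tr h) (n := n) (fun _ => (env h2F).goal_end q1 t1 (by decide)) (by
          intro θ hθ
          simp only [List.mem_cons, List.not_mem_nil, or_false] at hθ
          rcases hθ with rfl | rfl
          · exact Nls
          · exact Nll)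
      intro L hL ho hne
      have h0 : 0 < n := by rw [← hL]; exact List.length_pos_iff.2 hne
      have N0 := (env h2F).node (P := []) n0 (G := (env h2F).Goal Ts)
        (fun _ _ h h' => h'.tr h) (n := n) (fun h => absurd h (by simp only [List.length_nil]; omega)) (by
          intro θ hθ
          simp only [List.mem_cons, List.not_mem_nil, or_false] at hθ
          rcases hθ with rfl | rfl
          · exact Ns
          · exact Nl)
      exact N0 L (by simpa using hL) ho
  intro L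
  exact key L.length L rfl

theorem hB : ∀ Y ∈ Ts, ckB Cfsg.Lie.chevF4 Y = true := by decide

/-- the invariant -/
noncomputable def inv {F : Type*} [Field F] (M : Matrix Cfsg.Lie.chevF4.Idx Cfsg.Lie.chevF4.Idx F) : ℕ × ℕ :=
  (rkP P M, rkP (2 ^ 52 - 1) M)

theorem rk {F : Type*} [Field F] (h2F : (2 : F) = 0) : ∀ Y ∈ Ts, ∀ Y' ∈ Ts,
    inv (wm Cfsg.Lie.chevF4 F Y) = inv (wm Cfsg.Lie.chevF4 F Y') → Y = Y' := by
  intro Y hY Y' hY'
  unfold Ts at hY hY'
  unfold inv
  simp only [List.mem_cons, List.not_mem_nil, or_false] at hY hY'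
  rcases hY with rfl | rfl | rfl | rfl <;> rcases hY' with rfl | rfl | rfl | rfl <;>
    simp only [rk1 h2F, rk2 h2F, rk3 h2F, rk4 h2F, rk1p h2F, rk2p h2F, rk3p h2F, rk4p h2F] <;> decide

theorem rkne {F : Type*} [Field F] (h2F : (2 : F) = 0) : ∀ Y ∈ Ts,
    inv (wm Cfsg.Lie.chevF4 F Y) ≠ inv (1 : Matrix Cfsg.Lie.chevF4.Idx Cfsg.Lie.chevF4.Idx F) := by
  intro Y hY
  unfold Ts at hY
  unfold inv
  simp only [List.mem_cons, List.not_mem_nil, or_false] at hY
  rw [rkP_one, rkP_one]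
  rcases hY with rfl | rfl | rfl | rfl <;>
    simp only [rk1 h2F, rk2 h2F, rk3 h2F, rk4 h2F, rk1p h2F, rk2p h2F, rk3p h2F, rk4p h2F] <;> decide

theorem hsq {F : Type*} [Field F] (h2F : (2 : F) = 0) : ∀ Y ∈ Ts,
    aL (env h2F).R ((env h2F).fl Y) * aL (env h2F).R ((env h2F).fl Y) = 1 := by
  intro Y hY
  unfold Ts at hY
  simp only [List.mem_cons, List.not_mem_nil, or_false] at hY
  rcases hY with rfl | rfl | rfl | rfl
  · exact (env h2F).aL_sq ((env h2F).orth_spec q1)
  · exact (env h2F).aL_sq ((env h2F).orth_spec q2)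
  · obtain ⟨g, _, e⟩ := cj3 h2F
    rw [← e]
    calc g * aL (env h2F).R ((env h2F).fl [47, 41]) * g⁻¹ *
        (g * aL (env h2F).R ((env h2F).fl [47, 41]) * g⁻¹) =
        g * (aL (env h2F).R ((env h2F).fl [47, 41]) * aL (env h2F).R ((env h2F).fl [47, 41])) * g⁻¹ := by
          group
      _ = 1 := by rw [(env h2F).aL_sq ((env h2F).orth_spec q3)]; simp
  · exact (env h2F).aL_sq ((env h2F).orth_spec o4)

theorem main {F : Type*} [Field F] [Fintype F] (h2F : (2 : F) = 0) :
    (∀ y : GL Cfsg.Lie.chevF4.Idx F, (y : Matrix Cfsg.Lie.chevF4.Idx Cfsg.Lie.chevF4.Idx F) ∈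
      Ts.map (wm Cfsg.Lie.chevF4 F) → y ∈ Cfsg.Lie.chevF4.group F ∧ orderOf y = 2) ∧
    (∀ g ∈ Cfsg.Lie.chevF4.group F, orderOf g = 2 → ∃ y ∈ Cfsg.Lie.chevF4.group F,
      (y : Matrix Cfsg.Lie.chevF4.Idx Cfsg.Lie.chevF4.Idx F) ∈ Ts.map (wm Cfsg.Lie.chevF4 F) ∧
      ∃ h ∈ Cfsg.Lie.chevF4.group F, h * g * h⁻¹ = y) ∧
    (∀ y₁ ∈ Cfsg.Lie.chevF4.group F, ∀ y₂ ∈ Cfsg.Lie.chevF4.group F,
      (y₁ : Matrix Cfsg.Lie.chevF4.Idx Cfsg.Lie.chevF4.Idx F) ∈ Ts.map (wm Cfsg.Lie.chevF4 F) →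
      (y₂ : Matrix Cfsg.Lie.chevF4.Idx Cfsg.Lie.chevF4.Idx F) ∈ Ts.map (wm Cfsg.Lie.chevF4 F) →
      (∃ h ∈ Cfsg.Lie.chevF4.group F, h * y₁ * h⁻¹ = y₂) →
      (y₁ : Matrix Cfsg.Lie.chevF4.Idx Cfsg.Lie.chevF4.Idx F) = (y₂ : Matrix Cfsg.Lie.chevF4.Idx Cfsg.Lie.chevF4.Idx F)) :=
  final' (env h2F) (Ts := Ts) (cls h2F) (hsq h2F) inv
    (fun g hg M => Prod.ext (rk_conj (env h2F).R h2F ckP hg M)
      (rk_full_conj (D := Cfsg.Lie.chevF4) (N := 52) (by decide) g M))
    (rk h2F) (rkne h2F) hB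

end H42.Inv2F4
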