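import Cfsg.Agent.Lib.H42.Inv2P
import Cfsg.Agent.Lib.H22.PoinF4

/-!
Characteristic two, type F4: sparse forms of root elements and the parity condition.
-/

set_option autoImplicit false
set_option maxRecDepth 100000

namespace H42.Inv2F4

open H22.RCPack H42.Inv2M H42.Inv2D H42.Inv2E H42.Inv2C

/-- sparse forms of the root elements -/
def O (r : ℕ) : List (ℕ × ℕ) :=
  bif Nat.beq r 6 then [(3, 0x400), (19, 0x20), (20, 0x40), (22, 0x80), (25, 0x100), (27, 0x200), (37, 0x4000), (38, 0x10000), (39, 0x20000), (41, 0x40000), (45, 0x407), (46, 0x10000000), (47, 0x40000000), (48, 0x200000000), (49, 0x800000000), (50, 0x1000000000)] else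
  bif Nat.beq r 7 then [(0, 0x800), (1, 0x800), (18, 0x80), (31, 0x1000), (32, 0x2000), (33, 0x4000), (34, 0x8010), (35, 0x10020), (36, 0x20040), (41, 0x400000), (42, 0x800000), (43, 0x1000000), (44, 0x803), (48, 0x2000000000), (49, 0x4000080000), (50, 0x8000100000), (51, 0x10000200000)] else
  bif Nat.beq r 17 then [(3, 0x200000), (8, 0x20), (9, 0x40), (15, 0x800), (18, 0x4000), (25, 0x80000), (27, 0x100000), (31, 0x800000), (32, 0x1000000), (34, 0x200006), (35, 0x10000000), (36, 0x40000000), (41, 0x2000000000), (44, 0x10000000000), (49, 0x400000000000), (50, 0x800000000000)] else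
  bif Nat.beq r 18 then [(0, 0x400000), (3, 0x400000), (10, 0x90), (14, 0x800), (16, 0x1000), (17, 0x2000), (18, 0x8000), (28, 0x880000), (30, 0x1100000), (33, 0x400002), (35, 0x82000000), (36, 0x108000000), (40, 0x2000000000), (42, 0x4000000000), (43, 0x8000000000), (44, 0x20000000000), (51, 0x1200000000000)] else
  bif Nat.beq r 23 then [(2, 0x8000000), (5, 0x10), (10, 0x200), (14, 0x2000), (16, 0x8000), (21, 0x100000), (23, 0x400000), (26, 0x2000000), (28, 0x8000008), (30, 0x20000000), (33, 0x100000000), (35, 0x400000000), (40, 0x8000000000), (42, 0x20000000000), (46, 0x200000000000), (51, 0x4000000000000)] else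
  bif Nat.beq r 28 then [(0, 0x100000000), (2, 0x100000000), (3, 0x100000000), (5, 0x280), (11, 0x2000), (12, 0x8000), (14, 0x20000), (16, 0x40000), (19, 0x8400000), (21, 0x21000000), (23, 0x100000002), (26, 0x480000000), (28, 0x1200000000), (37, 0x8000000000), (38, 0x20000000000), (40, 0x80000000000), (42, 0x100000000000), (46, 0x5000000000000)] else
  bif Nat.beq r 29 then [(0, 0x200000000), (3, 0x200000000), (4, 0x480), (11, 0x4000), (12, 0x10000), (13, 0x20000), (15, 0x40000), (19, 0x10800000), (20, 0x41000000), (22, 0x200000002), (25, 0x880000000), (27, 0x1100000000), (37, 0x10000000000), (38, 0x40000000000), (39, 0x80000000000), (41, 0x100000000000), (45, 0x9000000000000)] else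
  bif Nat.beq r 30 then [(3, 0x400000000), (5, 0x100), (6, 0x200), (11, 0x8000), (14, 0x40000), (19, 0x2000000), (20, 0x8000000), (21, 0x400000006), (23, 0x80000000), (24, 0x100000000), (28, 0x800000000), (30, 0x1000000000), (37, 0x20000000000), (40, 0x100000000000), (46, 0x2000000000000), (47, 0x4000000000000)] else
  bif Nat.beq r 33 then [(1, 0x2000000000), (7, 0x800), (8, 0x81000), (9, 0x102000), (10, 0x204000), (15, 0x400000), (16, 0x800000), (17, 0x1000000), (18, 0x2000000001), (31, 0x4000000000), (32, 0x8000000000), (33, 0x10000000000), (34, 0x220000000000), (35, 0x440000000000), (36, 0x880000000000), (44, 0x1000000000000)] else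
  bif Nat.beq r 39 then [(1, 0x80000000000), (2, 0x80000000000), (4, 0x20002000), (5, 0x40004000), (7, 0x20000), (8, 0x1000040000), (11, 0x1000000), (12, 0x80000000001), (15, 0x100000000), (16, 0x200000000), (19, 0x802000000000), (22, 0x8000000000), (23, 0x10000000000), (25, 0x4020000000000), (26, 0x8040000000000), (31, 0x100000000000), (38, 0x1000000000000)] else
  bif Nat.beq r 41 then [(3, 0x200000000000), (5, 0x80000), (6, 0x100000), (7, 0x400000), (8, 0x2000000), (9, 0x8000000), (10, 0x200000000007), (14, 0x2000000000), (16, 0x4000000000), (17, 0x8000000000), (18, 0x20000000000), (28, 0x400000000000), (30, 0x800000000000), (33, 0x1000000000000), (35, 0x2000000000000), (36, 0x4000000000000)] else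
  bif Nat.beq r 42 then [(2, 0x400000000000), (3, 0x400000000000), (4, 0x80000), (6, 0x200000), (7, 0x800000), (8, 0x4000000), (9, 0x40000000000f), (10, 0x10000000), (13, 0x2000000000), (15, 0x4000000000), (17, 0x10000000000), (18, 0x40000000000), (27, 0x200000000000), (29, 0x800000000000), (32, 0x1000000000000), (34, 0x2000000000000), (36, 0x8000000000000)] else
  bif Nat.beq r 44 then [(0, 0x1000000000000), (4, 0x200000400000), (5, 0x400000800000), (6, 0x800001000000), (7, 0x1000000000002), (8, 0x2000080000000), (9, 0x4000100000000), (10, 0x8000200000000), (11, 0x2000000000), (12, 0x4000000000), (13, 0x8000000000), (14, 0x10000000000), (15, 0x20000000000), (16, 0x40000000000), (17, 0x80000000000), (18, 0x100000000000)] else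
  bif Nat.beq r 45 then [(2, 0x2000000000000), (4, 0x2000000), (5, 0x4000000), (6, 0x2000000000009), (7, 0x80000000), (9, 0x400000000), (10, 0x800000000), (11, 0x4000000000), (13, 0x20000000000), (14, 0x40000000000), (17, 0x100000000000), (20, 0x200000000000), (21, 0x400000000000), (24, 0x1000000000000), (29, 0x4000000000000), (30, 0x8000000000000)] else
  bif Nat.beq r 47 then [(3, 0x8000000000000), (4, 0x8000000000005), (5, 0x10000000), (6, 0x40000000), (7, 0x200000000), (8, 0x800000000), (9, 0x1000000000), (11, 0x10000000000), (12, 0x40000000000), (13, 0x80000000000), (15, 0x100000000000), (19, 0x400000000000), (20, 0x800000000000), (22, 0x1000000000000), (25, 0x2000000000000), (27, 0x4000000000000)] else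
  []

theorem ckO6 : ckOps Cfsg.Lie.chevF4 6 (O 6) = true := by decide +kernel

theorem ckO7 : ckOps Cfsg.Lie.chevF4 7 (O 7) = true := by decide +kernel

theorem ckO17 : ckOps Cfsg.Lie.chevF4 17 (O 17) = true := by decide +kernel

theorem ckO18 : ckOps Cfsg.Lie.chevF4 18 (O 18) = true := by decide +kernel

theorem ckO23 : ckOps Cfsg.Lie.chevF4 23 (O 23) = true := by decide +kernel

theorem ckO28 : ckOps Cfsg.Lie.chevF4 28 (O 28) = true := by decide +kernel

theorem ckO29 : ckOps Cfsg.Lie.chevF4 29 (O 29) = true := by decide +kernel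

theorem ckO30 : ckOps Cfsg.Lie.chevF4 30 (O 30) = true := by decide +kernel

theorem ckO33 : ckOps Cfsg.Lie.chevF4 33 (O 33) = true := by decide +kernel

theorem ckO39 : ckOps Cfsg.Lie.chevF4 39 (O 39) = true := by decide +kernel

theorem ckO41 : ckOps Cfsg.Lie.chevF4 41 (O 41) = true := by decide +kernel

theorem ckO42 : ckOps Cfsg.Lie.chevF4 42 (O 42) = true := by decide +kernel

theorem ckO44 : ckOps Cfsg.Lie.chevF4 44 (O 44) = true := by decide +kernel

theorem ckO45 : ckOps Cfsg.Lie.chevF4 45 (O 45) = true := by decide +kernel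

theorem ckO47 : ckOps Cfsg.Lie.chevF4 47 (O 47) = true := by decide +kernel

/-- the roots of the table -/
def Rs : List ℕ := [6, 7, 17, 18, 23, 28, 29, 30, 33, 39, 41, 42, 44, 45, 47]

theorem ckO : ∀ r ∈ Rs, ckOps Cfsg.Lie.chevF4 r (O r) = true := by
  intro r hr
  unfold Rs at hr
  simp only [List.mem_cons, List.not_mem_nil, or_false] at hr
  rcases hr with rfl | rfl | rfl | rfl | rfl | rfl | rfl | rfl | rfl | rfl | rfl | rfl | rfl | rfl | rfl
  · exact ckO6
  · exact ckO7
  · exact ckO17
  · exact ckO18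
  · exact ckO23
  · exact ckO28
  · exact ckO29
  · exact ckO30
  · exact ckO33
  · exact ckO39
  · exact ckO41
  · exact ckO42
  · exact ckO44
  · exact ckO45
  · exact ckO47

theorem hc0 : ckHC1 Cfsg.Lie.chevF4 0 = true := by decide +kernel

theorem hc1 : ckHC1 Cfsg.Lie.chevF4 1 = true := by decide +kernel

theorem hc2 : ckHC1 Cfsg.Lie.chevF4 2 = true := by decide +kernel

theorem hc3 : ckHC1 Cfsg.Lie.chevF4 3 = true := by decide +kernel

theorem hc : HC Cfsg.Lie.chevF4 := by
  apply hc_of
  intro i hi
  have hi' : i < 4 := hi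
  interval_cases i
  · exact hc0
  · exact hc1
  · exact hc2
  · exact hc3

/-- the short part -/
def P : ℕ := 0x11fe381c7f883

theorem ckP : H42.Inv2P.ckInv Cfsg.Lie.chevF4 P = true := by decide +kernel

def cert1 : List (ℕ × ℕ) := [(51, 0x8), (2, 0x18), (28, 0x20), (30, 0x40), (33, 0x80), (35, 0x100), (36, 0x200), (40, 0x800), (42, 0x1000), (43, 0x2000), (44, 0x8000), (46, 0x80000), (47, 0x100000), (48, 0x400000), (49, 0x2000000), (50, 0x8000000)]

def A1 : List (ℕ × ℕ) := [(51, 0x8000000000000), (2, 0x5), (28, 0x10000000), (30, 0x40000000), (33, 0x200000000), (35, 0x800000000), (36, 0x1000000000), (40, 0x10000000000), (42, 0x40000000000), (43, 0x80000000000), (44, 0x100000000000), (46, 0x400000000000), (47, 0x800000000000), (48, 0x1000000000000), (49, 0x2000000000000), (50, 0x4000000000000)]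

theorem rk1 {F : Type*} [Field F] (h2F : (2 : F) = 0) :
    rkP (2 ^ 52 - 1) (wm Cfsg.Lie.chevF4 F [47]) = 16 :=
  rank_spec' h2F (O := O) (fun r hr => ckO r ((by decide +kernel : ∀ r ∈ ([47] : List ℕ), r ∈ Rs) r hr))
    (cert := cert1) (A := A1) (by decide +kernel) (by decide +kernel)

def cert1p : List (ℕ × ℕ) := [(33, 0x80), (40, 0x800), (42, 0x1000), (43, 0x2000), (44, 0x8000), (48, 0x400000)]

def A1p : List (ℕ × ℕ) := [(33, 0x200000000), (40, 0x10000000000), (42, 0x40000000000), (43, 0x80000000000), (44, 0x100000000000), (48, 0x1000000000000)]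

theorem rk1p {F : Type*} [Field F] (h2F : (2 : F) = 0) :
    rkP P (wm Cfsg.Lie.chevF4 F [47]) = 6 :=
  rank_spec' h2F (O := O) (fun r hr => ckO r ((by decide +kernel : ∀ r ∈ ([47] : List ℕ), r ∈ Rs) r hr))
    (cert := cert1p) (A := A1p) (by decide +kernel) (by decide +kernel)

def cert2 : List (ℕ × ℕ) := [(48, 0x1), (45, 0x10), (46, 0x20), (47, 0x40), (1, 0x81), (49, 0x100), (50, 0x200), (51, 0x400), (37, 0x800), (38, 0x1000), (39, 0x2000), (40, 0x4000), (41, 0x8000), (42, 0x10000), (43, 0x20000), (44, 0x40000)]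

def A2 : List (ℕ × ℕ) := [(48, 0x1000000000000), (45, 0x200000400000), (46, 0x400000800000), (47, 0x800001000000), (1, 0x2), (49, 0x2000080000000), (50, 0x4000100000000), (51, 0x8000200000000), (37, 0x2000000000), (38, 0x4000000000), (39, 0x8000000000), (40, 0x10000000000), (41, 0x20000000000), (42, 0x40000000000), (43, 0x80000000000), (44, 0x100000000000)]

theorem rk2 {F : Type*} [Field F] (h2F : (2 : F) = 0) :
    rkP (2 ^ 52 - 1) (wm Cfsg.Lie.chevF4 F [44]) = 16 :=
  rank_spec' h2F (O := O) (fun r hr => ckO r ((by decide +kernel : ∀ r ∈ ([44] : List ℕ), r ∈ Rs) r hr))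
    (cert := cert2) (A := A2) (by decide +kernel) (by decide +kernel)

def cert2p : List (ℕ × ℕ) := [(48, 0x1), (1, 0x81), (37, 0x800), (38, 0x1000), (39, 0x2000), (40, 0x4000), (41, 0x8000), (42, 0x10000), (43, 0x20000), (44, 0x40000)]

def A2p : List (ℕ × ℕ) := [(48, 0x1000000000000), (1, 0x2), (37, 0x2000000000), (38, 0x4000000000), (39, 0x8000000000), (40, 0x10000000000), (41, 0x20000000000), (42, 0x40000000000), (43, 0x80000000000), (44, 0x100000000000)]

theorem rk2p {F : Type*} [Field F] (h2F : (2 : F) = 0) :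
    rkP P (wm Cfsg.Lie.chevF4 F [44]) = 10 :=
  rank_spec' h2F (O := O) (fun r hr => ckO r ((by decide +kernel : ∀ r ∈ ([44] : List ℕ), r ∈ Rs) r hr))
    (cert := cert2p) (A := A2p) (by decide +kernel) (by decide +kernel)

def cert3 : List (ℕ × ℕ) := [(48, 0x1), (51, 0x8), (45, 0x19), (46, 0x80000), (47, 0x100000), (33, 0x408), (49, 0x2000000), (50, 0x8000000), (1, 0x489), (40, 0x4000), (42, 0x10000), (43, 0x20000), (37, 0x4800), (44, 0x40000), (38, 0x11000), (39, 0x22000), (41, 0x48000), (28, 0x80020), (30, 0x100040), (35, 0x2000100), (36, 0x8000200)]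

def A3 : List (ℕ × ℕ) := [(48, 0x1000000000000), (51, 0x8000000000000), (45, 0x200000400005), (46, 0x400000000000), (47, 0x800000000000), (33, 0x200000000), (49, 0x2000000000000), (50, 0x4000000000000), (1, 0x2), (40, 0x10000000000), (42, 0x40000000000), (43, 0x80000000000), (37, 0x2000000000), (44, 0x100000000000), (38, 0x4000000000), (39, 0x8000000000), (41, 0x20000000000), (28, 0x10800000), (30, 0x41000000), (35, 0x880000000), (36, 0x1100000000)]

theorem rk3 {F : Type*} [Field F] (h2F : (2 : F) = 0) :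
    rkP (2 ^ 52 - 1) (wm Cfsg.Lie.chevF4 F [47, 44]) = 21 :=
  rank_spec' h2F (O := O) (fun r hr => ckO r ((by decide +kernel : ∀ r ∈ ([47, 44] : List ℕ), r ∈ Rs) r hr))
    (cert := cert3) (A := A3) (by decide +kernel) (by decide +kernel)

def cert3p : List (ℕ × ℕ) := [(48, 0x1), (33, 0x81), (40, 0x4000), (42, 0x10000), (43, 0x20000), (37, 0x4800), (44, 0x40000), (38, 0x11000), (39, 0x22000), (41, 0x48000)]

def A3p : List (ℕ × ℕ) := [(48, 0x1000000000000), (33, 0x200000002), (40, 0x10000000000), (42, 0x40000000000), (43, 0x80000000000), (37, 0x2000000000), (44, 0x100000000000), (38, 0x4000000000), (39, 0x8000000000), (41, 0x20000000000)]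

theorem rk3p {F : Type*} [Field F] (h2F : (2 : F) = 0) :
    rkP P (wm Cfsg.Lie.chevF4 F [47, 44]) = 10 :=
  rank_spec' h2F (O := O) (fun r hr => ckO r ((by decide +kernel : ∀ r ∈ ([47, 44] : List ℕ), r ∈ Rs) r hr))
    (cert := cert3p) (A := A3p) (by decide +kernel) (by decide +kernel)

def cert4 : List (ℕ × ℕ) := [(43, 0x2), (49, 0x6), (50, 0x2002000), (51, 0x4004000), (3, 0x1044), (44, 0x20000), (36, 0x100), (34, 0x200), (35, 0x400), (48, 0x1000000), (0, 0x1002), (41, 0x2000), (42, 0x4000), (32, 0x8000), (33, 0x10000), (31, 0x20080), (47, 0x80000), (45, 0x100000), (46, 0x200000), (39, 0x400000), (40, 0x800000), (38, 0x1000800), (29, 0x2000010), (30, 0x4000020)]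

def A4 : List (ℕ × ℕ) := [(43, 0x80000000000), (49, 0x2000000000000), (50, 0x4000000000000), (51, 0x8000000000000), (3, 0x8), (44, 0x100000000000), (36, 0x1000040000), (34, 0x400000000), (35, 0x800000000), (48, 0x1000000000000), (0, 0x1), (41, 0x20000000000), (42, 0x40000000000), (32, 0x100000000), (33, 0x200000000), (31, 0x80020000), (47, 0x802000000000), (45, 0x200000000000), (46, 0x400000000000), (39, 0x8000000000), (40, 0x10000000000), (38, 0x4001000000), (29, 0x22002000), (30, 0x44004000)]

theorem rk4 {F : Type*} [Field F] (h2F : (2 : F) = 0) :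
    rkP (2 ^ 52 - 1) (wm Cfsg.Lie.chevF4 F [39, 45]) = 24 :=
  rank_spec' h2F (O := O) (fun r hr => ckO r ((by decide +kernel : ∀ r ∈ ([39, 45] : List ℕ), r ∈ Rs) r hr))
    (cert := cert4) (A := A4) (by decide +kernel) (by decide +kernel)

def cert4p : List (ℕ × ℕ) := [(43, 0x2), (44, 0x20000), (48, 0x1000000), (0, 0x1002), (41, 0x2000), (42, 0x4000), (32, 0x8000), (33, 0x10000), (31, 0x20080), (39, 0x400000), (40, 0x800000), (38, 0x1000800)]

def A4p : List (ℕ × ℕ) := [(43, 0x80000000000), (44, 0x100000000000), (48, 0x1000000000000), (0, 0x1), (41, 0x20000000000), (42, 0x40000000000), (32, 0x100000000), (33, 0x200000000), (31, 0x80020000), (39, 0x8000000000), (40, 0x10000000000), (38, 0x4001000000)]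

theorem rk4p {F : Type*} [Field F] (h2F : (2 : F) = 0) :
    rkP P (wm Cfsg.Lie.chevF4 F [39, 45]) = 12 :=
  rank_spec' h2F (O := O) (fun r hr => ckO r ((by decide +kernel : ∀ r ∈ ([39, 45] : List ℕ), r ∈ Rs) r hr))
    (cert := cert4p) (A := A4p) (by decide +kernel) (by decide +kernel)

end H42.Inv2F4
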