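import Cfsg.Agent.Lib.H22.RGDCard
import Cfsg.Agent.Lib.H22.Coord
import Cfsg.Agent.Lib.H22.RGDBN

/-!
Involutions in groups with a root group system (no hypothesis on the characteristic) are conjugate
into the monomial group: choose a conjugate in a double coset `B w B` with `w` of maximal length.
-/

set_option autoImplicit false

namespace H42.Inv2N

open H22.RGD H22.Coord

section comb

variable {Φ I : Type*} {C : RootComb Φ I} [Fintype I] [DecidableEq I] (K : CoordSys C)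

include K in
theorem neg_of_span {w x : Equiv.Perm Φ} (hw : w ∈ C.W) (hx : x ∈ C.W) (h2 : w * w = 1)
    (hmax : ∀ i, C.pos (w (C.simple i)) → w (C.simple i) = C.simple i)
    (hneg : ∀ i, w (C.simple i) = C.simple i → ¬ C.pos (x (C.simple i))) {r : Φ} (hr : C.pos r)
    (hwr : C.pos (w r)) : ¬ C.pos (x r) := by
  have key : ∀ i, w (C.simple i) ≠ C.simple i → K.co r i = 0 := by
    intro i hi
    by_contra hne
    have hpos : 0 < K.co r i := lt_of_le_of_ne (K.pos_nonneg r hr i) (Ne.symm hne)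
    have hwi : ¬ C.pos (w (C.simple i)) := fun h => hi (hmax i h)
    obtain ⟨l, hl, hl0⟩ : ∃ l, w (C.simple l) ≠ C.simple l ∧ K.co (w (C.simple i)) l < 0 := by
      by_contra hcon
      push Not at hcon
      have h3 := K.co_of_mem hw (w (C.simple i)) i
      have h4 : w (w (C.simple i)) = C.simple i := by
        rw [← Equiv.Perm.mul_apply, h2]; rfl
      rw [h4, K.co_simple, if_pos rfl] at h3
      have h5 : ∑ m, K.co (w (C.simple i)) m * K.co (w (C.simple m)) i = 0 := by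
        apply Finset.sum_eq_zero
        intro m _
        by_cases hm : w (C.simple m) = C.simple m
        · rw [hm, K.co_simple, if_neg, mul_zero]
          rintro rfl; exact hi hm
        · have h6 := hcon m hm
          have h7 := K.neg_nonpos hwi m
          rw [le_antisymm h7 h6, zero_mul]
      omega
    have h6 := K.pos_nonneg _ hwr l
    rw [K.co_of_mem hw] at h6
    have h7 : ∑ m, K.co r m * K.co (w (C.simple m)) l < ∑ _m : I, (0 : ℤ) := by
      apply Finset.sum_lt_sum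
      · intro m _
        by_cases hm : w (C.simple m) = C.simple m
        · rw [hm, K.co_simple, if_neg, mul_zero]
          rintro rfl; exact hl hm
        · exact mul_nonpos_of_nonneg_of_nonpos (K.pos_nonneg r hr m)
            (K.neg_nonpos (fun h => hm (hmax m h)) l)
      · exact ⟨i, Finset.mem_univ i, mul_neg_of_pos_of_neg hpos hl0⟩
    rw [Finset.sum_const_zero] at h7
    omega
  intro hxr
  obtain ⟨l, hl⟩ := K.exists_co_pos hxr
  rw [K.co_of_mem hx] at hl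
  have : ∑ m, K.co r m * K.co (x (C.simple m)) l ≤ 0 := by
    apply Finset.sum_nonpos
    intro m _
    by_cases hm : w (C.simple m) = C.simple m
    · exact mul_nonpos_of_nonneg_of_nonpos (K.pos_nonneg r hr m) (K.neg_nonpos (hneg m hm) l)
    · rw [key m hm, zero_mul]
  omega

end comb

section sys

variable {G Φ I : Type*} [Group G] {C : RootComb Φ I} (S : Sys G C)

/-- normal form of an involution -/
theorem form [Finite Φ] {m v : G} {w : Equiv.Perm Φ} (hw : S.Rep m w) (hv : v ∈ S.U)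
    (h2 : m * v * (m * v) = 1) : w * w = 1 ∧ m⁻¹ * v * m ∈ S.U := by
  have hvB : v ∈ S.B := S.U_le_B hv
  have hminv : m⁻¹ = v * m * v := by
    rw [inv_eq_iff_mul_eq_one]; simpa [mul_assoc] using h2
  have hww : w⁻¹ = w := (S.double_coset_unique hw hw.inv hvB hvB hminv.symm).symm
  have hw2 : w * w = 1 := by
    calc w * w = w⁻¹ * w := by rw [hww]
      _ = 1 := inv_mul_cancel w
  refine ⟨hw2, ?_⟩
  have hmm : m * m ∈ S.H := by
    apply S.mem_H_of_rep_one
    have := hw.mul hw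
    rwa [hw2] at this
  have h3 : m⁻¹ * v * m ∈ S.B := by
    have e : m⁻¹ * v * m = (m * m)⁻¹ * v⁻¹ := by
      have h4 : m * v * m = v⁻¹ := by
        rw [eq_inv_iff_mul_eq_one]; simpa [mul_assoc] using h2
      rw [← h4]; group
    rw [e]
    exact S.B.mul_mem (S.B.inv_mem (S.H_le_B hmm)) (S.B.inv_mem hvB)
  obtain ⟨a, _, ha', c, hc, e⟩ := S.U_decomp hw.inv hv
  have h4 : m⁻¹ * c * m⁻¹⁻¹ ∈ S.V := S.cj_Um_le_V hw.inv (conj_mem_cj hc)
  rw [inv_inv] at h4 ha'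
  have h5 : m⁻¹ * c * m = 1 := by
    apply S.eq_one_of_mem_B_V _ h4
    have : m⁻¹ * c * m = (m⁻¹ * a * m)⁻¹ * (m⁻¹ * v * m) := by rw [e]; simp [mul_assoc]
    rw [this]
    exact S.B.mul_mem (S.B.inv_mem (S.U_le_B ha')) h3
  have h6 : c = 1 := by
    have : c = m * (m⁻¹ * c * m) * m⁻¹ := by simp [mul_assoc]
    rw [this, h5]; simp
  rw [e, h6, mul_one]; exact ha'

/-- `t` has a conjugate in `m U` with `m` representing `w` -/
def Has (t : G) (m v : G) (w : Equiv.Perm Φ) : Prop :=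
  S.Rep m w ∧ v ∈ S.U ∧ ∃ g ∈ S.Γ, g * t * g⁻¹ = m * v

theorem has_conj {t m v : G} {w : Equiv.Perm Φ} (h : Has S t m v w) {g : G} (hg : g ∈ S.Γ)
    {m' v' : G} {w' : Equiv.Perm Φ} (hm' : S.Rep m' w') (hv' : v' ∈ S.U)
    (e : g * (m * v) * g⁻¹ = m' * v') : Has S t m' v' w' := by
  obtain ⟨_, _, g', hg', e'⟩ := h
  refine ⟨hm', hv', g * g', S.Γ.mul_mem hg hg', ?_⟩
  rw [← e, ← e']; group

theorem U_le_Γ : S.U ≤ S.Γ := S.U_le_B.trans S.B_le_Γ

theorem exists_has {t : G} (ht : t ∈ S.Γ) : ∃ m v w, Has S t m v w := by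
  obtain ⟨b₁, hb₁, m, hm, b₂, hb₂, rfl⟩ := S.bruhat ht
  obtain ⟨w, hw⟩ := S.exists_rep hm
  obtain ⟨h, hh, u, hu, e⟩ := S.mem_B'.1 (S.B.mul_mem hb₂ hb₁)
  refine ⟨m * h, u, w, ?_, hu, b₁⁻¹, S.Γ.inv_mem (S.B_le_Γ hb₁), ?_⟩
  · have := hw.mul (S.rep_H hh)
    rwa [mul_one] at this
  · have : b₁⁻¹ * (b₁ * m * b₂) * b₁⁻¹⁻¹ = m * (b₂ * b₁) := by group
    rw [this, e]; group

variable [Finite Φ]

/-- a simple reflection moving a positive `w α` gives a longer conjugate -/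
theorem longer₁ {t m v : G} {w : Equiv.Perm Φ} (h : Has S t m v w) (hinv : w⁻¹ = w) {i : I}
    (hp : C.pos (w (C.simple i))) (hne : w (C.simple i) ≠ C.simple i) :
    ∃ m' v' w', Has S t m' v' w' ∧ C.len w' = C.len w + 2 := by
  obtain ⟨hm, hv, _⟩ := id h
  obtain ⟨a, ha, x, hx, e⟩ := (S.mem_U_iff i).1 (S.U.inv_mem hv)
  have ev : v = x⁻¹ * a⁻¹ := by rw [← mul_inv_rev, ← e, inv_inv]
  set n := S.n i with hn
  have hnΓ : n ∈ S.Γ := S.N_le_Γ (S.n_mem_N i)
  have h1 : n * (m * x⁻¹ * m⁻¹) * n⁻¹ ∈ S.U := by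
    have h3 : m * x⁻¹ * m⁻¹ ∈ S.X (w (C.simple i)) := by
      rw [← hm.2.2]; exact conj_mem_cj ((S.X _).inv_mem hx)
    have h4 : n * (m * x⁻¹ * m⁻¹) * n⁻¹ ∈ S.X (C.refl i (w (C.simple i))) := by
      rw [← S.cj_n]; exact conj_mem_cj h3
    exact S.X_le_U (C.refl_pos i _ hp hne) h4
  have h2 : n * a⁻¹ * n⁻¹ ∈ S.U := by
    apply S.Ui_le_U i
    rw [← S.n_stab_Ui i]
    exact conj_mem_cj ((S.Ui i).inv_mem ha)
  have hrep : S.Rep (n * m * n⁻¹) (C.refl i * w * (C.refl i)⁻¹) :=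
    ((S.rep_n i).mul hm).mul (S.rep_n i).inv
  refine ⟨n * m * n⁻¹, (n * a⁻¹ * n⁻¹) * (n * (m * x⁻¹ * m⁻¹) * n⁻¹), _,
    has_conj S h (g := (n * (m * x⁻¹ * m⁻¹) * n⁻¹)⁻¹ * n)
      (S.Γ.mul_mem (S.Γ.inv_mem (U_le_Γ S h1)) hnΓ) hrep (S.U.mul_mem h2 h1) ?_, ?_⟩
  · rw [ev]; group
  · rw [RootComb.refl_inv]
    have e1 := C.len_mul_refl_of_pos w i (C.W_neg hm.2.1) hp
    have hW : w * C.refl i ∈ C.W := C.W.mul_mem hm.2.1 (Subgroup.subset_closure ⟨i, rfl⟩)
    have e2 := C.len_refl_mul_of_pos hW i (by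
      rw [mul_inv_rev, RootComb.refl_inv, hinv, Equiv.Perm.mul_apply]
      exact C.refl_pos i _ hp hne)
    rw [mul_assoc, e2, e1]

/-- the case of a fixed simple root -/
theorem longer₂ {t m v : G} {w : Equiv.Perm Φ} (h : Has S t m v w)
    {i : I} (hfix : w (C.simple i) = C.simple i) (hcomm : w * C.refl i = C.refl i * w) :
    (∃ m' v' w', Has S t m' v' w' ∧ C.len w' = C.len w + 1) ∨
      Has S t (S.n i * m * (S.n i)⁻¹) (S.n i * v * (S.n i)⁻¹) w := by
  obtain ⟨hm, hv, _⟩ := id h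
  obtain ⟨a, ha, x, hx, e⟩ := (S.mem_U_iff i).1 (S.U.inv_mem hv)
  have ev : v = x⁻¹ * a⁻¹ := by rw [← mul_inv_rev, ← e, inv_inv]
  set n := S.n i with hn
  have hnΓ : n ∈ S.Γ := S.N_le_Γ (S.n_mem_N i)
  have h2 : n * a⁻¹ * n⁻¹ ∈ S.U := by
    apply S.Ui_le_U i
    rw [← S.n_stab_Ui i]
    exact conj_mem_cj ((S.Ui i).inv_mem ha)
  have hrep : S.Rep (n * m * n⁻¹) w := by
    have := ((S.rep_n i).mul hm).mul (S.rep_n i).inv
    rwa [← hcomm, mul_inv_cancel_right] at this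
  by_cases hx1 : x = 1
  · right
    refine has_conj S h hnΓ hrep ?_ (by group)
    rw [ev, hx1, inv_one, one_mul]; exact h2
  · left
    have hy : n * x⁻¹ * n⁻¹ ∈ S.X (C.neg (C.simple i)) := by
      rw [← S.cj_n_simple]; exact conj_mem_cj ((S.X _).inv_mem hx)
    have hy1 : n * x⁻¹ * n⁻¹ ≠ 1 := by
      intro h3
      apply hx1
      have : x⁻¹ = n⁻¹ * (n * x⁻¹ * n⁻¹) * n := by group
      rw [h3, mul_one, inv_mul_cancel, inv_eq_one] at this
      exact this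
    obtain ⟨y, hyX, k, hk, z, hz, e3⟩ := S.rank_one i _ hy hy1
    have h4 : (n * m * n⁻¹) * y * (n * m * n⁻¹)⁻¹ ∈ S.U := by
      have : (n * m * n⁻¹) * y * (n * m * n⁻¹)⁻¹ ∈ S.X (w (C.simple i)) := by
        rw [← hrep.2.2]; exact conj_mem_cj hyX
      rw [hfix] at this
      exact S.X_le_U (C.simple_pos i) this
    have hrep' : S.Rep (n * m * n⁻¹ * (S.n i * k)) (w * C.refl i) := by
      have := hrep.mul ((S.rep_n i).mul (S.rep_H hk))
      rwa [mul_one] at this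
    refine ⟨n * m * n⁻¹ * (S.n i * k), z * (n * a⁻¹ * n⁻¹) *
      ((n * m * n⁻¹) * y * (n * m * n⁻¹)⁻¹), _,
      has_conj S h (g := ((n * m * n⁻¹) * y * (n * m * n⁻¹)⁻¹)⁻¹ * n)
        (S.Γ.mul_mem (S.Γ.inv_mem (U_le_Γ S h4)) hnΓ) hrep'
        (S.U.mul_mem (S.U.mul_mem (S.X_le_U (C.simple_pos i) hz) h2) h4) ?_, ?_⟩
    · have e5 : ((n * m * n⁻¹) * y * (n * m * n⁻¹)⁻¹)⁻¹ * n * (m * v) *
          (((n * m * n⁻¹) * y * (n * m * n⁻¹)⁻¹)⁻¹ * n)⁻¹ =
          ((n * m * n⁻¹) * y * (n * m * n⁻¹)⁻¹)⁻¹ * (n * m * n⁻¹) * (n * x⁻¹ * n⁻¹) *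
            (n * a⁻¹ * n⁻¹) * ((n * m * n⁻¹) * y * (n * m * n⁻¹)⁻¹) := by
        rw [ev]; group
      rw [e5, e3]; group
    · exact C.len_mul_refl_of_pos w i (C.W_neg hm.2.1) (by rw [hfix]; exact C.simple_pos i)

variable [Fintype I] [DecidableEq I] (K : CoordSys C)

include K

/-- every involution is conjugate into the monomial group -/
theorem conj_N {t : G} (ht : t ∈ S.Γ) (h2 : t * t = 1) : ∃ g ∈ S.Γ, g * t * g⁻¹ ∈ S.N := by
  classical
  -- a conjugate of maximal length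
  obtain ⟨w, ⟨m, v, h⟩, hmax⟩ : ∃ w, (∃ m v, Has S t m v w) ∧
      ∀ m' v' w', Has S t m' v' w' → C.len w' ≤ C.len w := by
    obtain ⟨m, v, w, h⟩ := exists_has S ht
    have hfin : (Set.range fun p : {w : Equiv.Perm Φ // ∃ m v, Has S t m v w} => C.len p.1).Finite :=
      Set.finite_range _
    have : Nonempty {w : Equiv.Perm Φ // ∃ m v, Has S t m v w} := ⟨⟨w, m, v, h⟩⟩
    obtain ⟨p, hp⟩ := Finite.exists_max (fun p : {w : Equiv.Perm Φ // ∃ m v, Has S t m v w} => C.len p.1)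
    exact ⟨p.1, p.2, fun m' v' w' h' => hp ⟨w', m', v', h'⟩⟩
  have hsq : ∀ {m v : G}, Has S t m v w → m * v * (m * v) = 1 := by
    rintro m v ⟨_, _, g, _, e⟩
    rw [← e]
    have : g * t * g⁻¹ * (g * t * g⁻¹) = g * (t * t) * g⁻¹ := by group
    rw [this, h2]; simp
  have hww : w * w = 1 := (form S h.1 h.2.1 (hsq h)).1
  have hinv : w⁻¹ = w := inv_eq_of_mul_eq_one_left hww
  have hfix : ∀ i, C.pos (w (C.simple i)) → w (C.simple i) = C.simple i := by
    intro i hp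
    by_contra hne
    obtain ⟨m', v', w', h', hl⟩ := longer₁ S h hinv hp hne
    have := hmax m' v' w' h'
    omega
  have hW : w ∈ C.W := h.1.2.1
  have hcomm : ∀ i, w (C.simple i) = C.simple i → w * C.refl i = C.refl i * w :=
    fun i hi => K.conj_refl hW hi
  have hstep : ∀ {m v : G}, Has S t m v w → ∀ i, w (C.simple i) = C.simple i →
      Has S t (S.n i * m * (S.n i)⁻¹) (S.n i * v * (S.n i)⁻¹) w := by
    intro m v h i hi
    rcases longer₂ S h hi (hcomm i hi) with ⟨m', v', w', h', hl⟩ | h'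
    · have := hmax m' v' w' h'
      omega
    · exact h'
  have hwords : ∀ L : List I, (∀ i ∈ L, w (C.simple i) = C.simple i) →
      Has S t (S.nw L * m * (S.nw L)⁻¹) (S.nw L * v * (S.nw L)⁻¹) w := by
    intro L
    induction L with
    | nil => intro _; simpa using h
    | cons i L ih =>
      intro hL
      have h1 := hstep (ih fun j hj => hL j (List.mem_cons_of_mem _ hj)) i (hL i List.mem_cons_self)
      have e : ∀ y : G, S.nw (i :: L) * y * (S.nw (i :: L))⁻¹ =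
          S.n i * (S.nw L * y * (S.nw L)⁻¹) * (S.n i)⁻¹ := by
        intro y; rw [S.nw_cons]; group
      rw [e, e]; exact h1
  -- a longest element of the parabolic subgroup
  obtain ⟨L, hL, hLmax⟩ : ∃ L : List I, (∀ i ∈ L, w (C.simple i) = C.simple i) ∧
      ∀ i, w (C.simple i) = C.simple i → ¬ C.pos (C.w L (C.simple i)) := by
    have : Nonempty {x : Equiv.Perm Φ // ∃ L : List I, (∀ i ∈ L, w (C.simple i) = C.simple i) ∧ C.w L = x} :=
      ⟨⟨1, [], by simp, rfl⟩⟩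
    obtain ⟨⟨x, L, hL, hx⟩, hp⟩ := Finite.exists_max
      (fun p : {x : Equiv.Perm Φ // ∃ L : List I, (∀ i ∈ L, w (C.simple i) = C.simple i) ∧ C.w L = x} =>
        C.len p.1)
    refine ⟨L, hL, fun i hi hpos => ?_⟩
    have h1 := C.len_mul_refl_of_pos (C.w L) i (C.W_neg (C.w_mem L)) hpos
    have h2 := hp ⟨C.w L * C.refl i, L ++ [i], by
      intro j hj
      rcases List.mem_append.1 hj with h | h
      · exact hL j h
      · rw [List.mem_singleton.1 h]; exact hi, by rw [C.w_append, C.w_singleton]⟩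
    simp only at h2
    rw [h1, ← hx] at h2
    omega
  have hvU : m⁻¹ * v * m ∈ S.U := (form S h.1 h.2.1 (hsq h)).2
  obtain ⟨w₀, hw₀, hw₀n⟩ := K.exists_longest
  obtain ⟨g₀, hg₀⟩ := S.exists_rep' hw₀
  have hw₀p : ∀ r, ¬ C.pos r → C.pos (w₀ r) := by
    intro r hr
    by_contra hcon
    have h1 : C.pos (C.neg r) := by rw [C.pos_neg]; exact hr
    have h3 := hw₀n _ h1
    rw [C.W_neg hw₀, C.pos_neg] at h3
    exact h3 hcon
  have hv1 : v ∈ S.Um (w₀ * w⁻¹) := by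
    apply S.mem_Um_of_U_V (hg₀.mul h.1.inv) h.2.1
    have e : g₀ * m⁻¹ * v * (g₀ * m⁻¹)⁻¹ = g₀ * (m⁻¹ * v * m) * g₀⁻¹ := by group
    rw [e, ← S.cj_U_eq_V hg₀ hw₀n]
    exact conj_mem_cj hvU
  have hv2 : v ∈ S.Um (C.w L) := by
    refine S.Um_le ?_ hv1
    intro r hr hr'
    apply S.X_le_Um hr
    apply neg_of_span K hW (C.w_mem L) hww hfix hLmax hr
    rw [← hinv]
    by_contra hcon
    exact hr' (by rw [Equiv.Perm.mul_apply]; exact hw₀p _ hcon)
  have hv3 : S.nw L * v * (S.nw L)⁻¹ ∈ S.V := S.cj_Um_le_V (S.rep_nw L) (conj_mem_cj hv2)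
  have hv4 : S.nw L * v * (S.nw L)⁻¹ = 1 :=
    S.eq_one_of_mem_B_V (S.U_le_B (hwords L hL).2.1) hv3
  have hv5 : v = 1 := by
    have : v = (S.nw L)⁻¹ * (S.nw L * v * (S.nw L)⁻¹) * S.nw L := by group
    rw [this, hv4]; group
  obtain ⟨hm, _, g, hg, e⟩ := h
  refine ⟨g, hg, ?_⟩
  rw [e, hv5, mul_one]; exact hm.1

end sys

end H42.Inv2N
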