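import Cfsg.Agent.Lib.H42.Inv2D

/-!
Characteristic two: submodules of the adjoint module spanned by basis vectors and invariant under
the Chevalley group.
-/

set_option autoImplicit false
set_option linter.unusedSectionVars false

namespace H42.Inv2P

open H22.RGD H22.Coord H22.RCCheck H22.RCComb H22.ChevTri H22.ChevRel H22.ChevSys H22.ChevMain
open H22.RCPack H42.InvCK H42.InvW H42.Inv2F H42.Inv2E H42.Inv2M H42.Inv2C H42.Inv2D
open Cfsg.Lie (ChevalleyDatum)
open scoped MatrixGroups Matrix

def ckInv1 (D : ChevalleyDatum) (P r : ℕ) (row : List (ℕ × Array (ℕ × ℤ))) : Bool :=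
  allN (fun i => !(P.testBit i) || !(oddB (D.cartan i r)) || P.testBit (D.rank + r)) D.rank &&
  (!(P.testBit (D.rank + D.neg r)) || (P.testBit (D.rank + r) &&
    allN (fun i => !(oddB ((D.coroot.getD r #[]).getD i 0)) || P.testBit i) D.rank)) &&
  allL (fun e => !(P.testBit (D.rank + e.1)) ||
    allL (fun q => !(oddB q.2) || P.testBit (D.rank + q.1)) e.2.toList) row

def ckInv (D : ChevalleyDatum) (P : ℕ) : Bool :=
  allN (fun r => ckInv1 D P r (D.chain.getD r #[]).toList) D.nroots

variable {D : ChevalleyDatum} {F : Type*} [Field F]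

theorem cast_even (h2F : (2 : F) = 0) {z : ℤ} (h : oddB z = false) : (z : F) = 0 := by
  rw [cast_parity h2F, h]; simp

theorem x_entry_P (h2F : (2 : F) = 0) {P r : ℕ} (hr : r < D.nroots)
    (hck : ckInv1 D P r (D.chain.getD r #[]).toList = true) (row col : D.Idx)
    (hcol : P.testBit (cd col) = true) (hrow : P.testBit (cd row) = false) (t : F) :
    D.x F r t row col = 0 := by
  unfold ckInv1 at hck
  simp only [Bool.and_eq_true] at hck
  obtain ⟨⟨h1, h2⟩, h3⟩ := hck
  have hne : row ≠ col := by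
    rintro rfl
    rw [hcol] at hrow; exact absurd hrow (by decide)
  unfold ChevalleyDatum.x
  rw [dif_pos hr]
  unfold ChevalleyDatum.xMat
  rw [Matrix.of_apply]
  rcases col with i | s
  · simp only
    rcases row with i' | u
    · simp only
      rw [if_neg]
      rintro rfl; exact hne rfl
    · simp only
      by_cases h : u = ⟨r, hr⟩
      · rw [if_pos h]
        have h4 := allN_spec h1 i i.2
        rw [cd_inl] at hcol
        rw [cd_inr, h] at hrow
        simp only at hrow
        rw [hcol, hrow, Bool.not_true, Bool.false_or, Bool.or_false] at h4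
        have h5 : oddB (D.cartan i r) = false := by simpa using h4
        have h6 := cast_even (F := F) h2F h5
        have h7 : (((D.cartanSR.getD (i : ℕ) #[]).getD r 0 : ℤ) : F) = 0 := h6
        rw [h7]; simp
      · rw [if_neg h]
  · simp only
    by_cases hs : s = ⟨r, hr⟩
    · rw [if_pos hs]
      rcases row with i' | u
      · rfl
      · simp only
        rw [if_neg]
        intro h
        apply hne
        rw [h, hs]
    · rw [if_neg hs]
      by_cases hs2 : (s : ℕ) = D.negIdx.getD r 0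
      · rw [if_pos hs2]
        have e : D.neg r = s := hs2.symm
        rw [cd_inr] at hcol
        rw [e, hcol, Bool.not_true, Bool.false_or, Bool.and_eq_true] at h2
        obtain ⟨h4, h5⟩ := h2
        rcases row with i' | u
        · simp only
          have h6 := allN_spec h5 i' i'.2
          rw [cd_inl] at hrow
          rw [hrow, Bool.or_false] at h6
          have h7 : oddB ((D.coroot.getD r #[]).getD (i' : ℕ) 0) = false := by simpa using h6
          rw [cast_even h2F h7]; simp
        · simp only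
          rw [if_neg, if_neg]
          · intro h
            rw [cd_inr, h] at hrow
            simp only at hrow
            rw [h4] at hrow
            exact absurd hrow (by decide)
          · rintro rfl; exact hne rfl
      · rw [if_neg hs2]
        rcases row with i' | u
        · rfl
        · simp only
          rw [if_neg (fun h => hne (by rw [h])), zero_add]
          unfold ChevalleyDatum.chainCoeff
          apply List.sum_eq_zero
          intro x hx
          simp only [List.mem_map, List.mem_flatMap, List.mem_filter, decide_eq_true_eq] at hx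
          obtain ⟨km, ⟨e, ⟨he1, he2⟩, q, ⟨hq1, hq2⟩, rfl⟩, rfl⟩ := hx
          have h4 := allL_spec h3 e he1
          rw [cd_inr] at hcol hrow
          rw [he2, hcol, Bool.not_true, Bool.false_or] at h4
          have hq3 : q.1 ∈ e.2.toList := by
            have := List.mem_zipIdx hq1
            rw [this.2.2]
            exact List.getElem_mem _
          have h5 := allL_spec h4 q.1 hq3
          rw [hq2, hrow, Bool.or_false] at h5
          have h6 : oddB q.1.2 = false := by simpa using h5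
          simp only
          rw [cast_even h2F h6]; simp

theorem mulVec_supV (h2F : (2 : F) = 0) {P : ℕ} (hck : ckInv D P = true) {r : ℕ} (hr : r < D.nroots) (t : F)
    {w : D.Idx → F} (hw : w ∈ supV D F P) : D.x F r t *ᵥ w ∈ supV D F P := by
  intro row hrow
  unfold Matrix.mulVec dotProduct
  apply Finset.sum_eq_zero
  intro col _
  by_cases hcol : P.testBit (cd col) = true
  · show D.x F r t row col * w col = 0
    rw [x_entry_P h2F hr (allN_spec hck r hr) row col hcol hrow, zero_mul]
  · have : w col = 0 := hw col (by simpa using hcol)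
    rw [this, mul_zero]

theorem group_supV (R : Rel D F) (h2F : (2 : F) = 0) {P : ℕ} (hck : ckInv D P = true) {g : GL D.Idx F}
    (hg : g ∈ D.group F) : (∀ w ∈ supV D F P, (g : Matrix D.Idx D.Idx F) *ᵥ w ∈ supV D F P) ∧
      (∀ w ∈ supV D F P, ((g⁻¹ : GL D.Idx F) : Matrix D.Idx D.Idx F) *ᵥ w ∈ supV D F P) := by
  unfold ChevalleyDatum.group at hg
  induction hg using Subgroup.closure_induction with
  | mem x hx =>
    obtain ⟨r, t, h⟩ := hx
    have h' : (x : Matrix D.Idx D.Idx F) = D.x F (r : ℕ) t := by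
      rw [h]; unfold ChevalleyDatum.x; rw [dif_pos r.2]
    have hx' := xg_eq R h'
    refine ⟨fun w hw => by rw [h']; exact mulVec_supV h2F hck r.2 t hw, fun w hw => ?_⟩
    have : x⁻¹ = xg R (r : ℕ) (-t) := by
      rw [inv_eq_iff_mul_eq_one, hx', xg_mul]; simp [xg_zero]
    rw [this, xg_val]
    exact mulVec_supV h2F hck r.2 _ hw
  | one => simp
  | mul x y _ _ hx hy =>
    refine ⟨fun w hw => ?_, fun w hw => ?_⟩
    · rw [Units.val_mul, ← Matrix.mulVec_mulVec]
      exact hx.1 _ (hy.1 w hw)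
    · rw [mul_inv_rev, Units.val_mul, ← Matrix.mulVec_mulVec]
      exact hy.2 _ (hx.2 w hw)
  | inv x _ hx => exact ⟨hx.2, by rw [inv_inv]; exact hx.1⟩

theorem rk_conj (R : Rel D F) (h2F : (2 : F) = 0) {P : ℕ} (hck : ckInv D P = true) {g : GL D.Idx F}
    (hg : g ∈ D.group F) (M : GL D.Idx F) :
    rkP P ((g * M * g⁻¹ : GL D.Idx F) : Matrix D.Idx D.Idx F) = rkP P (M : Matrix D.Idx D.Idx F) := by
  symm
  apply rkP_conj (g := (g : Matrix D.Idx D.Idx F)) (g' := ((g⁻¹ : GL D.Idx F) : Matrix D.Idx D.Idx F))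
  · rw [← Units.val_mul, mul_inv_cancel, Units.val_one]
  · rw [← Units.val_mul, inv_mul_cancel, Units.val_one]
  · rw [Units.val_mul, Units.val_mul]
  · exact (group_supV R h2F hck hg).1
  · exact (group_supV R h2F hck hg).2

/-! ### variants of the driver -/

section variants

variable (E : Env D F)

/-- moving and rewriting -/
theorem goal_rw {Ts : List (List ℕ)} {O : ℕ → List (ℕ × ℕ)} {Rs : List ℕ}
    (hO : ∀ r ∈ Rs, ckOps D r (O r) = true) {g S' T' : List ℕ} (hsub : g ++ S' ++ T' ⊆ Rs)
    (hrw : Env.ckRw E.T E.A E.d O D g S' T' = true) (hlen : T'.length = S'.length)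
    {u S ex : List ℕ} (hck : Env.ckMove D u S (S' ++ ex) = true) {n : ℕ}
    (h : ∀ rest : List (Fin D.nroots), T'.length + rest.length = n → Orth E.Q (E.fl T' ++ rest) →
      E.Goal Ts (E.fl T' ++ rest)) :
    ∀ rest : List (Fin D.nroots), S.length + rest.length = n → Orth E.Q (E.fl S ++ rest) →
      E.Goal Ts (E.fl S ++ rest) := by
  apply E.goal_move hck
  intro rest hn ho
  rw [Env.fl_append, List.append_assoc] at ho ⊢
  obtain ⟨hcj, ho'⟩ := E.rw' hO hsub hrw ho
  refine Env.Goal.tr hcj (h _ ?_ ho')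
  rw [List.length_append] at hn ⊢
  rw [Env.fl_length]; omega

/-- two lists whose products are conjugate by an explicit word -/
theorem cj_of {O : ℕ → List (ℕ × ℕ)} {g S T' : List ℕ} (hO : ∀ r ∈ g ++ S ++ T', ckOps D r (O r) = true)
    (hg : ckB D g = true) (hS : ckB D S = true) (hT : ckB D T' = true)
    (h : eqW O (D.rank + D.nroots) (g ++ S) (T' ++ g) = true) :
    Cj E.R (E.fl S) (E.fl T') := by
  have h1 : aL E.R (E.fl g) * aL E.R (E.fl S) = aL E.R (E.fl T') * aL E.R (E.fl g) := by
    apply aL_rel E.R (O := O) E.h2F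
    · intro r hr
      rw [← Env.fl_append, ← Env.fl_append] at hr
      obtain ⟨k, hk, rfl⟩ := List.mem_map.1 hr
      have hk' : k < D.nroots := by
        rw [List.mem_append, List.mem_append] at hk
        rcases hk with (hk | hk) | hk
        · exact ckB_spec hg k hk
        · exact ckB_spec hS k hk
        · exact ckB_spec hT k hk
      rw [fn_val E.h0 hk']
      exact hO k hk
    · rw [E.fl_val hg, E.fl_val hS, E.fl_val hT]; exact h
  refine ⟨aL E.R (E.fl g), aL_mem E.R _, ?_⟩
  rw [h1, mul_assoc, mul_inv_cancel, mul_one]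

section final

variable {Ts : List (List ℕ)}
  (hcls : ∀ L : List (Fin D.nroots), Orth E.Q L → L ≠ [] → ∃ Y ∈ Ts, Cj E.R L (E.fl Y))
  (hsq : ∀ Y ∈ Ts, aL E.R (E.fl Y) * aL E.R (E.fl Y) = 1)
  {ι : Type*} (inv : Matrix D.Idx D.Idx F → ι)
  (hinv : ∀ g ∈ D.group F, ∀ M : GL D.Idx F,
    inv ((g * M * g⁻¹ : GL D.Idx F) : Matrix D.Idx D.Idx F) = inv (M : Matrix D.Idx D.Idx F))
  (hsep : ∀ Y ∈ Ts, ∀ Y' ∈ Ts, inv (wm D F Y) = inv (wm D F Y') → Y = Y')
  (h1 : ∀ Y ∈ Ts, inv (wm D F Y) ≠ inv 1) (hB : ∀ Y ∈ Ts, ckB D Y = true)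

include hsq h1 hB in
theorem order_two' : ∀ Y ∈ Ts, orderOf (aL E.R (E.fl Y)) = 2 := by
  intro Y hY
  refine orderOf_eq_prime ?_ ?_
  · rw [pow_two]; exact hsq Y hY
  · intro h
    apply h1 Y hY
    rw [← E.aL_fl (hB Y hY), h]; rfl

include hcls hsq hinv hsep h1 hB in
theorem final' [Fintype F] :
    (∀ y : GL D.Idx F, (y : Matrix D.Idx D.Idx F) ∈ Ts.map (wm D F) → y ∈ D.group F ∧ orderOf y = 2) ∧
    (∀ g ∈ D.group F, orderOf g = 2 → ∃ y ∈ D.group F, (y : Matrix D.Idx D.Idx F) ∈ Ts.map (wm D F) ∧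
      ∃ h ∈ D.group F, h * g * h⁻¹ = y) ∧
    (∀ y₁ ∈ D.group F, ∀ y₂ ∈ D.group F, (y₁ : Matrix D.Idx D.Idx F) ∈ Ts.map (wm D F) →
      (y₂ : Matrix D.Idx D.Idx F) ∈ Ts.map (wm D F) → (∃ h ∈ D.group F, h * y₁ * h⁻¹ = y₂) →
      (y₁ : Matrix D.Idx D.Idx F) = (y₂ : Matrix D.Idx D.Idx F)) := by
  have key : ∀ y : GL D.Idx F, (y : Matrix D.Idx D.Idx F) ∈ Ts.map (wm D F) →
      ∃ Y ∈ Ts, y = aL E.R (E.fl Y) := by
    intro y hy
    obtain ⟨Y, hY, e⟩ := List.mem_map.1 hy
    exact ⟨Y, hY, Units.ext (by rw [E.aL_fl (hB Y hY), e])⟩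
  refine ⟨?_, ?_, ?_⟩
  · intro y hy
    obtain ⟨Y, hY, rfl⟩ := key y hy
    exact ⟨aL_mem E.R _, order_two' E hsq inv h1 hB Y hY⟩
  · intro g hg h2
    obtain ⟨Y, hY, h, hh, e⟩ := E.cls_of hcls hg h2
    refine ⟨aL E.R (E.fl Y), aL_mem E.R _, ?_, h, hh, e⟩
    rw [E.aL_fl (hB Y hY)]
    exact List.mem_map_of_mem hY
  · rintro y₁ _ y₂ _ hy₁ hy₂ ⟨h, hh, e⟩
    obtain ⟨Y, hY, e1⟩ := List.mem_map.1 hy₁
    obtain ⟨Y', hY', e2⟩ := List.mem_map.1 hy₂
    have := hinv h hh y₁
    rw [e, ← e1, ← e2] at this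
    rw [← e1, ← e2, hsep Y' hY' Y hY this]

end final

end variants

end H42.Inv2P
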