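import Cfsg.Agent.Lib.H42.Inv2V
import Cfsg.Agent.Lib.H22.PoinD4

/-!
Characteristic two, twisted type TD4: sparse forms of root elements and the parity condition.
-/

set_option autoImplicit false
set_option maxRecDepth 100000

namespace H42.Inv2TD4

open H22.RCPack H42.Inv2M H42.Inv2D H42.Inv2E H42.Inv2C

/-- sparse forms of the root elements -/
def O (r : ℕ) : List (ℕ × ℕ) :=
  bif Nat.beq r 4 then [(0, 0x100), (1, 0x100), (2, 0x100), (3, 0x100), (10, 0x10), (14, 0x40), (15, 0x80), (18, 0x200), (22, 0x2000), (23, 0x103), (24, 0x10000), (25, 0x20000), (27, 0x200000)] else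
  bif Nat.beq r 7 then [(0, 0x800), (1, 0x800), (2, 0x800), (3, 0x800), (7, 0x10), (9, 0x40), (15, 0x400), (17, 0x2000), (18, 0x4000), (20, 0x806), (21, 0x10000), (25, 0x400000), (27, 0x1000000)] else
  bif Nat.beq r 8 then [(0, 0x1000), (1, 0x1000), (2, 0x1000), (3, 0x1000), (6, 0x10), (9, 0x80), (14, 0x400), (16, 0x2000), (18, 0x8000), (19, 0x100a), (21, 0x20000), (24, 0x400000), (27, 0x2000000)] else
  bif Nat.beq r 12 then [(1, 0x10000), (5, 0x40), (7, 0x100), (10, 0x800), (12, 0x2000), (15, 0x10008), (18, 0x80000), (20, 0x200000), (23, 0x1000000), (25, 0x4000000)] else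
  bif Nat.beq r 13 then [(1, 0x20000), (5, 0x80), (6, 0x100), (10, 0x1000), (11, 0x2000), (14, 0x20004), (18, 0x100000), (19, 0x200000), (23, 0x2000000), (24, 0x4000000)] else
  bif Nat.beq r 14 then [(0, 0x40000), (2, 0x40000), (3, 0x40000), (4, 0x20), (8, 0x200), (11, 0x4000), (12, 0x8000), (13, 0x40002), (16, 0x80000), (17, 0x100000), (22, 0x800000), (26, 0x8000000)] else
  bif Nat.beq r 17 then [(0, 0x200000), (2, 0x200000), (3, 0x200000), (4, 0x100), (5, 0x200), (10, 0x20000e), (11, 0x10000), (12, 0x20000), (14, 0x80000), (15, 0x100000), (22, 0x4000000), (23, 0x8000000)] else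
  bif Nat.beq r 18 then [(1, 0x400000), (5, 0x400), (6, 0x800), (7, 0x1000), (8, 0x2000), (9, 0x400001), (18, 0x800000), (19, 0x1000000), (20, 0x2000000), (21, 0x4000000)] else
  bif Nat.beq r 20 then [(0, 0x1000000), (2, 0x1000000), (3, 0x1000000), (4, 0x800), (5, 0x4000), (7, 0x100000b), (8, 0x10000), (9, 0x80000), (12, 0x400000), (15, 0x800000), (17, 0x4000000), (20, 0x8000000)] else
  bif Nat.beq r 21 then [(0, 0x2000000), (2, 0x2000000), (3, 0x2000000), (4, 0x1000), (5, 0x8000), (6, 0x2000007), (8, 0x20000), (9, 0x100000), (11, 0x400000), (14, 0x800000), (16, 0x4000000), (19, 0x8000000)] else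
  bif Nat.beq r 23 then [(1, 0x8000000), (4, 0x800000d), (5, 0x40000), (6, 0x80000), (7, 0x100000), (8, 0x200000), (10, 0x800000), (11, 0x1000000), (12, 0x2000000), (13, 0x4000000)] else
  []

theorem ckO4 : ckOps Cfsg.Lie.chevD4 4 (O 4) = true := by decide +kernel

theorem ckO7 : ckOps Cfsg.Lie.chevD4 7 (O 7) = true := by decide +kernel

theorem ckO8 : ckOps Cfsg.Lie.chevD4 8 (O 8) = true := by decide +kernel

theorem ckO12 : ckOps Cfsg.Lie.chevD4 12 (O 12) = true := by decide +kernel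

theorem ckO13 : ckOps Cfsg.Lie.chevD4 13 (O 13) = true := by decide +kernel

theorem ckO14 : ckOps Cfsg.Lie.chevD4 14 (O 14) = true := by decide +kernel

theorem ckO17 : ckOps Cfsg.Lie.chevD4 17 (O 17) = true := by decide +kernel

theorem ckO18 : ckOps Cfsg.Lie.chevD4 18 (O 18) = true := by decide +kernel

theorem ckO20 : ckOps Cfsg.Lie.chevD4 20 (O 20) = true := by decide +kernel

theorem ckO21 : ckOps Cfsg.Lie.chevD4 21 (O 21) = true := by decide +kernel

theorem ckO23 : ckOps Cfsg.Lie.chevD4 23 (O 23) = true := by decide +kernel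

/-- the roots of the table -/
def Rs : List ℕ := [4, 7, 8, 12, 13, 14, 17, 18, 20, 21, 23]

theorem ckO : ∀ r ∈ Rs, ckOps Cfsg.Lie.chevD4 r (O r) = true := by
  intro r hr
  unfold Rs at hr
  simp only [List.mem_cons, List.not_mem_nil, or_false] at hr
  rcases hr with rfl | rfl | rfl | rfl | rfl | rfl | rfl | rfl | rfl | rfl | rfl
  · exact ckO4
  · exact ckO7
  · exact ckO8
  · exact ckO12
  · exact ckO13
  · exact ckO14
  · exact ckO17
  · exact ckO18
  · exact ckO20
  · exact ckO21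
  · exact ckO23

theorem hc0 : ckHC1 Cfsg.Lie.chevD4 0 = true := by decide +kernel

theorem hc1 : ckHC1 Cfsg.Lie.chevD4 1 = true := by decide +kernel

theorem hc2 : ckHC1 Cfsg.Lie.chevD4 2 = true := by decide +kernel

theorem hc3 : ckHC1 Cfsg.Lie.chevD4 3 = true := by decide +kernel

theorem hc : HC Cfsg.Lie.chevD4 := by
  apply hc_of
  intro i hi
  have hi' : i < 4 := hi
  interval_cases i
  · exact hc0
  · exact hc1
  · exact hc2
  · exact hc3
def cert1 : List (ℕ × ℕ) := [(27, 0x2), (3, 0x12), (18, 0x20), (19, 0x40), (20, 0x80), (21, 0x100), (23, 0x400), (24, 0x800), (25, 0x1000), (26, 0x2000)]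

def A1 : List (ℕ × ℕ) := [(27, 0x8000000), (3, 0xd), (18, 0x40000), (19, 0x80000), (20, 0x100000), (21, 0x200000), (23, 0x800000), (24, 0x1000000), (25, 0x2000000), (26, 0x4000000)]

theorem rk1 {F : Type*} [Field F] (h2F : (2 : F) = 0) :
    rkP (2 ^ 28 - 1) (wm Cfsg.Lie.chevD4 F [23]) = 10 :=
  rank_spec' h2F (O := O) (fun r hr => ckO r ((by decide +kernel : ∀ r ∈ ([23] : List ℕ), r ∈ Rs) r hr))
    (cert := cert1) (A := A1) (by decide +kernel) (by decide +kernel)

def cert2 : List (ℕ × ℕ) := [(25, 0x481), (26, 0x1900), (27, 0xc200), (24, 0x441), (21, 0xc1), (22, 0x110), (23, 0x220), (1, 0x4c1), (17, 0x810), (16, 0x1010), (20, 0x4020), (19, 0x8020)]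

def A2 : List (ℕ × ℕ) := [(25, 0x2000005), (26, 0x4000000), (27, 0x8000000), (24, 0x1000009), (21, 0x20000c), (22, 0x401900), (23, 0x80c200), (1, 0x2), (17, 0x21900), (16, 0x11900), (20, 0x10c200), (19, 0x8c200)]

theorem rk2 {F : Type*} [Field F] (h2F : (2 : F) = 0) :
    rkP (2 ^ 28 - 1) (wm Cfsg.Lie.chevD4 F [21, 20, 17]) = 12 :=
  rank_spec' h2F (O := O) (fun r hr => ckO r ((by decide +kernel : ∀ r ∈ ([21, 20, 17] : List ℕ), r ∈ Rs) r hr))
    (cert := cert2) (A := A2) (by decide +kernel) (by decide +kernel)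

end H42.Inv2TD4
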