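import Cfsg.Agent.Lib.H42.Inv2P
import Cfsg.Agent.Lib.H22.PoinF4

/-!
Characteristic two, twisted type F4: sparse forms of root elements and word identities.
-/

set_option autoImplicit false
set_option maxRecDepth 100000

namespace H42.Inv2TF4

open H22.RCPack H42.Inv2M H42.Inv2D H42.Inv2E H42.Inv2C

/-- sparse forms of the root elements -/
def O (r : ℕ) : List (ℕ × ℕ) :=
  bif Nat.beq r 14 then [(1, 0x40000), (11, 0x80), (19, 0x1100), (20, 0x2200), (21, 0x4400), (22, 0x8000), (23, 0x10000), (24, 0x20000), (37, 0x40001), (38, 0x80000000), (39, 0x100000000), (40, 0x200000000), (45, 0x20400000000), (46, 0x40800000000), (47, 0x81000000000), (48, 0x100000000000)] else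
  bif Nat.beq r 17 then [(3, 0x200000), (8, 0x20), (9, 0x40), (15, 0x800), (18, 0x4000), (25, 0x80000), (27, 0x100000), (31, 0x800000), (32, 0x1000000), (34, 0x200006), (35, 0x10000000), (36, 0x40000000), (41, 0x2000000000), (44, 0x10000000000), (49, 0x400000000000), (50, 0x800000000000)] else
  bif Nat.beq r 19 then [(0, 0x800000), (2, 0x800000), (3, 0x800000), (9, 0xa0), (13, 0x800), (15, 0x1000), (17, 0x4000), (18, 0x10000), (27, 0x480000), (29, 0x1200000), (32, 0x800002), (34, 0x84000000), (36, 0x210000000), (39, 0x2000000000), (41, 0x4000000000), (43, 0x10000000000), (44, 0x40000000000), (50, 0x1400000000000)] else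
  bif Nat.beq r 20 then [(0, 0x1000000), (2, 0x1000000), (8, 0xc0), (12, 0x800), (15, 0x2000), (16, 0x4000), (18, 0x20000), (25, 0x500000), (26, 0xa00000), (31, 0x1000002), (34, 0x120000000), (35, 0x240000000), (38, 0x2000000000), (41, 0x8000000000), (42, 0x10000000000), (44, 0x80000000000), (49, 0x1800000000000)] else
  bif Nat.beq r 22 then [(3, 0x4000000), (6, 0x20), (9, 0x100), (13, 0x1000), (17, 0x10000), (20, 0x80000), (24, 0x800000), (27, 0x2000000), (29, 0x4000004), (30, 0x10000000), (32, 0x80000000), (36, 0x800000000), (39, 0x4000000000), (43, 0x40000000000), (47, 0x400000000000), (50, 0x2000000000000)] else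
  bif Nat.beq r 23 then [(2, 0x8000000), (5, 0x10), (10, 0x200), (14, 0x2000), (16, 0x8000), (21, 0x100000), (23, 0x400000), (26, 0x2000000), (28, 0x8000008), (30, 0x20000000), (33, 0x100000000), (35, 0x400000000), (40, 0x8000000000), (42, 0x20000000000), (46, 0x200000000000), (51, 0x4000000000000)] else
  bif Nat.beq r 24 then [(2, 0x10000000), (4, 0x20), (9, 0x400), (13, 0x4000), (15, 0x10000), (20, 0x200000), (22, 0x800000), (25, 0x4000000), (27, 0x10000008), (29, 0x40000000), (32, 0x200000000), (34, 0x800000000), (39, 0x10000000000), (41, 0x40000000000), (45, 0x400000000000), (50, 0x8000000000000)] else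
  bif Nat.beq r 25 then [(3, 0x20000000), (5, 0x40), (8, 0x200), (12, 0x2000), (16, 0x20000), (19, 0x100000), (23, 0x1000000), (25, 0x8000000), (26, 0x20000004), (28, 0x40000000), (31, 0x100000000), (35, 0x1000000000), (38, 0x8000000000), (42, 0x80000000000), (46, 0x800000000000), (49, 0x4000000000000)] else
  bif Nat.beq r 27 then [(0, 0x80000000), (2, 0x80000000), (6, 0x180), (11, 0x1000), (13, 0x8000), (14, 0x10000), (17, 0x40000), (20, 0x2400000), (21, 0x4800000), (24, 0x80000002), (29, 0x500000000), (30, 0xa00000000), (37, 0x4000000000), (39, 0x20000000000), (40, 0x40000000000), (43, 0x100000000000), (47, 0x3000000000000)] else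
  bif Nat.beq r 28 then [(0, 0x100000000), (2, 0x100000000), (3, 0x100000000), (5, 0x280), (11, 0x2000), (12, 0x8000), (14, 0x20000), (16, 0x40000), (19, 0x8400000), (21, 0x21000000), (23, 0x100000002), (26, 0x480000000), (28, 0x1200000000), (37, 0x8000000000), (38, 0x20000000000), (40, 0x80000000000), (42, 0x100000000000), (46, 0x5000000000000)] else
  bif Nat.beq r 30 then [(3, 0x400000000), (5, 0x100), (6, 0x200), (11, 0x8000), (14, 0x40000), (19, 0x2000000), (20, 0x8000000), (21, 0x400000006), (23, 0x80000000), (24, 0x100000000), (28, 0x800000000), (30, 0x1000000000), (37, 0x20000000000), (40, 0x100000000000), (46, 0x2000000000000), (47, 0x4000000000000)] else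
  bif Nat.beq r 33 then [(1, 0x2000000000), (7, 0x800), (8, 0x81000), (9, 0x102000), (10, 0x204000), (15, 0x400000), (16, 0x800000), (17, 0x1000000), (18, 0x2000000001), (31, 0x4000000000), (32, 0x8000000000), (33, 0x10000000000), (34, 0x220000000000), (35, 0x440000000000), (36, 0x880000000000), (44, 0x1000000000000)] else
  []

theorem ckO14 : ckOps Cfsg.Lie.chevF4 14 (O 14) = true := by decide +kernel

theorem ckO17 : ckOps Cfsg.Lie.chevF4 17 (O 17) = true := by decide +kernel

theorem ckO19 : ckOps Cfsg.Lie.chevF4 19 (O 19) = true := by decide +kernel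

theorem ckO20 : ckOps Cfsg.Lie.chevF4 20 (O 20) = true := by decide +kernel

theorem ckO22 : ckOps Cfsg.Lie.chevF4 22 (O 22) = true := by decide +kernel

theorem ckO23 : ckOps Cfsg.Lie.chevF4 23 (O 23) = true := by decide +kernel

theorem ckO24 : ckOps Cfsg.Lie.chevF4 24 (O 24) = true := by decide +kernel

theorem ckO25 : ckOps Cfsg.Lie.chevF4 25 (O 25) = true := by decide +kernel

theorem ckO27 : ckOps Cfsg.Lie.chevF4 27 (O 27) = true := by decide +kernel

theorem ckO28 : ckOps Cfsg.Lie.chevF4 28 (O 28) = true := by decide +kernel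

theorem ckO30 : ckOps Cfsg.Lie.chevF4 30 (O 30) = true := by decide +kernel

theorem ckO33 : ckOps Cfsg.Lie.chevF4 33 (O 33) = true := by decide +kernel

/-- the roots of the table -/
def Rs : List ℕ := [14, 17, 19, 20, 22, 23, 24, 25, 27, 28, 30, 33]

theorem ckO : ∀ r ∈ Rs, ckOps Cfsg.Lie.chevF4 r (O r) = true := by
  intro r hr
  unfold Rs at hr
  simp only [List.mem_cons, List.not_mem_nil, or_false] at hr
  rcases hr with rfl | rfl | rfl | rfl | rfl | rfl | rfl | rfl | rfl | rfl | rfl | rfl
  · exact ckO14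
  · exact ckO17
  · exact ckO19
  · exact ckO20
  · exact ckO22
  · exact ckO23
  · exact ckO24
  · exact ckO25
  · exact ckO27
  · exact ckO28
  · exact ckO30
  · exact ckO33

/-- generator -/
def gA : List ℕ := [33, 24]
/-- generator -/
def ga : List ℕ := [14, 23]
/-- generator -/
def gB : List ℕ := [27, 25, 28]
/-- generator -/
def gb : List ℕ := [20, 22, 19]
/-- generator -/
def gZ : List ℕ := [28, 30]
/-- generator -/
def gz : List ℕ := [19, 17]
/-- words of the Weyl group -/
def n0 : List ℕ := [33, 14, 33, 24, 23, 24]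
def n1 : List ℕ := [27, 20, 27, 25, 22, 25, 27, 20, 27, 25, 22, 25]
def nl : List ℕ := n0 ++ n1 ++ n0 ++ n1 ++ n0 ++ n1 ++ n0 ++ n1
theorem i_n0 : eqW O 52 ([ga, n0] : List (List ℕ)).flatten ([gA, ga] : List (List ℕ)).flatten = true := by decide +kernel
theorem i_n1 : eqW O 52 ([gb, gB, n1] : List (List ℕ)).flatten ([gZ, gb, gB] : List (List ℕ)).flatten = true := by decide +kernel
theorem i_nl : eqW O 52 ([ga, gB, gA, gB, gA, gz, ga, gb, gB, gA, gB, ga, nl] : List (List ℕ)).flatten ([gA, ga, gB, gA, gB, gA, gz, ga, gb, gB, gA, gB, ga] : List (List ℕ)).flatten = true := by decide +kernel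
theorem i_AA : eqW O 52 ([gA, gA] : List (List ℕ)).flatten ([] : List (List ℕ)).flatten = true := by decide +kernel
theorem i_aa : eqW O 52 ([ga, ga] : List (List ℕ)).flatten ([] : List (List ℕ)).flatten = true := by decide +kernel
theorem i_ZZ : eqW O 52 ([gZ, gZ] : List (List ℕ)).flatten ([] : List (List ℕ)).flatten = true := by decide +kernel
theorem i_BB : eqW O 52 ([gB, gB] : List (List ℕ)).flatten ([gZ] : List (List ℕ)).flatten = true := by decide +kernel
theorem i_bb : eqW O 52 ([gb, gb] : List (List ℕ)).flatten ([gz] : List (List ℕ)).flatten = true := by decide +kernel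
theorem i_BZ : eqW O 52 ([gB, gZ] : List (List ℕ)).flatten ([gZ, gB] : List (List ℕ)).flatten = true := by decide +kernel
theorem i_bz : eqW O 52 ([gb, gz] : List (List ℕ)).flatten ([gz, gb] : List (List ℕ)).flatten = true := by decide +kernel
theorem i_s : eqW O 52 ([gB, gA, gZ, gb, ga, gz, gA, ga, gA, gZ, gA, gZ, gA, gZ, gA, gZ] : List (List ℕ)).flatten ([gA, gB, gA, gZ, gb, ga, gz, gA, ga] : List (List ℕ)).flatten = true := by decide +kernel
theorem i_p : eqW O 52 ([gz, ga, gz, ga, gz, ga, gz, gB, gA, ga, gb, gB, gZ, gb, gz, ga, gA, gA, gb, gB, gA, gB, gZ, gb, gz] : List (List ℕ)).flatten ([gZ, gz, ga, gz, ga, gz, ga, gz] : List (List ℕ)).flatten = true := by decide +kernel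
theorem i_aAa : eqW O 52 ([ga, gA, ga] : List (List ℕ)).flatten ([gA, ga, gA] : List (List ℕ)).flatten = true := by decide +kernel
theorem i_Bb : eqW O 52 ([gB, gz, gB] : List (List ℕ)).flatten ([gb, gB, gz] : List (List ℕ)).flatten = true := by decide +kernel
theorem i_cA : eqW O 52 ([ga, gA, gB, gA, ga, gA] : List (List ℕ)).flatten ([gA, ga, gA, gB, gA, ga] : List (List ℕ)).flatten = true := by decide +kernel

def certA : List (ℕ × ℕ) := [(37, 0x2), (28, 0x4), (5, 0x10), (11, 0x80), (19, 0x100), (21, 0x2400), (20, 0x600), (14, 0x2000), (23, 0x10000), (22, 0x18000), (24, 0x20000), (0, 0x40002), (26, 0x2000000), (3, 0x8000004), (30, 0x20000000), (38, 0x80000000), (40, 0x200000000), (39, 0x300000000), (46, 0x20800000000), (45, 0xc00000000), (47, 0x1000000000), (42, 0x20000000000), (48, 0x100000000000), (51, 0x4000000000000)]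

def AA : List (ℕ × ℕ) := [(37, 0x2000000000), (28, 0x10000000), (5, 0x20), (11, 0x800), (19, 0x81000), (21, 0x200000), (20, 0x102400), (14, 0x4000), (23, 0x800000), (22, 0x410000), (24, 0x1000000), (0, 0x1), (26, 0x4000000), (3, 0x8), (30, 0x40000000), (38, 0x4000000000), (40, 0x10000000000), (39, 0x8200000000), (46, 0x400000000000), (45, 0x220800000000), (47, 0x880000000000), (42, 0x40000000000), (48, 0x1000000000000), (51, 0x8000000000000)]

theorem rkA {F : Type*} [Field F] (h2F : (2 : F) = 0) :
    rkP (2 ^ 52 - 1) (wm Cfsg.Lie.chevF4 F [33, 24]) = 24 :=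
  rank_spec' h2F (O := O) (fun r hr => ckO r ((by decide +kernel : ∀ r ∈ ([33, 24] : List ℕ), r ∈ Rs) r hr))
    (cert := certA) (A := AA) (by decide +kernel) (by decide +kernel)

def certZ : List (ℕ × ℕ) := [(32, 0x1), (34, 0x9), (9, 0x40), (8, 0x60), (15, 0x1000), (13, 0x1800), (18, 0x10000), (17, 0x14000), (27, 0x100000), (25, 0x180000), (29, 0x4a00000), (31, 0x4000009), (1, 0x4800008), (36, 0x40000000), (35, 0x50000000), (41, 0x4000000000), (39, 0x6000000000), (44, 0x40000000000), (43, 0x50000000000), (50, 0x800000000000), (49, 0xc00000000000)]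

def AZ : List (ℕ × ℕ) := [(32, 0x100000000), (34, 0x400000000), (9, 0x200), (8, 0x180), (15, 0x8000), (13, 0x2000), (18, 0x40000), (17, 0x20000), (27, 0x8000000), (25, 0x2400000), (29, 0x21000004), (31, 0x80000000), (1, 0x2), (36, 0x1000000000), (35, 0xa00000000), (41, 0x20000000000), (39, 0x8000000000), (44, 0x100000000000), (43, 0x80000000000), (50, 0x4000000000000), (49, 0x3000000000000)]

theorem rkZ {F : Type*} [Field F] (h2F : (2 : F) = 0) :
    rkP (2 ^ 52 - 1) (wm Cfsg.Lie.chevF4 F [28, 30]) = 21 :=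
  rank_spec' h2F (O := O) (fun r hr => ckO r ((by decide +kernel : ∀ r ∈ ([28, 30] : List ℕ), r ∈ Rs) r hr))
    (cert := certZ) (A := AZ) (by decide +kernel) (by decide +kernel)

end H42.Inv2TF4
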