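import Cfsg.Agent.Lib.H42.InvC
import Cfsg.Agent.Lib.H22.PoinG2
import Cfsg.Agent.Lib.H22.PoinF4
import Cfsg.Agent.Lib.H22.PoinE8

/-!
The combinatorial conditions `CK` for the types G2, F4, E8.
-/

set_option autoImplicit false

namespace H42.InvCK

open H22.RCPack H22.RCCheck H22.RCComb H42.InvH
open Cfsg.Lie (ChevalleyDatum)

variable (D : ChevalleyDatum) (T h : ℕ) (A : ℕ → ℕ → ℤ)

/-- parity of an integer -/
def oddB (x : ℤ) : Bool := Nat.beq (x.natAbs % 2) 1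

theorem oddB_iff (x : ℤ) : oddB x = true ↔ Odd x := by
  unfold oddB
  rw [Nat.beq_eq, ← Nat.odd_iff, Int.natAbs_odd]

/-- zero test -/
def zB (x : ℤ) : Bool := decide (x = 0)

def indep (m l : ℕ) : Bool :=
  allN (fun i => !(m.testBit i) || allN (fun j => !(m.testBit j) || Nat.beq i j || zB (A i j)) l) l

def ckInd (l : ℕ) (wit : List (ℕ × ℕ)) : Bool :=
  allN (fun m => !(indep A m l) || Nat.beq m 0 ||
    (Nat.ble ((wit.getD m (0, 0)).1 + 1) l && m.testBit (wit.getD m (0, 0)).1 &&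
      Nat.ble ((wit.getD m (0, 0)).2 + 1) (2 * h) &&
      oddB (cartanOf D T A (wit.getD m (0, 0)).2 (wit.getD m (0, 0)).1 l) &&
      allN (fun j => !(m.testBit j) || Nat.beq j (wit.getD m (0, 0)).1 ||
        zB (cartanOf D T A (wit.getD m (0, 0)).2 j l)) l)) (2 ^ l)

def ckPar (l : ℕ) : Bool :=
  allN (fun i => allN (fun j => Nat.beq i j || oddB (A i j) || oddB (A j i) || zB (A i j)) l) l

def ckNbr (l : ℕ) : Bool :=
  allN (fun r => exN (fun i => oddB (cartanOf D T A r i l)) l) (2 * h)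

variable {D T h A}

theorem ofCk (Q : RC D) (hh : Q.half = h) (hco : Q.co = co T D.rank) (hA : Q.A = A)
    {wit : List (ℕ × ℕ)} (h1 : ckInd D T h A D.rank wit = true) (h2 : ckPar A D.rank = true)
    (h3 : ckNbr D T h A D.rank = true) : CK D := by
  have hn := Q.nroots_eq
  rw [hh] at hn
  have hcar : ∀ i < D.rank, ∀ r < D.nroots, cartanOf D T A r i D.rank = D.cartan i r := by
    intro i hi r hr
    rw [Q.cartan_eq i hi r hr, hco, hA, cartanOf_eq]
  have hcs : ∀ i < D.rank, ∀ j < D.rank, D.cartan i (D.simple j) = A i j := by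
    intro i hi j hj
    rw [cartan_simple Q hi hj, hA]
  refine ⟨?_, ?_, ?_⟩
  · intro i j hij he1 he2
    have h4 := allN_spec (allN_spec h2 i i.2) j j.2
    rw [hcs i i.2 j j.2] at he1 ⊢
    rw [hcs j j.2 i i.2] at he2
    simp only [Bool.or_eq_true, oddB_iff] at h4
    rcases h4 with ((h4 | h4) | h4) | h4
    · exact absurd (Fin.ext (Nat.eq_of_beq_eq_true h4)) hij
    · exact absurd h4 (Int.not_odd_iff_even.2 he1)
    · exact absurd h4 (Int.not_odd_iff_even.2 he2)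
    · exact of_decide_eq_true h4
  · intro J hne horth
    set m := Nat.ofBits J with hm
    have hbit : ∀ i : Fin D.rank, m.testBit i = J i := fun i => Nat.testBit_ofBits_lt J i i.2
    have h4 := allN_spec h1 m (Nat.ofBits_lt_two_pow J)
    have hind : indep A m D.rank = true := by
      unfold indep
      have aux : ∀ (n : ℕ) (p : ℕ → Bool), (∀ i < n, p i = true) → allN p n = true := by
        intro n p hp
        induction n with
        | zero => rfl
        | succ n ih =>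
          simp only [allN, Bool.and_eq_true]
          exact ⟨hp n (by omega), ih fun i hi => hp i (by omega)⟩
      apply aux
      intro i hi
      by_cases hb : J ⟨i, hi⟩ = true
      · rw [Bool.or_eq_true]; right
        apply aux
        intro j hj
        by_cases hb' : J ⟨j, hj⟩ = true
        · by_cases hij : i = j
          · simp [hij]
          · have := horth ⟨i, hi⟩ ⟨j, hj⟩ hb hb' (fun h => hij (congrArg Fin.val h))
            rw [hcs i hi j hj] at this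
            simp [zB, this]
        · have := hbit ⟨j, hj⟩
          simp only at this
          rw [this]; simp [hb']
      · have := hbit ⟨i, hi⟩
        simp only at this
        rw [this]; simp [hb]
    have hm0 : Nat.beq m 0 = false := by
      obtain ⟨i, hi⟩ := hne
      rw [Bool.eq_false_iff]
      intro h0
      have h0' : m = 0 := Nat.eq_of_beq_eq_true h0
      have := hbit i
      rw [h0', hi] at this
      simp at this
    rw [hind, hm0] at h4
    simp only [Bool.not_true, Bool.or_false, Bool.false_or, Bool.and_eq_true, oddB_iff] at h4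
    obtain ⟨⟨⟨⟨h5, h6⟩, h7⟩, h8⟩, h9⟩ := h4
    set s := (wit.getD m (0, 0)).1
    set r := (wit.getD m (0, 0)).2
    have hs : s < D.rank := Nat.le_of_ble_eq_true h5
    have hr : r < D.nroots := by rw [hn]; exact Nat.le_of_ble_eq_true h7
    refine ⟨⟨s, hs⟩, ?_, ⟨r, hr⟩, ?_, ?_⟩
    · rw [← hbit]; exact h6
    · rw [hcar s hs r hr] at h8; exact h8
    · intro j hj hjs
      have h10 := allN_spec h9 j j.2
      rw [hbit, hj] at h10
      simp only [Bool.not_true, Bool.false_or, Bool.or_eq_true] at h10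
      rcases h10 with h10 | h10
      · exact absurd (Fin.ext (Nat.eq_of_beq_eq_true h10)) hjs
      · rw [hcar j j.2 r hr] at h10
        exact of_decide_eq_true h10
  · intro r
    obtain ⟨i, hi, h4⟩ := exN_spec (allN_spec h3 r (by rw [← hn]; exact r.2))
    rw [hcar i hi r r.2, oddB_iff] at h4
    exact ⟨⟨i, hi⟩, h4⟩

/-- witnesses -/
def witG2 : List (ℕ × ℕ) := [(0, 0), (0, 1), (1, 0), (0, 0)]

theorem ckIndG2 : ckInd Cfsg.Lie.chevG2 H22.RCSmall.tabG2 6 H22.RCSmall.matG2 2 witG2 = true := by decide +kernel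
theorem ckParG2 : ckPar H22.RCSmall.matG2 2 = true := by decide +kernel
theorem ckNbrG2 : ckNbr Cfsg.Lie.chevG2 H22.RCSmall.tabG2 6 H22.RCSmall.matG2 2 = true := by decide +kernel

theorem ckG2 : CK Cfsg.Lie.chevG2 :=
  ofCk H22.PoinG2.rcxG2.rc rfl rfl rfl (wit := witG2) ckIndG2 ckParG2 ckNbrG2

/-- witnesses -/
def witF4 : List (ℕ × ℕ) := [(0, 0), (0, 3), (1, 7), (0, 0), (2, 1), (0, 3), (0, 0), (0, 0), (3, 0), (0, 3), (1, 7), (0, 0), (0, 0), (0, 0), (0, 0), (0, 0)]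

theorem ckIndF4 : ckInd Cfsg.Lie.chevF4 H22.RCSmall.tabF4 24 H22.RCSmall.matF4 4 witF4 = true := by decide +kernel
theorem ckParF4 : ckPar H22.RCSmall.matF4 4 = true := by decide +kernel
theorem ckNbrF4 : ckNbr Cfsg.Lie.chevF4 H22.RCSmall.tabF4 24 H22.RCSmall.matF4 4 = true := by decide +kernel

theorem ckF4 : CK Cfsg.Lie.chevF4 :=
  ofCk H22.PoinF4.rcxF4.rc rfl rfl rfl (wit := witF4) ckIndF4 ckParF4 ckNbrF4

/-- witnesses -/
def witE8 : List (ℕ × ℕ) := [(0, 0), (0, 6), (1, 5), (0, 9), (2, 5), (0, 0), (1, 14), (0, 0), (3, 4), (0, 6), (0, 0), (0, 0), (0, 0), (0, 0), (0, 0), (0, 0), (4, 3), (0, 6), (1, 5), (0, 11), (2, 5), (0, 0), (1, 14), (0, 0), (0, 0), (0, 0), (0, 0), (0, 0), (0, 0), (0, 0), (0, 0), (0, 0), (5, 2), (0, 6), (1, 5), (0, 9), (2, 5), (0, 0), (1, 14), (0, 0), (3, 4), (0, 6), (0, 0), (0, 0), (0, 0), (0, 0), (0, 0), (0, 0), (0, 0), (0, 0), (0, 0), (0, 0), (0, 0), (0, 0), (0, 0), (0, 0), (0, 0), (0, 0), (0,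 0), (0, 0), (0, 0), (0, 0), (0, 0), (0, 0), (6, 1), (0, 6), (1, 5), (0, 9), (2, 5), (0, 0), (1, 14), (0, 0), (3, 4), (0, 6), (0, 0), (0, 0), (0, 0), (0, 0), (0, 0), (0, 0), (4, 3), (0, 6), (1, 5), (0, 13), (2, 5), (0, 0), (1, 14), (0, 0), (0, 0), (0, 0), (0, 0), (0, 0), (0, 0), (0, 0), (0, 0), (0, 0), (0, 0), (0, 0), (0, 0), (0, 0), (0, 0), (0, 0), (0, 0), (0, 0), (0, 0), (0, 0), (0, 0), (0, 0), (0, 0), (0, 0), (0, 0), (0, 0), (0, 0), (0, 0), (0, 0), (0, 0), (0, 0), (0, 0), (0, 0), (0, 0), (0, 0), (0, 0), (0, 0), (0, 0), (0, 0), (0, 0), (0, 0), (0, 0), (7, 0), (0, 6), (1, 5), (0, 9), (2, 5), (0, 0), (1, 14), (0, 0), (3, 4), (0, 6), (0, 0), (0, 0), (0, 0), (0, 0), (0, 0), (0, 0), (4, 3), (0, 6), (1, 5), (0, 11), (2, 5), (0, 0), (1, 14), (0, 0), (0, 0), (0, 0), (0, 0), (0, 0), (0, 0), (0, 0), (0, 0), (0, 0), (5, 2), (0, 6), (1, 5), (0, 9), (2, 5), (0, 0), (1, 14), (0, 0), (3, 4), (0, 6), (0, 0), (0, 0), (0, 0), (0, 0),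 (0, 0), (0, 0), (0, 0), (0, 0), (0, 0), (0, 0), (0, 0), (0, 0), (0, 0), (0, 0), (0, 0), (0, 0), (0, 0), (0, 0), (0, 0), (0, 0), (0, 0), (0, 0), (0, 0), (0, 0), (0, 0), (0, 0), (0, 0), (0, 0), (0, 0), (0, 0), (0, 0), (0, 0), (0, 0), (0, 0), (0, 0), (0, 0), (0, 0), (0, 0), (0, 0), (0, 0), (0, 0), (0, 0), (0, 0), (0, 0), (0, 0), (0, 0), (0, 0), (0, 0), (0, 0), (0, 0), (0, 0), (0, 0), (0, 0), (0, 0), (0, 0), (0, 0), (0, 0), (0, 0), (0, 0), (0, 0), (0, 0), (0, 0), (0, 0), (0, 0), (0, 0), (0, 0), (0, 0), (0, 0), (0, 0), (0, 0), (0, 0), (0, 0), (0, 0), (0, 0), (0, 0), (0, 0), (0, 0), (0, 0), (0, 0), (0, 0), (0, 0), (0, 0), (0, 0), (0, 0), (0, 0), (0, 0)]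

theorem ckIndE8 : ckInd Cfsg.Lie.chevE8 H22.RCE8.tabE8 120 H22.RCE8.matE8 8 witE8 = true := by decide +kernel
theorem ckParE8 : ckPar H22.RCE8.matE8 8 = true := by decide +kernel
theorem ckNbrE8 : ckNbr Cfsg.Lie.chevE8 H22.RCE8.tabE8 120 H22.RCE8.matE8 8 = true := by decide +kernel

theorem ckE8 : CK Cfsg.Lie.chevE8 :=
  ofCk H22.PoinE8.rcxE8.rc rfl rfl rfl (wit := witE8) ckIndE8 ckParE8 ckNbrE8

end H42.InvCK
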