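import Cfsg.Agent.Lib.H42.InvDat
import Cfsg.Agent.Lib.H22.PoinE7

/-!
Subsystem data for the involutions in type E8.
-/

set_option autoImplicit false

namespace H42.InvE8

open H22.RGD H22.Coord H22.RCPack H22.RCCheck H22.RCComb H22.Poincare
open H42.InvSub H42.InvOrb H42.InvDat

/-- parities of the Cartan matrix -/
def rm : List ℕ := [4, 8, 9, 22, 40, 80, 160, 64]

theorem rmOk : RowsB (coord H22.PoinE8.rcxE8) rm := by
  have : ∀ i : Fin 8, rm.getD i 0 < 2 ^ 8 ∧ ∀ m : Fin 8, (rm.getD i 0).testBit m =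
      decide (Odd (H22.RCE8.matE8 i m)) := by decide +kernel
  exact this

/-! ### class a: mask 1, orbit of size 135 -/

def bs_a : List ℕ := [141, 130, 135, 126, 123, 121, 120, 226]
def ws_a : List (List ℕ × ℕ) := [([], 1), ([], 3), ([], 2), ([], 4), ([], 5), ([], 6), ([], 7), ([0, 2, 3, 1, 4, 3, 2, 0, 5, 4, 3, 1, 2, 3, 4, 5], 6)]
def As_a : List (List ℤ) := [[2, -1, 0, 0, 0, 0, 0, 0], [-1, 2, -1, -1, 0, 0, 0, 0], [0, -1, 2, 0, 0, 0, 0, 0], [0, -1, 0, 2, -1, 0, 0, 0], [0, 0, 0, -1, 2, -1, 0, 0], [0, 0, 0, 0, -1, 2, -1, 0], [0, 0, 0, 0, 0, -1, 2, -1], [0, 0, 0, 0, 0, 0, -1, 2]]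
def Ns_a : List (List ℤ) := [[-2, 2, 0, 0, 0, 0, 0, 0], [-4, 0, 0, 2, 0, 0, 0, 0], [-3, 0, 2, 0, 0, 0, 0, 0], [-3, 0, 0, 0, 2, 0, 0, 0], [-2, 0, 0, 0, 0, 2, 0, 0], [-1, 0, 0, 0, 0, 0, 2, 0], [0, 0, 0, 0, 0, 0, 0, 2], [1, 0, 0, 0, 0, 0, 0, 0]]

theorem c1_a : ckS1 Cfsg.Lie.chevE8 H22.RCE8.tabE8 120 H22.RCE8.matE8 1 bs_a ws_a As_a Ns_a 8 = true := by decide +kernel
theorem c2_a : ckS2 Cfsg.Lie.chevE8 H22.RCE8.tabE8 H22.RCE8.matE8 bs_a ws_a As_a 8 = true := by decide +kernel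
theorem c3_a : ckS3 Cfsg.Lie.chevE8 H22.RCE8.tabE8 bs_a Ns_a 2 8 = true := by decide +kernel
theorem c4_a : ckS4 Cfsg.Lie.chevE8 H22.RCE8.tabE8 120 1 bs_a Ns_a 2 8 = true := by decide +kernel
theorem c5_a : ckS5 Cfsg.Lie.chevE8 H22.RCE8.tabE8 120 1 bs_a Ns_a 2 8 = true := by decide +kernel

/-- the subsystem -/
def sub_a : SubC (coord H22.PoinE8.rcxE8) 8 :=
  ofCk H22.PoinE8.rcxE8 rfl rfl rfl 8 (by norm_num) c1_a c2_a c3_a c4_a c5_a

def cert_a : List (ℕ × ℕ) := [(1, 0), (5, 2), (12, 3), (26, 1), (26, 4), (18, 4), (50, 5), (58, 3), (58, 5), (98, 6), (44, 2), (44, 5), (106, 6), (194, 7), (37, 0), (37, 5), (124, 4), (124, 6), (202, 7), (33, 5), (117, 4), (117, 6), (84, 6), (220, 7), (113, 4), (113, 6), (93, 3), (93, 6), (213, 7), (244, 5), (244, 7), (89, 3), (89, 6), (209, 7), (75, 1), (75, 6), (253, 5), (253, 7), (164, 7), (79, 1), (79, 2), (79, 6), (249, 5), (249, 7), (67, 6),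 (235, 5), (235, 7), (173, 7), (228, 6), (71, 2), (71, 6), (70, 6), (239, 5), (239, 7), (169, 7), (227, 5), (227, 7), (187, 4), (187, 7), (237, 6), (78, 3), (78, 6), (231, 5), (231, 7), (230, 5), (230, 7), (191, 4), (191, 7), (233, 6), (179, 4), (179, 7), (147, 7), (251, 6), (88, 4), (88, 6), (238, 5), (238, 7), (183, 4), (183, 7), (182, 4), (182, 7), (151, 7), (255, 6), (155, 3), (155, 7), (243, 6), (211, 6), (112, 5), (112, 6), (248, 5), (248, 7), (190, 4), (190, 7), (159, 3), (159, 7), (247, 6), (158, 3), (158, 7), (246, 6), (215, 6), (141, 2), (141, 7), (219, 6), (115, 5), (208, 7), (168, 7), (150, 7), (254, 6), (137, 7), (223, 6), (136, 7), (222, 6), (119, 5), (132, 7), (205, 6), (123, 5), (232, 6), (214, 6), (201, 6), (127, 5), (200, 6), (126, 5), (196, 6), (109, 5), (118, 5), (105, 5), (104, 5), (100, 5), (61, 4), (57, 4), (56, 4), (52, 4), (28, 3), (10, 1)]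

def orb_a : List ℕ := run rm cert_a [1]

theorem orb_len_a : orb_a.length = 135 := by decide +kernel
theorem orb_nodup_a : orb_a.Nodup := by decide +kernel
theorem npos_a : ((List.range 120).filter fun r => pE Cfsg.Lie.chevE8 H22.RCE8.tabE8 1 (120 + r)).length = 56 := by decide +kernel
theorem vm_a : ∀ m < 8, decide (Odd (∑ i ∈ Finset.range 8, (if Nat.testBit 6 i then H22.RCE8.matE8 i m else 0))) =
    Nat.testBit 1 m := by decide +kernel

theorem rowsOk_a : RowsOk sub_a.coord As_a := by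
  refine ⟨by decide +kernel, fun i => ⟨?_, fun j => rfl⟩⟩
  have : ∀ i : Fin 8, (As_a.getD i.val []).length = 8 := by decide +kernel
  exact this i

def lva0 : List (List (List ℤ)) := [[[1]], [[-1]]]

theorem chka0 : chk As_a 0 lva0 = true := by decide +kernel

theorem lena0 : lva0.map List.length = [1, 1] := by decide +kernel

def lva1 : List (List (List ℤ)) := [[[0, 1]], [[1, -1]], [[-1, 0]]]

theorem chka1 : chk As_a 1 lva1 = true := by decide +kernel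

theorem lena1 : lva1.map List.length = [1, 1, 1] := by decide +kernel

def lva2 : List (List (List ℤ)) := [[[0, 0, 1]], [[0, 1, -1]], [[1, -1, 0]], [[-1, 0, 0]]]

theorem chka2 : chk As_a 2 lva2 = true := by decide +kernel

theorem lena2 : lva2.map List.length = [1, 1, 1, 1] := by decide +kernel

def lva3 : List (List (List ℤ)) := [[[0, 0, 0, 1]], [[0, 1, 0, -1]], [[1, -1, 1, 0]], [[-1, 0, 1, 0], [1, 0, -1, 0]], [[-1, 1, -1, 0]], [[0, -1, 0, 1]], [[0, 0, 0, -1]]]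

theorem chka3 : chk As_a 3 lva3 = true := by decide +kernel

theorem lena3 : lva3.map List.length = [1, 1, 1, 2, 1, 1, 1] := by decide +kernel

def lva4 : List (List (List ℤ)) := [[[0, 0, 0, 0, 1]], [[0, 0, 0, 1, -1]], [[0, 1, 0, -1, 0]], [[1, -1, 1, 0, 0]], [[-1, 0, 1, 0, 0], [1, 0, -1, 0, 0]], [[-1, 1, -1, 0, 0]], [[0, -1, 0, 1, 0]], [[0, 0, 0, -1, 1]], [[0, 0, 0, 0, -1]]]

theorem chka4 : chk As_a 4 lva4 = true := by decide +kernel

theorem lena4 : lva4.map List.length = [1, 1, 1, 1, 2, 1, 1, 1, 1] := by decide +kernel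

def lva5 : List (List (List ℤ)) := [[[0, 0, 0, 0, 0, 1]], [[0, 0, 0, 0, 1, -1]], [[0, 0, 0, 1, -1, 0]], [[0, 1, 0, -1, 0, 0]], [[1, -1, 1, 0, 0, 0]], [[-1, 0, 1, 0, 0, 0], [1, 0, -1, 0, 0, 0]], [[-1, 1, -1, 0, 0, 0]], [[0, -1, 0, 1, 0, 0]], [[0, 0, 0, -1, 1, 0]], [[0, 0, 0, 0, -1, 1]], [[0, 0, 0, 0, 0, -1]]]

theorem chka5 : chk As_a 5 lva5 = true := by decide +kernel

theorem lena5 : lva5.map List.length = [1, 1, 1, 1, 1, 2, 1, 1, 1, 1, 1] := by decide +kernel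

def lva6 : List (List (List ℤ)) := [[[0, 0, 0, 0, 0, 0, 1]], [[0, 0, 0, 0, 0, 1, -1]], [[0, 0, 0, 0, 1, -1, 0]], [[0, 0, 0, 1, -1, 0, 0]], [[0, 1, 0, -1, 0, 0, 0]], [[1, -1, 1, 0, 0, 0, 0]], [[-1, 0, 1, 0, 0, 0, 0], [1, 0, -1, 0, 0, 0, 0]], [[-1, 1, -1, 0, 0, 0, 0]], [[0, -1, 0, 1, 0, 0, 0]], [[0, 0, 0, -1, 1, 0, 0]], [[0, 0, 0, 0, -1, 1, 0]], [[0, 0, 0, 0, 0, -1, 1]], [[0, 0, 0, 0, 0, 0, -1]]]

theorem chka6 : chk As_a 6 lva6 = true := by decide +kernel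

theorem lena6 : lva6.map List.length = [1, 1, 1, 1, 1, 1, 2, 1, 1, 1, 1, 1, 1] := by decide +kernel

def lva7 : List (List (List ℤ)) := [[[0, 0, 0, 0, 0, 0, 0, 1]], [[0, 0, 0, 0, 0, 0, 1, -1]], [[0, 0, 0, 0, 0, 1, -1, 0]], [[0, 0, 0, 0, 1, -1, 0, 0]], [[0, 0, 0, 1, -1, 0, 0, 0]], [[0, 1, 0, -1, 0, 0, 0, 0]], [[1, -1, 1, 0, 0, 0, 0, 0]], [[-1, 0, 1, 0, 0, 0, 0, 0], [1, 0, -1, 0, 0, 0, 0, 0]], [[-1, 1, -1, 0, 0, 0, 0, 0]], [[0, -1, 0, 1, 0, 0, 0, 0]], [[0, 0, 0, -1, 1, 0, 0, 0]], [[0, 0, 0, 0, -1, 1, 0, 0]], [[0, 0, 0, 0, 0, -1, 1, 0]], [[0, 0, 0, 0, 0, 0, -1, 1]], [[0, 0, 0, 0, 0, 0, 0, -1]]]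

theorem chka7 : chk As_a 7 lva7 = true := by decide +kernel

theorem lena7 : lva7.map List.length = [1, 1, 1, 1, 1, 1, 1, 2, 1, 1, 1, 1, 1, 1, 1] := by decide +kernel

theorem poin_a (q : ℕ) : P sub_a.comb 8 q = evalP [1, 1, 1, 1, 1, 1, 1, 2, 1, 1, 1, 1, 1, 1, 1] q * evalP [1, 1, 1, 1, 1, 1, 2, 1, 1, 1, 1, 1, 1] q * evalP [1, 1, 1, 1, 1, 2, 1, 1, 1, 1, 1] q * evalP [1, 1, 1, 1, 2, 1, 1, 1, 1] q * evalP [1, 1, 1, 2, 1, 1, 1] q * evalP [1, 1, 1, 1] q * evalP [1, 1, 1] q * evalP [1, 1] q := by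
  have h := P_zero (C := sub_a.comb) q
  have h0 := P_succ sub_a.coord rowsOk_a (by norm_num : 0 < 8) chka0 q
  rw [lena0] at h0
  have h1 := P_succ sub_a.coord rowsOk_a (by norm_num : 1 < 8) chka1 q
  rw [lena1] at h1
  have h2 := P_succ sub_a.coord rowsOk_a (by norm_num : 2 < 8) chka2 q
  rw [lena2] at h2
  have h3 := P_succ sub_a.coord rowsOk_a (by norm_num : 3 < 8) chka3 q
  rw [lena3] at h3
  have h4 := P_succ sub_a.coord rowsOk_a (by norm_num : 4 < 8) chka4 q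
  rw [lena4] at h4
  have h5 := P_succ sub_a.coord rowsOk_a (by norm_num : 5 < 8) chka5 q
  rw [lena5] at h5
  have h6 := P_succ sub_a.coord rowsOk_a (by norm_num : 6 < 8) chka6 q
  rw [lena6] at h6
  have h7 := P_succ sub_a.coord rowsOk_a (by norm_num : 7 < 8) chka7 q
  rw [lena7] at h7
  rw [h7, h6, h5, h4, h3, h2, h1, h0, h]
  simp only [mul_one, mul_assoc]

/-! ### class b: mask 128, orbit of size 120 -/

def bs_b : List ℕ := [162, 141, 135, 130, 126, 123, 121, 239]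
def ws_b : List (List ℕ × ℕ) := [([], 0), ([], 1), ([], 2), ([], 3), ([], 4), ([], 5), ([], 6), ([7, 6, 5, 4, 3, 1, 2, 0, 3, 2, 4, 3, 1, 5, 4, 3, 2, 0, 6, 5, 4, 3, 1, 2, 3, 4, 5, 6], 7)]
def As_b : List (List ℤ) := [[2, 0, -1, 0, 0, 0, 0, 0], [0, 2, 0, -1, 0, 0, 0, 0], [-1, 0, 2, -1, 0, 0, 0, 0], [0, -1, -1, 2, -1, 0, 0, 0], [0, 0, 0, -1, 2, -1, 0, 0], [0, 0, 0, 0, -1, 2, -1, 0], [0, 0, 0, 0, 0, -1, 2, 0], [0, 0, 0, 0, 0, 0, 0, 2]]
def Ns_b : List (List ℤ) := [[2, 0, 0, 0, 0, 0, 0, -2], [0, 2, 0, 0, 0, 0, 0, -3], [0, 0, 2, 0, 0, 0, 0, -4], [0, 0, 0, 2, 0, 0, 0, -6], [0, 0, 0, 0, 2, 0, 0, -5], [0, 0, 0, 0, 0, 2, 0, -4], [0, 0, 0, 0, 0, 0, 2, -3], [0, 0, 0, 0, 0, 0, 0, 1]]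

theorem c1_b : ckS1 Cfsg.Lie.chevE8 H22.RCE8.tabE8 120 H22.RCE8.matE8 128 bs_b ws_b As_b Ns_b 8 = true := by decide +kernel
theorem c2_b : ckS2 Cfsg.Lie.chevE8 H22.RCE8.tabE8 H22.RCE8.matE8 bs_b ws_b As_b 8 = true := by decide +kernel
theorem c3_b : ckS3 Cfsg.Lie.chevE8 H22.RCE8.tabE8 bs_b Ns_b 2 8 = true := by decide +kernel
theorem c4_b : ckS4 Cfsg.Lie.chevE8 H22.RCE8.tabE8 120 128 bs_b Ns_b 2 8 = true := by decide +kernel
theorem c5_b : ckS5 Cfsg.Lie.chevE8 H22.RCE8.tabE8 120 128 bs_b Ns_b 2 8 = true := by decide +kernel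

/-- the subsystem -/
def sub_b : SubC (coord H22.PoinE8.rcxE8) 8 :=
  ofCk H22.PoinE8.rcxE8 rfl rfl rfl 8 (by norm_num) c1_b c2_b c3_b c4_b c5_b

def cert_b : List (ℕ × ℕ) := [(128, 7), (192, 6), (96, 5), (48, 4), (24, 3), (14, 1), (14, 2), (6, 2), (7, 0), (15, 0), (15, 3), (11, 3), (25, 4), (29, 2), (29, 4), (49, 5), (20, 4), (53, 5), (97, 6), (60, 3), (60, 5), (101, 6), (193, 7), (42, 1), (42, 5), (108, 6), (197, 7), (34, 5), (122, 4), (122, 6), (204, 7), (114, 4), (114, 6), (82, 6), (218, 7), (90, 3), (90, 6), (210, 7), (242, 5), (242, 7), (76, 2), (76, 6), (250, 5), (250, 7), (162, 7), (69, 0), (69, 6), (236, 5), (236, 7), (170, 7), (226, 6), (65, 6), (229, 5), (229, 7), (188, 4), (188, 7), (234, 6), (225, 5), (225, 7), (181, 4), (181, 7), (148, 7), (252, 6), (177, 4), (177, 7), (157, 3), (157, 7), (245, 6), (212, 6), (153, 3), (153, 7), (241, 6), (139, 1), (139, 7), (221,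 6), (116, 5), (143, 1), (143, 2), (143, 7), (217, 6), (131, 7), (203, 6), (125, 5), (135, 2), (135, 7), (134, 7), (207, 6), (121, 5), (195, 6), (107, 5), (142, 3), (142, 7), (199, 6), (198, 6), (111, 5), (99, 5), (59, 4), (152, 4), (152, 7), (206, 6), (103, 5), (102, 5), (63, 4), (51, 4), (176, 5), (176, 7), (216, 6), (110, 5), (55, 4), (54, 4), (27, 3), (224, 6), (224, 7), (240, 6), (120, 5), (62, 4), (31, 3), (30, 3), (13, 2)]

def orb_b : List ℕ := run rm cert_b [128]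

theorem orb_len_b : orb_b.length = 120 := by decide +kernel
theorem orb_nodup_b : orb_b.Nodup := by decide +kernel
theorem npos_b : ((List.range 120).filter fun r => pE Cfsg.Lie.chevE8 H22.RCE8.tabE8 128 (120 + r)).length = 64 := by decide +kernel
theorem vm_b : ∀ m < 8, decide (Odd (∑ i ∈ Finset.range 8, (if Nat.testBit 82 i then H22.RCE8.matE8 i m else 0))) =
    Nat.testBit 128 m := by decide +kernel

theorem rowsOk_b : RowsOk sub_b.coord As_b := by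
  refine ⟨by decide +kernel, fun i => ⟨?_, fun j => rfl⟩⟩
  have : ∀ i : Fin 8, (As_b.getD i.val []).length = 8 := by decide +kernel
  exact this i

theorem chkb0 : chk As_b 0 H22.PoinE7.lv0 = true := by decide +kernel

theorem lenb0 : H22.PoinE7.lv0.map List.length = [1, 1] := by decide +kernel

theorem chkb1 : chk As_b 1 H22.PoinE7.lv1 = true := by decide +kernel

theorem lenb1 : H22.PoinE7.lv1.map List.length = [1, 1] := by decide +kernel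

theorem chkb2 : chk As_b 2 H22.PoinE7.lv2 = true := by decide +kernel

theorem lenb2 : H22.PoinE7.lv2.map List.length = [1, 1, 1] := by decide +kernel

theorem chkb3 : chk As_b 3 H22.PoinE7.lv3 = true := by decide +kernel

theorem lenb3 : H22.PoinE7.lv3.map List.length = [1, 1, 2, 2, 2, 1, 1] := by decide +kernel

theorem chkb4 : chk As_b 4 H22.PoinE7.lv4 = true := by decide +kernel

theorem lenb4 : H22.PoinE7.lv4.map List.length = [1, 1, 1, 2, 2, 2, 2, 2, 1, 1, 1] := by decide +kernel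

theorem chkb5 : chk As_b 5 H22.PoinE7.lv5 = true := by decide +kernel

theorem lenb5 : H22.PoinE7.lv5.map List.length = [1, 1, 1, 1, 2, 2, 2, 2, 3, 2, 2, 2, 2, 1, 1, 1, 1] := by decide +kernel

theorem chkb6 : chk As_b 6 H22.PoinE7.lv6 = true := by decide +kernel

theorem lenb6 : H22.PoinE7.lv6.map List.length = [1, 1, 1, 1, 1, 2, 2, 2, 2, 3, 3, 3, 3, 3, 3, 3, 3, 3, 3, 2, 2, 2, 2, 1, 1, 1, 1, 1] := by decide +kernel

def lvb7 : List (List (List ℤ)) := [[[0, 0, 0, 0, 0, 0, 0, 1]], [[0, 0, 0, 0, 0, 0, 0, -1]]]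

theorem chkb7 : chk As_b 7 lvb7 = true := by decide +kernel

theorem lenb7 : lvb7.map List.length = [1, 1] := by decide +kernel

theorem poin_b (q : ℕ) : P sub_b.comb 8 q = evalP [1, 1] q * evalP [1, 1, 1, 1, 1, 2, 2, 2, 2, 3, 3, 3, 3, 3, 3, 3, 3, 3, 3, 2, 2, 2, 2, 1, 1, 1, 1, 1] q * evalP [1, 1, 1, 1, 2, 2, 2, 2, 3, 2, 2, 2, 2, 1, 1, 1, 1] q * evalP [1, 1, 1, 2, 2, 2, 2, 2, 1, 1, 1] q * evalP [1, 1, 2, 2, 2, 1, 1] q * evalP [1, 1, 1] q * evalP [1, 1] q * evalP [1, 1] q := by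
  have h := P_zero (C := sub_b.comb) q
  have h0 := P_succ sub_b.coord rowsOk_b (by norm_num : 0 < 8) chkb0 q
  rw [lenb0] at h0
  have h1 := P_succ sub_b.coord rowsOk_b (by norm_num : 1 < 8) chkb1 q
  rw [lenb1] at h1
  have h2 := P_succ sub_b.coord rowsOk_b (by norm_num : 2 < 8) chkb2 q
  rw [lenb2] at h2
  have h3 := P_succ sub_b.coord rowsOk_b (by norm_num : 3 < 8) chkb3 q
  rw [lenb3] at h3
  have h4 := P_succ sub_b.coord rowsOk_b (by norm_num : 4 < 8) chkb4 q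
  rw [lenb4] at h4
  have h5 := P_succ sub_b.coord rowsOk_b (by norm_num : 5 < 8) chkb5 q
  rw [lenb5] at h5
  have h6 := P_succ sub_b.coord rowsOk_b (by norm_num : 6 < 8) chkb6 q
  rw [lenb6] at h6
  have h7 := P_succ sub_b.coord rowsOk_b (by norm_num : 7 < 8) chkb7 q
  rw [lenb7] at h7
  rw [h7, h6, h5, h4, h3, h2, h1, h0, h]
  simp only [mul_one, mul_assoc]

end H42.InvE8
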