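import Cfsg.Agent.Lib.H22.RGDCard

/-!
Involutions in groups with a root group system whose unipotent group has odd order are conjugate into
the monomial group.
-/

set_option autoImplicit false

namespace H42.InvN

open H22.RGD

variable {G Φ I : Type*} [Group G] {C : RootComb Φ I} (S : Sys G C)

theorem conj_N [Finite Φ] [Finite G] (hodd : ¬ 2 ∣ Nat.card S.U)
    (hC : ∀ u ∈ S.U, (∀ h ∈ S.H, u * h * u⁻¹ ∈ S.H) → u = 1)
    {t : G} (ht : t ∈ S.Γ) (h2 : t * t = 1) : ∃ g ∈ S.Γ, g * t * g⁻¹ ∈ S.N := by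
  obtain ⟨b₁, hb₁, m, hm, b₂, hb₂, rfl⟩ := S.bruhat ht
  obtain ⟨w, hw⟩ := S.exists_rep hm
  set b := b₂ * b₁ with hb
  have hbB : b ∈ S.B := S.B.mul_mem hb₂ hb₁
  have h2' : m * b * (m * b) = 1 := by
    have : m * b * (m * b) = b₁⁻¹ * ((b₁ * m * b₂) * (b₁ * m * b₂)) * b₁ := by
      rw [hb]; simp [mul_assoc]
    rw [this, h2]; simp
  -- `w² = 1`
  have hminv : m⁻¹ = b * m * b := by
    rw [inv_eq_iff_mul_eq_one]; simpa [mul_assoc] using h2'
  have hww : w⁻¹ = w := (S.double_coset_unique hw hw.inv hbB hbB hminv.symm).symm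
  have hw2 : w * w = 1 := by
    calc w * w = w⁻¹ * w := by rw [hww]
      _ = 1 := inv_mul_cancel w
  have hmm : m * m ∈ S.H := by
    apply S.mem_H_of_rep_one
    have := hw.mul hw
    rwa [hw2] at this
  have hmN : m ∈ S.N := hm
  set V : Subgroup G := S.U ⊓ cj m S.U with hV
  have hmV : m ∈ stabSub V := by
    rw [mem_stabSub, hV, cj_inf, ← cj_mul, mem_stabSub.1 (S.H_le_stab_U hmm), inf_comm]
  have hHV : S.H ≤ stabSub V := by
    intro h hh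
    have h1 : cj h (cj m S.U) = cj m S.U := by
      have h3 : m⁻¹ * h * m ∈ S.H := S.N_inv_conj_H hmN hh
      have h4 : h * m = m * (m⁻¹ * h * m) := by simp [mul_assoc]
      rw [← cj_mul, h4, cj_mul, mem_stabSub.1 (S.H_le_stab_U h3)]
    rw [mem_stabSub, hV, cj_inf, h1, mem_stabSub.1 (S.H_le_stab_U hh)]
  obtain ⟨v0, hv0, h0, hh0, hvh⟩ := S.mem_B.1 hbB
  have hv0V : v0 ∈ V := by
    refine ⟨hv0, ?_⟩
    refine mem_cj.2 ?_
    have h3 : m⁻¹ * v0 * m ∈ S.B := by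
      have e1 : b = m⁻¹ * b⁻¹ * m⁻¹ := by
        have : m * b * m * b = 1 := by simpa [mul_assoc] using h2'
        have h5 : b = (m * b * m)⁻¹ := eq_inv_of_mul_eq_one_right this
        rw [mul_inv_rev, mul_inv_rev, ← mul_assoc] at h5
        exact h5
      have e2 : m⁻¹ * v0 * m = ((m * m)⁻¹ * b⁻¹) * (m⁻¹ * h0⁻¹ * m) := by
        have e3 : v0 = b * h0⁻¹ := by rw [hvh]; simp
        rw [e3]
        conv_lhs => rw [e1]
        simp [mul_assoc]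
      rw [e2]
      exact S.B.mul_mem (S.B.mul_mem (S.B.inv_mem (S.H_le_B hmm)) (S.B.inv_mem hbB))
        (S.H_le_B (S.N_inv_conj_H hmN (S.H.inv_mem hh0)))
    obtain ⟨a, _, ha', c, hc, e⟩ := S.U_decomp hw.inv hv0
    have h4 : m⁻¹ * c * m⁻¹⁻¹ ∈ S.V := S.cj_Um_le_V hw.inv (conj_mem_cj hc)
    rw [inv_inv] at h4 ha'
    have h5 : m⁻¹ * c * m = 1 := by
      apply S.eq_one_of_mem_B_V _ h4
      have : m⁻¹ * c * m = (m⁻¹ * a * m)⁻¹ * (m⁻¹ * v0 * m) := by rw [e]; simp [mul_assoc]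
      rw [this]
      exact S.B.mul_mem (S.B.inv_mem (S.U_le_B ha')) h3
    have h6 : c = 1 := by
      have : c = m * (m⁻¹ * c * m) * m⁻¹ := by simp [mul_assoc]
      rw [this, h5]; simp
    rw [e, h6, mul_one]; exact ha'
  have hone : ∀ v ∈ V, (∀ h ∈ S.H, v * h * v⁻¹ ∈ S.H) → v = 1 := fun v hv h => hC v hv.1 h
  set t := m * b with ht'
  have htt : t * t = 1 := h2'
  have htinv : t⁻¹ = t := inv_eq_of_mul_eq_one_left htt
  set c := m * v0 * m⁻¹ with hc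
  have hcV : c ∈ V := conj_mem_of_stabSub hmV hv0V
  have htV : ∀ v ∈ V, t * v * t⁻¹ ∈ V := by
    intro v hv
    have e : t * v * t⁻¹ = m * (v0 * (h0 * v * h0⁻¹) * v0⁻¹) * m⁻¹ := by
      rw [ht', hvh]; simp [mul_assoc]
    rw [e]
    exact conj_mem_of_stabSub hmV (V.mul_mem (V.mul_mem hv0V (conj_mem_of_stabSub (hHV hh0) hv))
      (V.inv_mem hv0V))
  have htH : ∀ h ∈ S.H, ∃ h' ∈ S.H, t * h * t⁻¹ = c * h' * c⁻¹ := by
    intro h hh
    refine ⟨m * (h0 * h * h0⁻¹) * m⁻¹, S.N_conj_H hmN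
      (S.H.mul_mem (S.H.mul_mem hh0 hh) (S.H.inv_mem hh0)), ?_⟩
    rw [ht', hvh, hc]; simp [mul_assoc]
  have hz : t * c * t⁻¹ * c = 1 := by
    have hzV : t * c * t⁻¹ * c ∈ V := V.mul_mem (htV c hcV) hcV
    have h3 : (t * c * t⁻¹ * c)⁻¹ = 1 := by
      apply hone _ (V.inv_mem hzV)
      intro h hh
      obtain ⟨h', hh', e1⟩ := htH h hh
      obtain ⟨h'', hh'', e2⟩ := htH h' hh'
      have e3 : h = (t * c * t⁻¹ * c) * h'' * (t * c * t⁻¹ * c)⁻¹ := by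
        calc h = t * (t * h * t⁻¹) * t⁻¹ := by
              have : t * (t * h * t⁻¹) * t⁻¹ = (t * t) * h * (t * t)⁻¹ := by simp [mul_assoc]
              rw [this, htt]; simp
          _ = t * (c * h' * c⁻¹) * t⁻¹ := by rw [e1]
          _ = (t * c * t⁻¹) * (t * h' * t⁻¹) * (t * c * t⁻¹)⁻¹ := by simp [mul_assoc]
          _ = _ := by rw [e2]; simp [mul_assoc]
      rw [e3]
      have : (t * c * t⁻¹ * c)⁻¹ * ((t * c * t⁻¹ * c) * h'' * (t * c * t⁻¹ * c)⁻¹) *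
          (t * c * t⁻¹ * c)⁻¹⁻¹ = h'' := by group
      rw [this]; exact hh''
    exact inv_eq_one.1 h3
  -- the fixed point
  let f : V → V := fun v => ⟨t * v * t⁻¹ * c, V.mul_mem (htV v v.2) hcV⟩
  have hf : Function.Involutive f := by
    intro v
    apply Subtype.ext
    show t * (t * v * t⁻¹ * c) * t⁻¹ * c = v
    have e : t * (t * (v : G) * t⁻¹ * c) * t⁻¹ * c = (t * t) * v * (t * t)⁻¹ * (t * c * t⁻¹ * c) := by
      simp [mul_assoc]
    rw [e, htt, hz]; simp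
  classical
  have : Fintype V := Fintype.ofFinite V
  have hcardV : ¬ 2 ∣ Fintype.card V := by
    intro h
    apply hodd
    rw [← Nat.card_eq_fintype_card] at h
    exact h.trans (Subgroup.card_dvd_of_le inf_le_left)
  obtain ⟨v, hv⟩ := Equiv.Perm.exists_fixed_point_of_prime (p := 2) (n := 1) hcardV
    (σ := hf.toPerm) (by
      rw [pow_one, sq]
      ext v
      exact congrArg Subtype.val (hf v))
  have hv' : t * (v : G) * t⁻¹ * c = v := congrArg Subtype.val hv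
  -- conclusion
  have hv'' : t * (v : G) * t⁻¹ = v * c⁻¹ := eq_mul_inv_of_mul_eq hv'
  set y := (m⁻¹ * (v : G)⁻¹ * m) * v0 * (h0 * v * h0⁻¹) with hy
  have hyV : y ∈ V := V.mul_mem (V.mul_mem (inv_conj_mem_of_stabSub hmV (V.inv_mem v.2)) hv0V)
    (conj_mem_of_stabSub (hHV hh0) v.2)
  have hyt : (v : G)⁻¹ * t * v = m * y * h0 := by
    rw [hy, ht', hvh]; simp [mul_assoc]
  have hy1 : y = 1 := by
    apply hone y hyV
    intro h hh
    have hh' : h0⁻¹ * h * h0 ∈ S.H := S.H.mul_mem (S.H.mul_mem (S.H.inv_mem hh0) hh) hh0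
    obtain ⟨h', hh'', e1⟩ := htH _ hh'
    have e2 : y * h * y⁻¹ = m⁻¹ * h' * m := by
      have e3 : y = m⁻¹ * ((v : G)⁻¹ * t * v) * h0⁻¹ := by rw [hyt]; simp [mul_assoc]
      have e4 : y * h * y⁻¹ = m⁻¹ * ((v : G)⁻¹ * (t * v * t⁻¹) * (t * (h0⁻¹ * h * h0) * t⁻¹) *
          (t * v * t⁻¹)⁻¹ * v) * m := by
        rw [e3]; simp [mul_assoc]
      rw [e4, hv'', e1]; simp [mul_assoc]
    rw [e2]
    exact S.N_inv_conj_H hmN hh''
  refine ⟨(v : G)⁻¹ * b₁⁻¹, S.Γ.mul_mem (S.Γ.inv_mem (S.B_le_Γ (S.U_le_B v.2.1)))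
    (S.Γ.inv_mem (S.B_le_Γ hb₁)), ?_⟩
  have e5 : (v : G)⁻¹ * b₁⁻¹ * (b₁ * m * b₂) * ((v : G)⁻¹ * b₁⁻¹)⁻¹ = (v : G)⁻¹ * t * v := by
    rw [ht', hb]; simp [mul_assoc]
  rw [e5, hyt, hy1, mul_one]
  exact S.N.mul_mem hmN (S.H_le_N hh0)

end H42.InvN
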