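import Cfsg.Agent.Lib.H22.Coord

/-!
Involutions in Weyl groups.
-/

set_option autoImplicit false

namespace H42.InvW

open H22.RGD H22.Coord

variable {Φ I : Type*} {C : RootComb Φ I}

theorem refl_mem (i : I) : C.refl i ∈ C.W := Subgroup.subset_closure ⟨i, rfl⟩

/-- number of moved roots -/
noncomputable def mu (w : Equiv.Perm Φ) : ℕ := {r | w r ≠ r}.ncard

theorem mu_conj [Finite Φ] (v w : Equiv.Perm Φ) : mu (v * w * v⁻¹) = mu w := by
  unfold mu
  have : {r | (v * w * v⁻¹) r ≠ r} = v '' {r | w r ≠ r} := by
    ext r
    simp only [Set.mem_ofPred_eq, Set.mem_image, Equiv.Perm.mul_apply]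
    constructor
    · intro h
      refine ⟨v⁻¹ r, fun h' => h ?_, by simp⟩
      rw [h']; simp
    · rintro ⟨s, hs, rfl⟩ h
      apply hs
      have : v⁻¹ (v s) = s := by simp
      rw [this] at h
      exact v.injective h
  rw [this, Set.ncard_image_of_injective _ v.injective]

/-- an involution is conjugate to one whose descents are inverted -/
theorem exists_min_conj [Finite Φ] {w : Equiv.Perm Φ} (hw : w ∈ C.W) (h2 : w * w = 1) :
    ∃ v ∈ C.W, ∀ s, ¬ C.pos ((v * w * v⁻¹) (C.simple s)) →
      (v * w * v⁻¹) (C.simple s) = C.neg (C.simple s) := by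
  have key : ∀ n : ℕ, ∀ w ∈ C.W, w * w = 1 → C.len w = n → ∃ v ∈ C.W, ∀ s,
      ¬ C.pos ((v * w * v⁻¹) (C.simple s)) → (v * w * v⁻¹) (C.simple s) = C.neg (C.simple s) := by
    intro n
    induction n using Nat.strong_induction_on with
    | _ n ih =>
      intro w hw h2 hn
      by_cases hcon : ∀ s, ¬ C.pos (w (C.simple s)) → w (C.simple s) = C.neg (C.simple s)
      · exact ⟨1, C.W.one_mem, by simpa using hcon⟩
      push Not at hcon
      obtain ⟨s, hs, hne⟩ := hcon
      have hws : w * C.refl s ∈ C.W := C.W.mul_mem hw (refl_mem s)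
      have hwinv : w⁻¹ = w := inv_eq_of_mul_eq_one_left h2
      have h3 := C.len_mul_refl_of_neg w s (C.W_neg hw) hs
      have h4 : ¬ C.pos ((w * C.refl s)⁻¹ (C.simple s)) := by
        rw [mul_inv_rev, RootComb.refl_inv, hwinv, Equiv.Perm.mul_apply]
        intro hp
        -- `s (w α) > 0` with `w α < 0` gives `w α = - α`
        have h5 : C.pos (C.neg (w (C.simple s))) := by rw [C.pos_neg]; exact hs
        have h6 : C.neg (w (C.simple s)) ≠ C.simple s := by
          intro h7
          apply hne
          rw [← C.neg_neg (w (C.simple s)), h7]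
        have h8 := C.refl_pos s _ h5 h6
        rw [C.refl_neg, C.pos_neg] at h8
        exact h8 hp
      have h5 := C.len_refl_mul_of_neg hws s h4
      have hW' : C.refl s * (w * C.refl s) ∈ C.W := C.W.mul_mem (refl_mem s) hws
      obtain ⟨v, hv, hv'⟩ := ih _ (by omega) (C.refl s * (w * C.refl s)) hW' (by
        have : C.refl s * (w * C.refl s) * (C.refl s * (w * C.refl s)) =
            C.refl s * w * (C.refl s * C.refl s) * w * C.refl s := by simp only [mul_assoc]
        rw [this, C.refl_mul_self, mul_one, mul_assoc (C.refl s), h2, mul_one, C.refl_mul_self]) rfl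
      refine ⟨v * C.refl s, C.W.mul_mem hv (refl_mem s), ?_⟩
      have e : v * C.refl s * w * (v * C.refl s)⁻¹ = v * (C.refl s * (w * C.refl s)) * v⁻¹ := by
        rw [mul_inv_rev, RootComb.refl_inv]; simp only [mul_assoc]
      rw [e]; exact hv'
  exact key _ w hw h2 rfl

variable [Fintype I] [DecidableEq I] (K : CoordSys C)

include K

/-- a Weyl group element inverting a simple root commutes with the reflection -/
theorem comm_refl [Finite Φ] {w : Equiv.Perm Φ} (hw : w ∈ C.W) {s : I}
    (h : w (C.simple s) = C.neg (C.simple s)) : w * C.refl s = C.refl s * w := by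
  have h1 : (C.refl s * w) (C.simple s) = C.simple s := by
    rw [Equiv.Perm.mul_apply, h, C.refl_simple_neg]
  have h2 := K.conj_refl (C.W.mul_mem (refl_mem s) hw) h1
  rw [mul_assoc] at h2
  exact mul_left_cancel h2

theorem fix_of_fix [Finite Φ] {w : Equiv.Perm Φ} (hw : w ∈ C.W) {s : I}
    (h : w (C.simple s) = C.neg (C.simple s)) {r : Φ} (hr : w r = r) : C.refl s r = r := by
  have h1 : w (C.refl s r) = C.refl s r := by
    have := congrArg (fun g : Equiv.Perm Φ => g r) (comm_refl K hw h)
    simp only [Equiv.Perm.mul_apply] at this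
    rw [this, hr]
  apply K.co_inj
  funext l
  have h2 := K.co_mul_refl hw s r l
  rw [h1, hr, h, K.co_neg, K.co_refl', K.co_simple] at h2
  rw [K.co_refl']
  split_ifs at h2 ⊢ with h3
  · omega
  · omega

/-- the measure decreases -/
theorem mu_lt [Finite Φ] {w : Equiv.Perm Φ} (hw : w ∈ C.W) {s : I}
    (h : w (C.simple s) = C.neg (C.simple s)) : mu (C.refl s * w) < mu w := by
  unfold mu
  apply Set.ncard_lt_ncard _ (Set.toFinite _)
  constructor
  · intro r hr hcon
    apply hr
    have hcon' : w r = r := hcon
    rw [Equiv.Perm.mul_apply, hcon']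
    exact fix_of_fix K hw h hcon'
  · intro hsub
    have h1 : C.simple s ∈ {r | w r ≠ r} := by
      simp only [Set.mem_ofPred_eq, h]
      intro h2
      have h3 := C.not_pos_neg _ (C.simple_pos s)
      rw [h2] at h3
      exact h3 (C.simple_pos s)
    have h2 := hsub h1
    simp only [Set.mem_ofPred_eq, Equiv.Perm.mul_apply, h, C.refl_simple_neg] at h2
    exact h2 rfl

omit K [Fintype I] [DecidableEq I] in
theorem sq_mul [Finite Φ] {w : Equiv.Perm Φ} (h2 : w * w = 1) {s : I}
    (h : w * C.refl s = C.refl s * w) : (C.refl s * w) * (C.refl s * w) = 1 := by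
  have : (C.refl s * w) * (C.refl s * w) = C.refl s * (w * C.refl s) * w := by simp only [mul_assoc]
  rw [this, h]
  have : C.refl s * (C.refl s * w) * w = (C.refl s * C.refl s) * (w * w) := by simp only [mul_assoc]
  rw [this, C.refl_mul_self, h2, mul_one]

/-- products of pairwise orthogonal simple reflections in coordinates -/
theorem co_orth (L : List I) (hnd : L.Nodup) (horth : ∀ i ∈ L, ∀ j ∈ L, i ≠ j → K.A i j = 0) (r : Φ)
    (l : I) : K.co (C.w L r) l = K.co r l - if l ∈ L then K.pair l r else 0 := by
  induction L generalizing l with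
  | nil => simp
  | cons j L ih =>
    have hj : j ∉ L := (List.nodup_cons.1 hnd).1
    have ih' := fun l => ih (List.nodup_cons.1 hnd).2
      (fun a ha b hb => horth a (by simp [ha]) b (by simp [hb])) l
    have hpair : K.pair j (C.w L r) = K.pair j r := by
      unfold CoordSys.pair
      refine Finset.sum_congr rfl fun k _ => ?_
      rw [ih' k]
      split_ifs with hk
      · have hne : j ≠ k := by rintro rfl; exact hj hk
        rw [horth j (by simp) k (by simp [hk]) hne]; ring
      · ring
    rw [RootComb.w_cons, Equiv.Perm.mul_apply, K.co_refl', hpair, ih' l]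
    by_cases hl : l = j
    · subst hl
      simp [hj]
    · simp [hl]

/-- an involution whose descents are inverted and pairwise orthogonal is the product of its descents -/
theorem orth_case [Finite Φ] {w : Equiv.Perm Φ} (hw : w ∈ C.W) (h2 : w * w = 1)
    (hdesc : ∀ s, ¬ C.pos (w (C.simple s)) → w (C.simple s) = C.neg (C.simple s))
    (horth : ∀ s s', ¬ C.pos (w (C.simple s)) → ¬ C.pos (w (C.simple s')) → s ≠ s' → K.A s s' = 0)
    {s₀ : I} (hs₀ : ¬ C.pos (w (C.simple s₀))) {r : Φ}
    (hr : ∀ s, ¬ C.pos (w (C.simple s)) → s ≠ s₀ → K.pair s r = 0) : w r = C.refl s₀ r := by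
  classical
  set J : Finset I := Finset.univ.filter (fun s => ¬ C.pos (w (C.simple s))) with hJ
  have hmem : ∀ s, s ∈ J.toList ↔ ¬ C.pos (w (C.simple s)) := by
    intro s; simp [hJ]
  have hco := co_orth K J.toList J.nodup_toList (fun i hi j hj hij =>
    horth i j ((hmem i).1 hi) ((hmem j).1 hj) hij)
  set v := w * C.w J.toList with hv
  have hvW : v ∈ C.W := C.W.mul_mem hw (C.w_mem _)
  have hpos : ∀ k, C.pos (v (C.simple k)) := by
    intro k
    rw [hv, Equiv.Perm.mul_apply]
    by_cases hk : ¬ C.pos (w (C.simple k))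
    · have e1 : C.w J.toList (C.simple k) = C.neg (C.simple k) := by
        apply K.co_inj
        funext l
        rw [hco, K.co_neg, K.co_simple, K.pair_simple]
        by_cases hl : l = k
        · subst hl
          rw [if_pos rfl, if_pos ((hmem l).2 hk), K.pair_self]; norm_num
        · rw [if_neg hl]
          by_cases hl' : l ∈ J.toList
          · rw [if_pos hl', horth l k ((hmem l).1 hl') hk hl]; simp
          · rw [if_neg hl']; simp
      rw [e1, C.W_neg hw, hdesc k hk, C.neg_neg]
      exact C.simple_pos k
    · have hk' : k ∉ J.toList := fun h => hk ((hmem k).1 h)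
      have hkp : C.pos (w (C.simple k)) := not_not.1 hk
      -- a coordinate outside `J`
      obtain ⟨l, hl, hl0⟩ : ∃ l, l ∉ J.toList ∧ K.co (w (C.simple k)) l ≠ 0 := by
        by_contra hcon
        push Not at hcon
        have h3 := K.co_of_mem hw (w (C.simple k)) k
        have h4 : w (w (C.simple k)) = C.simple k := by
          rw [← Equiv.Perm.mul_apply, h2]; rfl
        rw [h4, K.co_simple, if_pos rfl] at h3
        have h5 : ∑ m, K.co (w (C.simple k)) m * K.co (w (C.simple m)) k = 0 := by
          apply Finset.sum_eq_zero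
          intro m _
          by_cases hm : m ∈ J.toList
          · rw [hdesc m ((hmem m).1 hm), K.co_neg, K.co_simple, if_neg, neg_zero, mul_zero]
            rintro rfl; exact hk' hm
          · rw [hcon m hm, zero_mul]
        omega
      have hl1 : 0 < K.co (w (C.simple k)) l := lt_of_le_of_ne (K.pos_nonneg _ hkp l) (Ne.symm hl0)
      apply K.pos_of_co_pos (j := l)
      rw [K.co_of_mem hw]
      have h6 : ∑ m, K.co (C.w J.toList (C.simple k)) m * K.co (w (C.simple m)) l =
          ∑ m, (if m = k then K.co (w (C.simple m)) l else 0) := by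
        refine Finset.sum_congr rfl fun m _ => ?_
        rw [hco, K.co_simple]
        by_cases hm : m ∈ J.toList
        · have hmk : m ≠ k := by rintro rfl; exact hk' hm
          have hml : l ≠ m := by rintro rfl; exact hl hm
          rw [hdesc m ((hmem m).1 hm), K.co_neg, K.co_simple, if_neg hml, if_neg hmk, if_neg hmk]
          simp
        · rw [if_neg hm]
          by_cases hmk : m = k
          · rw [if_pos hmk, if_pos hmk]; ring
          · rw [if_neg hmk, if_neg hmk]; ring
      rw [h6, Finset.sum_ite_eq' Finset.univ k]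
      simpa using hl1
  have hv1 : v = 1 := by
    apply K.eq_one_of_len_zero hvW
    by_contra hne
    obtain ⟨i, hi⟩ := K.exists_right_descent hvW hne
    exact hi (hpos i)
  have hw' : w = C.w J.toList := by
    have h3 : w⁻¹ = C.w J.toList := by
      rw [inv_eq_iff_mul_eq_one]; exact hv1
    rw [← h3]; exact (inv_eq_of_mul_eq_one_left h2).symm
  apply K.co_inj
  funext l
  have h4 : K.co (w r) l = K.co (C.w J.toList r) l := by rw [← hw']
  rw [h4, hco, K.co_refl']
  by_cases hl : l = s₀
  · subst hl
    rw [if_pos ((hmem l).2 hs₀), if_pos rfl]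
  · rw [if_neg hl]
    by_cases hl' : l ∈ J.toList
    · rw [if_pos hl', hr l ((hmem l).1 hl') hl]
    · rw [if_neg hl']

end H42.InvW
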