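import Cfsg.Agent.Lib.H42.InvSL
import Cfsg.Agent.Lib.H42.InvN
import Cfsg.Agent.Lib.H42.InvW
import Cfsg.Agent.Lib.H47.RootCentCk
import Cfsg.Agent.Lib.H23.ChevH2

/-!
Involutions of the monomial group of a Chevalley group over a finite field of odd order
are conjugate into the torus.
-/

set_option autoImplicit false
set_option linter.unusedSectionVars false

namespace H42.InvH

open H22.RGD H22.Coord H22.RCCheck H22.RCComb H22.ChevTri H22.ChevRel H22.ChevSys H22.ChevMain
open H22.ChevStd H22.ChevUni H42.InvW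
open H23.SL2Hom (xm ym)
open Cfsg.Lie (ChevalleyDatum)
open scoped MatrixGroups Matrix

variable {D : ChevalleyDatum} {F : Type*} [Field F]

/-- rank one homomorphisms -/
structure SLH (R : Rel D F) where
  φ : Fin D.rank → (Matrix.SpecialLinearGroup (Fin 2) F →* GL D.Idx F)
  hx : ∀ i t, φ i (xm t) = xg R (D.simple i) t
  hy : ∀ i t, φ i (ym t) = xg R (D.neg (D.simple i)) t

theorem exists_SLH (R : Rel D F) (C : H23.ChevCore.Core D) (Q : RC D) : Nonempty (SLH R) := by
  have h : ∀ i : Fin D.rank, ∃ φ : Matrix.SpecialLinearGroup (Fin 2) F →* GL D.Idx F,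
      (∀ t, φ (xm t) = xg R (D.simple i) t) ∧ ∀ t, φ (ym t) = xg R (D.neg (D.simple i)) t := by
    intro i
    obtain ⟨φ, _, h⟩ := H23.ChevH2.sl2_hom (F := F) C (Q.simple_lt i i.2)
    exact ⟨φ, fun t => xg_eq R ((h (xm t) t).1 rfl), fun t => xg_eq R ((h (ym t) t).2 rfl)⟩
  choose φ h1 h2 using h
  exact ⟨⟨φ, h1, h2⟩⟩

variable {R : Rel D F} {X : RCX D} (E : SLH R)

theorem SLH.mem (i : Fin D.rank) (A : Matrix.SpecialLinearGroup (Fin 2) F) (Q : RC D) :
    E.φ i A ∈ D.group F := by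
  have hA : A ∈ Subgroup.closure (Set.range (xm (F := F)) ∪ Set.range ym) := by
    rw [H42.InvSL.closure_xy]; trivial
  induction hA using Subgroup.closure_induction with
  | mem x hx =>
    rcases hx with ⟨u, rfl⟩ | ⟨u, rfl⟩
    · rw [E.hx]; exact rootSubgroup_le_group R (Q.simple_lt i i.2) (xg_mem R _ _)
    · rw [E.hy]; exact rootSubgroup_le_group R (neg_lt Q (Q.simple_lt i i.2)) (xg_mem R _ _)
  | one => rw [map_one]; exact (D.group F).one_mem
  | mul x y _ _ hx hy => rw [map_mul]; exact (D.group F).mul_mem hx hy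
  | inv x _ hx => rw [map_inv]; exact (D.group F).inv_mem hx

theorem SLH.hN (i : Fin D.rank) (e : F) : E.φ i (H23.SL2Hom.N xm ym e) = ng R (D.simple i) e := by
  unfold H23.SL2Hom.N
  rw [map_mul, map_mul, E.hx, E.hy, ng_def]

theorem SLH.hH (i : Fin D.rank) (e : F) : E.φ i (H23.SL2Hom.H xm ym e) = hs R (i : ℕ) e := by
  unfold H23.SL2Hom.H hs
  rw [map_mul, E.hN, E.hN, hg_def]

/-- the constants of an involution inverting a simple root -/
theorem exists_c {t : GL D.Idx F} {w : Equiv.Perm (Fin D.nroots)} (hn : (chevSys R X).Rep t w)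
    {s : Fin D.rank} (hws : w ((comb X).simple s) = (comb X).neg ((comb X).simple s))
    (h2 : t * t = 1) : ∃ c : F, c ≠ 0 ∧
      (∀ u, t * xg R (D.simple s) u * t⁻¹ = xg R (D.neg (D.simple s)) (c * u)) ∧
      (∀ u, t * xg R (D.neg (D.simple s)) u * t⁻¹ = xg R (D.simple s) (c⁻¹ * u)) := by
  obtain ⟨ε, h0, h1⟩ := H47.RootCent.Hyp.exists_eps hn
  have hw' : w ((comb X).neg ((comb X).simple s)) = (comb X).simple s := by
    rw [hn.neg, hws, (comb X).neg_neg]
  have e1 : ∀ u, t * xg R (D.simple s) u * t⁻¹ =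
      xg R (D.neg (D.simple s)) (ε ((comb X).simple s) * u) := by
    intro u
    have := h1 ((comb X).simple s) u
    rw [hws] at this
    exact this
  have e2 : ∀ u, t * xg R (D.neg (D.simple s)) u * t⁻¹ =
      xg R (D.simple s) (ε ((comb X).neg ((comb X).simple s)) * u) := by
    intro u
    have := h1 ((comb X).neg ((comb X).simple s)) u
    rw [hw'] at this
    exact this
  have e3 : ε ((comb X).neg ((comb X).simple s)) = (ε ((comb X).simple s))⁻¹ := by
    have h3 : t * (t * xg R (D.simple s) 1 * t⁻¹) * t⁻¹ = xg R (D.simple s) 1 := by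
      have : t⁻¹ = t := inv_eq_of_mul_eq_one_left h2
      rw [this]
      calc t * (t * xg R (D.simple s) 1 * t) * t = (t * t) * xg R (D.simple s) 1 * (t * t) := by
            simp only [mul_assoc]
        _ = _ := by rw [h2]; simp
    rw [e1, e2, mul_one] at h3
    have h4 := xg_inj R X.rc (X.rc.simple_lt s s.2) h3
    exact eq_inv_of_mul_eq_one_left h4
  exact ⟨ε ((comb X).simple s), h0 _, e1, by rw [← e3]; exact e2⟩

theorem mem_Γ {g : GL D.Idx F} (hg : g ∈ D.group F) : g ∈ (chevSys R X).Γ := by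
  rw [chevSys_Γ]; exact hg

theorem rep_ng (i : Fin D.rank) {e : F} (he : e ≠ 0) :
    (chevSys R X).Rep (ng R (D.simple i) e) ((comb X).refl i) := by
  obtain ⟨h, hh, h1⟩ := ng_eq_ns_mul R X i he
  rw [h1]
  have h2 : h ∈ (chevSys R X).H := by rw [chevSys_H, diagonalSubgroup_eq R X]; exact hh
  have := ((chevSys R X).rep_n i).mul ((chevSys R X).rep_H h2)
  rwa [mul_one] at this

include E in
/-- the square case -/
theorem stepC (h2F : (2 : F) ≠ 0) {t : GL D.Idx F} {w : Equiv.Perm (Fin D.nroots)}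
    (hn : (chevSys R X).Rep t w) {s : Fin D.rank} {c : F} (hc : c ≠ 0)
    (h1 : ∀ u, t * xg R (D.simple s) u * t⁻¹ = xg R (D.neg (D.simple s)) (c * u))
    (h2 : ∀ u, t * xg R (D.neg (D.simple s)) u * t⁻¹ = xg R (D.simple s) (c⁻¹ * u))
    (hsq : IsSquare c) :
    ∃ g ∈ D.group F, (chevSys R X).Rep (g * t * g⁻¹) ((comb X).refl s * w) := by
  obtain ⟨e, he⟩ := hsq
  have he' : c = e ^ 2 := by rw [he, sq]
  have he0 : e ≠ 0 := by rintro rfl; exact hc (by rw [he]; simp)
  obtain ⟨A, hA⟩ := H42.InvSL.lemC (E.φ s) h2F hc (t := t) (by simpa [E.hx, E.hy] using h1)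
    (by simpa [E.hx, E.hy] using h2) he'
  refine ⟨E.φ s A, E.mem s A X.rc, ?_⟩
  rw [hA, E.hN]
  exact (rep_ng s (inv_ne_zero he0)).mul hn

include E in
/-- scaling -/
theorem stepB [Fintype F] (h2F : (2 : F) ≠ 0) {t : GL D.Idx F} {s : Fin D.rank} {c : F} (hc : c ≠ 0)
    (h1 : ∀ u, t * xg R (D.simple s) u * t⁻¹ = xg R (D.neg (D.simple s)) (c * u))
    (h2 : ∀ u, t * xg R (D.neg (D.simple s)) u * t⁻¹ = xg R (D.simple s) (c⁻¹ * u))
    {l : F} (hl : l ≠ 0) (Q : RC D) :
    ∃ g ∈ D.group F, g * t * g⁻¹ = hs R (s : ℕ) l * t := by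
  obtain ⟨A, hA⟩ := H42.InvSL.lemB (E.φ s) h2F hc (t := t) (by simpa [E.hx, E.hy] using h1)
    (by simpa [E.hx, E.hy] using h2) hl
  refine ⟨E.φ s A, E.mem s A Q, ?_⟩
  rw [hA, E.hH]

/-- combinatorial conditions -/
structure CK (D : ChevalleyDatum) : Prop where
  par : ∀ i j : Fin D.rank, i ≠ j → Even (D.cartan i (D.simple j)) → Even (D.cartan j (D.simple i)) →
    D.cartan i (D.simple j) = 0
  ind : ∀ J : Fin D.rank → Bool, (∃ i, J i = true) →
    (∀ i j, J i = true → J j = true → i ≠ j → D.cartan i (D.simple j) = 0) →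
    ∃ s, J s = true ∧ ∃ r : Fin D.nroots, Odd (D.cartan s r) ∧
      ∀ j, J j = true → j ≠ s → D.cartan j r = 0
  nbr : ∀ r : Fin D.nroots, ∃ i : Fin D.rank, Odd (D.cartan i r)

theorem isSquare_zpow_even {c : F} {n : ℤ} (hn : Even n) : IsSquare (c ^ n) := by
  obtain ⟨m, rfl⟩ := hn
  by_cases hc : c = 0
  · subst hc
    by_cases hm : m = 0
    · subst hm; exact ⟨1, by simp⟩
    · exact ⟨0, by rw [zero_zpow _ (by omega)]; simp⟩
  · exact ⟨c ^ m, by rw [← zpow_add₀ hc]⟩

include E in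
/-- the third case: `c` is a square -/
theorem caseC {t : GL D.Idx F} {w : Equiv.Perm (Fin D.nroots)} (ht2 : t * t = 1)
    (hn : (chevSys R X).Rep t w) {s : Fin D.rank} {c : F} (hc : c ≠ 0)
    (h1 : ∀ u, t * xg R (D.simple s) u * t⁻¹ = xg R (D.neg (D.simple s)) (c * u))
    (h2 : ∀ u, t * xg R (D.neg (D.simple s)) u * t⁻¹ = xg R (D.simple s) (c⁻¹ * u))
    {r : Fin D.nroots} (hr : w r = (comb X).refl s r) (hodd : Odd (D.cartan s r)) : IsSquare c := by
  have hsq := H42.InvSL.sq_y (E.φ s) ht2 hc (by simpa [E.hx, E.hy] using h1)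
    (by simpa [E.hx, E.hy] using h2)
  rw [E.hN, E.hH] at hsq
  set y := (ng R (D.simple s) (1 : F))⁻¹ * t with hy
  have hrep : (chevSys R X).Rep y ((comb X).refl s * w) := by
    have := (rep_ng (R := R) (X := X) s (one_ne_zero (α := F))).inv.mul hn
    rwa [RootComb.refl_inv] at this
  obtain ⟨ε, h0, h3⟩ := H47.RootCent.Hyp.exists_eps hrep
  have hfix : ((comb X).refl s * w) r = r := by
    rw [Equiv.Perm.mul_apply, hr, ← Equiv.Perm.mul_apply, (comb X).refl_mul_self]; rfl
  have h4 : ∀ u, y * xg R r u * y⁻¹ = xg R r (ε r * u) := by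
    intro u
    have := h3 r u
    rwa [hfix] at this
  have h5 : (y * y) * xg R r 1 * (y * y)⁻¹ = xg R r (ε r * (ε r * 1)) := by
    rw [← h4, ← h4]; group
  rw [hsq, hs_conj R s.2 hc r.2 X.rc] at h5
  have h6 := xg_inj R X.rc r.2 h5
  obtain ⟨m, hm⟩ := hodd
  rw [hm, zpow_add₀ hc, zpow_one, mul_one, mul_one] at h6
  have h7 : c = ε r * ε r * c ^ (-(2 * m)) := by
    rw [← h6, mul_comm _ c, mul_assoc, ← zpow_add₀ hc]
    simp
  rw [h7]
  exact IsSquare.mul ⟨ε r, rfl⟩ (isSquare_zpow_even (Even.neg (even_two_mul m)))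

include E in
/-- involutions of the monomial group are conjugate into the torus -/
theorem to_H [Fintype F] (h2F : (2 : F) ≠ 0) (K : CK D) :
    ∀ (n : ℕ) (t : GL D.Idx F) (w : Equiv.Perm (Fin D.nroots)), (chevSys R X).Rep t w → t * t = 1 →
      mu w = n → ∃ g ∈ D.group F, g * t * g⁻¹ ∈ (chevSys R X).H := by
  classical
  intro n
  induction n using Nat.strong_induction_on with
  | _ n ih =>
    intro t₀ w₀ hn₀ ht₀ hmu₀
    -- normalise
    have hw₀ : w₀ * w₀ = 1 := by
      have h1 := hn₀.mul hn₀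
      rw [ht₀] at h1
      have h2 := (chevSys R X).rep_H (chevSys R X).H.one_mem
      exact h1.unique h2
    obtain ⟨v, hv, hdesc⟩ := exists_min_conj hn₀.2.1 hw₀
    obtain ⟨mv, hmv⟩ := (chevSys R X).exists_rep' hv
    set w := v * w₀ * v⁻¹ with hwdef
    set t := mv * t₀ * mv⁻¹ with htdef
    have hmvg : mv ∈ D.group F := by
      rw [← chevSys_Γ R X]; exact (chevSys R X).N_le_Γ hmv.1
    have hn : (chevSys R X).Rep t w := (hmv.mul hn₀).mul hmv.inv
    have ht : t * t = 1 := by
      have : t * t = mv * (t₀ * t₀) * mv⁻¹ := by rw [htdef]; group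
      rw [this, ht₀]; simp
    have hw2 : w * w = 1 := by
      have : w * w = v * (w₀ * w₀) * v⁻¹ := by rw [hwdef]; group
      rw [this, hw₀]; simp
    have hmu : mu w = n := by rw [hwdef, mu_conj, hmu₀]
    -- it suffices to treat `t`
    suffices hsuff : ∃ g ∈ D.group F, g * t * g⁻¹ ∈ (chevSys R X).H by
      obtain ⟨g, hg, hgt⟩ := hsuff
      refine ⟨g * mv, (D.group F).mul_mem hg hmvg, ?_⟩
      have : g * mv * t₀ * (g * mv)⁻¹ = g * t * g⁻¹ := by rw [htdef]; group
      rw [this]; exact hgt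
    have hW : w ∈ (comb X).W := hn.2.1
    -- the square case, for any conjugate with the same Weyl group element
    have step : ∀ (t' : GL D.Idx F), (chevSys R X).Rep t' w → t' * t' = 1 → ∀ (s : Fin D.rank) (c : F), c ≠ 0 →
        w ((comb X).simple s) = (comb X).neg ((comb X).simple s) →
        (∀ u, t' * xg R (D.simple s) u * t'⁻¹ = xg R (D.neg (D.simple s)) (c * u)) →
        (∀ u, t' * xg R (D.neg (D.simple s)) u * t'⁻¹ = xg R (D.simple s) (c⁻¹ * u)) → IsSquare c →
        ∃ g ∈ D.group F, g * t' * g⁻¹ ∈ (chevSys R X).H := by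
      intro t' hn' ht' s c hc hws h1 h2 hsq
      obtain ⟨g, hg, hgr⟩ := stepC E h2F hn' hc h1 h2 hsq
      have hlt := mu_lt (coord X) hW hws
      obtain ⟨g', hg', hgt'⟩ := ih (mu ((comb X).refl s * w)) (by omega) (g * t' * g⁻¹) _ hgr (by
        have : g * t' * g⁻¹ * (g * t' * g⁻¹) = g * (t' * t') * g⁻¹ := by group
        rw [this, ht']; simp) rfl
      refine ⟨g' * g, (D.group F).mul_mem hg' hg, ?_⟩
      have : g' * g * t' * (g' * g)⁻¹ = g' * (g * t' * g⁻¹) * g'⁻¹ := by group
      rw [this]; exact hgt'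
    by_cases hex : ∀ s, (comb X).pos (w ((comb X).simple s))
    · refine ⟨1, (D.group F).one_mem, ?_⟩
      rw [one_mul, inv_one, mul_one]
      have hw1 : w = 1 := by
        apply (coord X).eq_one_of_len_zero hW
        by_contra hne
        obtain ⟨i, hi⟩ := (coord X).exists_right_descent hW hne
        exact hi (hex i)
      rw [hw1] at hn
      exact (chevSys R X).mem_H_of_rep_one hn
    push Not at hex
    obtain ⟨s₀, hs₀⟩ := hex
    -- constants
    have hcs : ∀ s : Fin D.rank, ∃ c : F, ¬ (comb X).pos (w ((comb X).simple s)) → c ≠ 0 ∧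
        (∀ u, t * xg R (D.simple s) u * t⁻¹ = xg R (D.neg (D.simple s)) (c * u)) ∧
        (∀ u, t * xg R (D.neg (D.simple s)) u * t⁻¹ = xg R (D.simple s) (c⁻¹ * u)) := by
      intro s
      by_cases hs : (comb X).pos (w ((comb X).simple s))
      · exact ⟨1, fun h => absurd hs h⟩
      · obtain ⟨c, hc⟩ := exists_c (R := R) (X := X) hn (hdesc s hs) ht
        exact ⟨c, fun _ => hc⟩
    choose c hc using hcs
    by_cases hb : ∃ s s', ¬ (comb X).pos (w ((comb X).simple s)) ∧
        ¬ (comb X).pos (w ((comb X).simple s')) ∧ s ≠ s' ∧ Odd (D.cartan s (D.simple s'))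
    · obtain ⟨s, s', hps, hps', hne, hodd⟩ := hb
      obtain ⟨c0, c1, c2⟩ := hc s hps
      obtain ⟨d0, d1, d2⟩ := hc s' hps'
      obtain ⟨g, hg, hgt⟩ := stepB E h2F c0 c1 c2 d0 X.rc
      -- `t' = h_s(d) t`
      have hhs : hs R (s : ℕ) (c s') ∈ (chevSys R X).H := by
        rw [chevSys_H, diagonalSubgroup_eq R X]; exact hs_mem R s.2 d0
      have hn' : (chevSys R X).Rep (g * t * g⁻¹) w := by
        rw [hgt]
        have := ((chevSys R X).rep_H hhs).mul hn
        rwa [one_mul] at this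
      have ht' : g * t * g⁻¹ * (g * t * g⁻¹) = 1 := by
        have : g * t * g⁻¹ * (g * t * g⁻¹) = g * (t * t) * g⁻¹ := by group
        rw [this, ht]; simp
      obtain ⟨e, he0, he1, he2⟩ := exists_c (R := R) (X := X) hn' (hdesc s' hps') ht'
      have hesq : IsSquare e := by
        have h3 := he1 1
        rw [hgt] at h3
        have h4 : hs R (s : ℕ) (c s') * t * xg R (D.simple s') 1 * (hs R (s : ℕ) (c s') * t)⁻¹ =
            hs R (s : ℕ) (c s') * (t * xg R (D.simple s') 1 * t⁻¹) * (hs R (s : ℕ) (c s'))⁻¹ := by group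
        rw [h4, d1, hs_conj R s.2 d0 (neg_lt X.rc (X.rc.simple_lt s' s'.2)) X.rc] at h3
        have h5 := xg_inj R X.rc (neg_lt X.rc (X.rc.simple_lt s' s'.2)) h3
        rw [mul_one, mul_one, cartan_neg X.rc s.2 (X.rc.simple_lt s' s'.2)] at h5
        rw [← h5]
        have h6 : c s' ^ (-D.cartan s (D.simple s')) * c s' = c s' ^ (-D.cartan s (D.simple s') + 1) := by
          rw [zpow_add₀ d0, zpow_one]
        rw [h6]
        apply isSquare_zpow_even
        obtain ⟨m, hm⟩ := hodd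
        exact ⟨-m, by rw [hm]; ring⟩
      obtain ⟨g', hg', hgt'⟩ := step (g * t * g⁻¹) hn' ht' s' e he0 (hdesc s' hps') he1 he2 hesq
      refine ⟨g' * g, (D.group F).mul_mem hg' hg, ?_⟩
      have : g' * g * t * (g' * g)⁻¹ = g' * (g * t * g⁻¹) * g'⁻¹ := by group
      rw [this]; exact hgt'
    · push Not at hb
      have horth : ∀ s s', ¬ (comb X).pos (w ((comb X).simple s)) →
          ¬ (comb X).pos (w ((comb X).simple s')) → s ≠ s' → D.cartan s (D.simple s') = 0 := by
        intro s s' hs hs' hne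
        exact K.par s s' hne (Int.not_odd_iff_even.1 (hb s s' hs hs' hne))
          (Int.not_odd_iff_even.1 (hb s' s hs' hs hne.symm))
      obtain ⟨s, hs, r, hr, hrj⟩ := K.ind (fun s => decide (¬ (comb X).pos (w ((comb X).simple s))))
        ⟨s₀, by simpa using hs₀⟩ (fun i j hi hj hij => horth i j (by simpa using hi) (by simpa using hj) hij)
      have hs' : ¬ (comb X).pos (w ((comb X).simple s)) := by simpa using hs
      obtain ⟨c0, c1, c2⟩ := hc s hs'
      have hwr : w r = (comb X).refl s r := by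
        apply orth_case (coord X) hW hw2 hdesc _ hs'
        · intro j hj hjs
          rw [H47.RootCent.pair_eq]
          exact hrj j (by simpa using hj) hjs
        · intro a b ha hb' hab
          have := horth a b ha hb' hab
          rw [cartan_simple X.rc a.2 b.2] at this
          exact this
      exact step t hn ht s (c s) c0 (hdesc s hs') c1 c2 (caseC E ht hn c0 c1 c2 hwr hr)

end H42.InvH
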