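import Mathlib
import Cfsg.Agent.Lib.H23.SL2Hom

/-!
Elements acting on `SL(2, F)` like an antidiagonal matrix.
-/

set_option autoImplicit false
set_option linter.unusedSimpArgs false
set_option linter.unusedTactic false
set_option linter.unreachableTactic false

namespace H42.InvSL

open Matrix H23.SL2Hom

variable {F : Type*} [Field F] {G : Type*} [Group G]

/-- conjugation by the antidiagonal matrix with entries `1`, `c` -/
def cjF {c : F} (hc : c ≠ 0) (A : SpecialLinearGroup (Fin 2) F) : SpecialLinearGroup (Fin 2) F :=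
  ⟨!![A 1 1, A 1 0 / c; c * A 0 1, A 0 0], by
    have h := A.2
    rw [Matrix.det_fin_two] at h ⊢
    simp only [Matrix.of_apply, Matrix.cons_val', Matrix.cons_val_zero, Matrix.cons_val_one,
      Matrix.cons_val_fin_one]
    field_simp
    linear_combination h⟩

theorem cjF00 {c : F} (hc : c ≠ 0) (A : SpecialLinearGroup (Fin 2) F) : cjF hc A 0 0 = A 1 1 := rfl
theorem cjF01 {c : F} (hc : c ≠ 0) (A : SpecialLinearGroup (Fin 2) F) : cjF hc A 0 1 = A 1 0 / c := rfl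
theorem cjF10 {c : F} (hc : c ≠ 0) (A : SpecialLinearGroup (Fin 2) F) : cjF hc A 1 0 = c * A 0 1 := rfl
theorem cjF11 {c : F} (hc : c ≠ 0) (A : SpecialLinearGroup (Fin 2) F) : cjF hc A 1 1 = A 0 0 := rfl

/-- conjugation by the antidiagonal matrix with entries `1`, `c` -/
def cjM {c : F} (hc : c ≠ 0) : SpecialLinearGroup (Fin 2) F →* SpecialLinearGroup (Fin 2) F where
  toFun A := cjF hc A
  map_one' := by
    ext i j
    fin_cases i <;> fin_cases j <;> simp [cjF00, cjF01, cjF10, cjF11]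
  map_mul' A B := by
    ext i j
    rw [mul_e]
    fin_cases i <;> fin_cases j
    · simp only [Fin.zero_eta, Fin.isValue, cjF00, cjF01, cjF10, cjF11, mul_e]
      field_simp; ring
    · simp only [Fin.zero_eta, Fin.isValue, Fin.mk_one, cjF00, cjF01, cjF10, cjF11, mul_e]
      field_simp; ring
    · simp only [Fin.zero_eta, Fin.isValue, Fin.mk_one, cjF00, cjF01, cjF10, cjF11, mul_e]
      ring
    · simp only [Fin.zero_eta, Fin.isValue, Fin.mk_one, cjF00, cjF01, cjF10, cjF11, mul_e]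
      field_simp; ring

theorem cjM00 {c : F} (hc : c ≠ 0) (A : SpecialLinearGroup (Fin 2) F) : cjM hc A 0 0 = A 1 1 := rfl
theorem cjM01 {c : F} (hc : c ≠ 0) (A : SpecialLinearGroup (Fin 2) F) : cjM hc A 0 1 = A 1 0 / c := rfl
theorem cjM10 {c : F} (hc : c ≠ 0) (A : SpecialLinearGroup (Fin 2) F) : cjM hc A 1 0 = c * A 0 1 := rfl
theorem cjM11 {c : F} (hc : c ≠ 0) (A : SpecialLinearGroup (Fin 2) F) : cjM hc A 1 1 = A 0 0 := rfl

theorem cjM_xm {c : F} (hc : c ≠ 0) (u : F) : cjM hc (xm u) = ym (c * u) := by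
  ext i j
  fin_cases i <;> fin_cases j <;>
    simp [cjM00, cjM01, cjM10, cjM11, xm00, xm01, xm10, xm11, ym00, ym01, ym10, ym11]

theorem cjM_ym {c : F} (hc : c ≠ 0) (u : F) : cjM hc (ym u) = xm (c⁻¹ * u) := by
  ext i j
  fin_cases i <;> fin_cases j <;>
    simp [cjM00, cjM01, cjM10, cjM11, xm00, xm01, xm10, xm11, ym00, ym01, ym10, ym11]
  field_simp

theorem closure_xy : Subgroup.closure (Set.range (xm (F := F)) ∪ Set.range ym) = ⊤ := by
  rw [eq_top_iff]
  intro g _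
  have hX : ∀ t : F, xm t ∈ Subgroup.closure (Set.range (xm (F := F)) ∪ Set.range ym) := fun t =>
    Subgroup.subset_closure (Or.inl ⟨t, rfl⟩)
  have hY : ∀ t : F, ym t ∈ Subgroup.closure (Set.range (xm (F := F)) ∪ Set.range ym) := fun t =>
    Subgroup.subset_closure (Or.inr ⟨t, rfl⟩)
  have hN : ∀ t : F, N xm ym t ∈ Subgroup.closure (Set.range (xm (F := F)) ∪ Set.range ym) := fun t =>
    mul_mem (mul_mem (hX _) (hY _)) (hX _)
  rw [← Phi_self g]
  unfold Phi
  split_ifs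
  · exact mul_mem (hX _) (mul_mem (hN _) (hN _))
  · exact mul_mem (mul_mem (hX _) (hN _)) (hX _)

variable (φ : SpecialLinearGroup (Fin 2) F →* G) {t : G} {c : F}

theorem conj_φ (hc : c ≠ 0) (h1 : ∀ u, t * φ (xm u) * t⁻¹ = φ (ym (c * u)))
    (h2 : ∀ u, t * φ (ym u) * t⁻¹ = φ (xm (c⁻¹ * u))) (A : SpecialLinearGroup (Fin 2) F) :
    t * φ A * t⁻¹ = φ (cjM hc A) := by
  have hA : A ∈ Subgroup.closure (Set.range (xm (F := F)) ∪ Set.range ym) := by
    rw [closure_xy]; trivial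
  induction hA using Subgroup.closure_induction with
  | mem x hx =>
    rcases hx with ⟨u, rfl⟩ | ⟨u, rfl⟩
    · rw [h1, cjM_xm]
    · rw [h2, cjM_ym]
  | one => simp
  | mul x y _ _ hx hy =>
    rw [map_mul, map_mul, map_mul, ← hx, ← hy]; group
  | inv x _ hx =>
    rw [map_inv, map_inv, map_inv, ← hx]; group

theorem conj_t (hc : c ≠ 0) (h1 : ∀ u, t * φ (xm u) * t⁻¹ = φ (ym (c * u)))
    (h2 : ∀ u, t * φ (ym u) * t⁻¹ = φ (xm (c⁻¹ * u))) (A : SpecialLinearGroup (Fin 2) F) :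
    φ A * t * (φ A)⁻¹ = φ (A * cjM hc A⁻¹) * t := by
  rw [map_mul, ← conj_φ φ hc h1 h2, map_inv]; group

theorem e_inv (A : SpecialLinearGroup (Fin 2) F) : A⁻¹ 0 0 = A 1 1 ∧ A⁻¹ 0 1 = - A 0 1 ∧
    A⁻¹ 1 0 = - A 1 0 ∧ A⁻¹ 1 1 = A 0 0 := by
  have h : ((A⁻¹ : SpecialLinearGroup (Fin 2) F) : Matrix (Fin 2) (Fin 2) F) = adjugate A :=
    Matrix.SpecialLinearGroup.coe_inv A
  have h' : ∀ i j, A⁻¹ i j = adjugate (A : Matrix (Fin 2) (Fin 2) F) i j := fun i j =>
    congrFun (congrFun h i) j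
  simp only [h', Matrix.adjugate_fin_two]
  simp

/-- scaling by an arbitrary torus element -/
theorem lemB [Fintype F] (h2F : (2 : F) ≠ 0) (hc : c ≠ 0)
    (h1 : ∀ u, t * φ (xm u) * t⁻¹ = φ (ym (c * u)))
    (h2 : ∀ u, t * φ (ym u) * t⁻¹ = φ (xm (c⁻¹ * u))) {l : F} (hl : l ≠ 0) :
    ∃ A, φ A * t * (φ A)⁻¹ = φ (H xm ym l) * t := by
  classical
  obtain ⟨x, y, hxy⟩ : ∃ x y : F, x ^ 2 - c * y ^ 2 = l := by
    have hodd : Fintype.card F % 2 = 1 := by
      have : ringChar F ≠ 2 := by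
        intro h
        apply h2F
        have := ringChar.Nat.cast_ringChar (R := F)
        rw [h] at this
        exact_mod_cast this
      exact FiniteField.odd_card_of_char_ne_two this
    obtain ⟨x, y, h⟩ := FiniteField.exists_root_sum_quadratic
      (f := Polynomial.X ^ 2) (g := -Polynomial.C c * Polynomial.X ^ 2 - Polynomial.C l)
      (by simp) (by
        have e : (-Polynomial.C c * Polynomial.X ^ 2 - Polynomial.C l : Polynomial F) =
          Polynomial.C (-c) * Polynomial.X ^ 2 + Polynomial.C 0 * Polynomial.X + Polynomial.C (-l) := by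
          simp; ring
        rw [e]
        exact Polynomial.degree_quadratic (neg_ne_zero.2 hc)) hodd
    refine ⟨x, y, ?_⟩
    simp at h
    linear_combination h
  let A : SpecialLinearGroup (Fin 2) F := ⟨!![x, y; c * y / l, x / l], by
    rw [Matrix.det_fin_two]
    simp only [Matrix.of_apply, Matrix.cons_val', Matrix.cons_val_zero, Matrix.cons_val_one,
      Matrix.cons_val_fin_one]
    field_simp
    linear_combination hxy⟩
  have a00 : A 0 0 = x := rfl
  have a01 : A 0 1 = y := rfl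
  have a10 : A 1 0 = c * y / l := rfl
  have a11 : A 1 1 = x / l := rfl
  refine ⟨A, ?_⟩
  rw [conj_t φ hc h1 h2]
  congr 2
  obtain ⟨k1, k2, k3, k4⟩ := eH hl
  obtain ⟨i1, i2, i3, i4⟩ := e_inv A
  ext i j
  rw [mul_e]
  fin_cases i <;> fin_cases j
  · simp only [Fin.zero_eta, Fin.isValue, cjM00, cjM10, k1, i4, i2, a00, a01, a10, a11]
    linear_combination hxy
  · simp only [Fin.zero_eta, Fin.isValue, Fin.mk_one, cjM01, cjM11, k2, i3, i1, a00, a01, a10, a11]
    field_simp; ring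
  · simp only [Fin.zero_eta, Fin.isValue, Fin.mk_one, cjM00, cjM10, k3, i4, i2, a00, a01, a10, a11]
    field_simp; ring
  · simp only [Fin.zero_eta, Fin.isValue, Fin.mk_one, cjM01, cjM11, k4, i3, i1, a00, a01, a10, a11]
    field_simp; linear_combination hxy

/-- if `c` is a square, `t` is conjugate to the product with a Weyl element -/
theorem lemC (h2F : (2 : F) ≠ 0) (hc : c ≠ 0)
    (h1 : ∀ u, t * φ (xm u) * t⁻¹ = φ (ym (c * u)))
    (h2 : ∀ u, t * φ (ym u) * t⁻¹ = φ (xm (c⁻¹ * u))) {e : F} (he : c = e ^ 2) :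
    ∃ A, φ A * t * (φ A)⁻¹ = φ (N xm ym e⁻¹) * t := by
  have he0 : e ≠ 0 := by rintro rfl; exact hc (by rw [he]; simp)
  let A : SpecialLinearGroup (Fin 2) F := ⟨!![e, 1; -1 / 2, 1 / (2 * e)], by
    rw [Matrix.det_fin_two]
    simp only [Matrix.of_apply, Matrix.cons_val', Matrix.cons_val_zero, Matrix.cons_val_one,
      Matrix.cons_val_fin_one]
    field_simp; ring⟩
  have a00 : A 0 0 = e := rfl
  have a01 : A 0 1 = 1 := rfl
  have a10 : A 1 0 = -1 / 2 := rfl
  have a11 : A 1 1 = 1 / (2 * e) := rfl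
  refine ⟨A, ?_⟩
  rw [conj_t φ hc h1 h2]
  congr 2
  obtain ⟨k1, k2, k3, k4⟩ := eN (inv_ne_zero he0)
  obtain ⟨i1, i2, i3, i4⟩ := e_inv A
  ext i j
  rw [mul_e]
  fin_cases i <;> fin_cases j
  · simp only [Fin.zero_eta, Fin.isValue, cjM00, cjM10, k1, i4, i2, a00, a01, a10, a11]
    rw [he]; ring
  · simp only [Fin.zero_eta, Fin.isValue, Fin.mk_one, cjM01, cjM11, k2, i3, i1, a00, a01, a10, a11, he]
    field_simp; ring
  · simp only [Fin.zero_eta, Fin.isValue, Fin.mk_one, cjM00, cjM10, k3, i4, i2, a00, a01, a10, a11, he]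
    field_simp; ring
  · simp only [Fin.zero_eta, Fin.isValue, Fin.mk_one, cjM01, cjM11, k4, i3, i1, a00, a01, a10, a11, he]
    field_simp; ring

/-- the square of `n⁻¹ t` -/
theorem sq_y (ht : t * t = 1) (hc : c ≠ 0)
    (h1 : ∀ u, t * φ (xm u) * t⁻¹ = φ (ym (c * u)))
    (h2 : ∀ u, t * φ (ym u) * t⁻¹ = φ (xm (c⁻¹ * u))) :
    (φ (N xm ym 1))⁻¹ * t * ((φ (N xm ym 1))⁻¹ * t) = φ (H xm ym c) := by
  have e : (φ (N xm ym 1))⁻¹ * t * ((φ (N xm ym 1))⁻¹ * t) =
      (φ (N xm ym 1))⁻¹ * (t * φ ((N xm ym 1)⁻¹) * t⁻¹) * (t * t) := by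
    rw [map_inv]; group
  rw [e, ht, mul_one, conj_φ φ hc h1 h2, ← map_inv, ← map_mul]
  congr 1
  obtain ⟨k1, k2, k3, k4⟩ := eH hc
  obtain ⟨n1, n2, n3, n4⟩ := eN (one_ne_zero (α := F))
  obtain ⟨i1, i2, i3, i4⟩ := e_inv (N xm ym (1 : F))
  ext i j
  rw [mul_e]
  fin_cases i <;> fin_cases j
  · simp only [Fin.zero_eta, Fin.isValue, cjM00, cjM10, k1, i4, i2, i1, n1, n2, n3, n4]
    ring
  · simp only [Fin.zero_eta, Fin.isValue, Fin.mk_one, cjM01, cjM11, k2, i3, i1, i2, n1, n2, n3, n4]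
    field_simp; ring
  · simp only [Fin.zero_eta, Fin.isValue, Fin.mk_one, cjM00, cjM10, k3, i3, i4, i2, n1, n2, n3, n4]
    ring
  · simp only [Fin.zero_eta, Fin.isValue, Fin.mk_one, cjM01, cjM11, k4, i3, i1, i4, n1, n2, n3, n4]
    simp

end H42.InvSL
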