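import Mathlib
import Cfsg.Prelude.Def_Transfer

set_option autoImplicit false
set_option linter.unusedSectionVars false

/-! Normal `2`-rank of Sylow `2`-subgroups: wreath products. -/

namespace H42.NormRank

open Equiv

def NRge (P : Type*) [Group P] (r : ℕ) : Prop :=
  ∃ E : Subgroup P, E.Normal ∧ Cfsg.IsElementaryAbelian 2 E ∧ 2 ^ r ≤ Nat.card E

def NRle (P : Type*) [Group P] (r : ℕ) : Prop :=
  ∀ E : Subgroup P, E.Normal → Cfsg.IsElementaryAbelian 2 E → Nat.card E ≤ 2 ^ r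

theorem comm_of {G : Type*} [Group G] {A : Subgroup G} (hA : IsMulCommutative A) :
    ∀ a ∈ A, ∀ b ∈ A, a * b = b * a := by
  intro a ha b hb
  exact congrArg (fun w : A => (w : G)) (hA.is_comm.comm ⟨a, ha⟩ ⟨b, hb⟩)

theorem elab_map {P Q : Type*} [Group P] [Group Q] (f : P →* Q) {E : Subgroup P} (h : Cfsg.IsElementaryAbelian 2 E) :
    Cfsg.IsElementaryAbelian 2 (E.map f) := by
  refine ⟨⟨⟨?_⟩⟩, ?_⟩
  · rintro ⟨_, a, ha, rfl⟩ ⟨_, b, hb, rfl⟩
    apply Subtype.ext
    change f a * f b = f b * f a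
    rw [← map_mul, comm_of h.1 a ha b hb, map_mul]
  · rintro _ ⟨a, ha, rfl⟩
    rw [← map_pow, h.2 a ha, map_one]

theorem NRge.congr {P Q : Type*} [Group P] [Group Q] (e : P ≃* Q) {r : ℕ} (h : NRge P r) : NRge Q r := by
  obtain ⟨E, hE, hE1, hE2⟩ := h
  refine ⟨E.map e.toMonoidHom, hE.map _ e.surjective, elab_map _ hE1, ?_⟩
  rwa [← Nat.card_congr (E.equivMapOfInjective e.toMonoidHom e.injective).toEquiv]

theorem NRle.congr {P Q : Type*} [Group P] [Group Q] (e : P ≃* Q) {r : ℕ} (h : NRle P r) : NRle Q r := by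
  intro E hE hE1
  have := h (E.map e.symm.toMonoidHom) (hE.map _ e.symm.surjective) (elab_map _ hE1)
  rwa [← Nat.card_congr (E.equivMapOfInjective e.symm.toMonoidHom e.symm.injective).toEquiv] at this

/-- Sylow subgroups of an embedded subgroup of odd index -/
theorem sylow_equiv {W G : Type*} [Group W] [Group G] [Finite G] (f : W →* G) (hf : Function.Injective f)
    (h : (Nat.card W).factorization 2 = (Nat.card G).factorization 2) (T : Sylow 2 W) (S : Sylow 2 G) :
    Nonempty ((T : Subgroup W) ≃* (S : Subgroup G)) := by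
  have hW : Finite W := Finite.of_injective f hf
  have h2 : Fact (Nat.Prime 2) := ⟨Nat.prime_two⟩
  have e1 := (T : Subgroup W).equivMapOfInjective f hf
  have hc : Nat.card ((T : Subgroup W).map f) = 2 ^ (Nat.card G).factorization 2 := by
    rw [← Nat.card_congr e1.toEquiv, Sylow.card_eq_multiplicity, h]
  let T' : Sylow 2 G := Sylow.ofCard ((T : Subgroup W).map f) hc
  exact ⟨e1.trans (Sylow.equiv T' S)⟩

section Normal

/-- a normal elementary abelian subgroup is contained in all Sylow subgroups -/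
theorem nrge_of_normal {W : Type*} [Group W] [Finite W] (E : Subgroup W) (hE : E.Normal)
    (hE1 : Cfsg.IsElementaryAbelian 2 E) {r : ℕ} (hr : 2 ^ r ≤ Nat.card E) (T : Sylow 2 W) :
    NRge (T : Subgroup W) r := by
  have h2 : Fact (Nat.Prime 2) := ⟨Nat.prime_two⟩
  have hp : IsPGroup 2 E := by
    intro x
    exact ⟨1, Subtype.ext (hE1.2 x x.2)⟩
  have hle : E ≤ (T : Subgroup W) := by
    have h1 : IsPGroup 2 ((T : Subgroup W) ⊔ E : Subgroup W) := T.isPGroup'.to_sup_of_normal_right hp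
    have h3 := T.is_maximal' h1 le_sup_left
    exact le_sup_right.trans h3.le
  refine ⟨E.subgroupOf (T : Subgroup W), inferInstance, ⟨⟨⟨?_⟩⟩, ?_⟩, ?_⟩
  · rintro ⟨a, ha⟩ ⟨b, hb⟩
    apply Subtype.ext
    apply Subtype.ext
    exact comm_of hE1.1 _ ha _ hb
  · intro a ha
    apply Subtype.ext
    exact hE1.2 _ ha
  · rwa [Nat.card_congr (Subgroup.subgroupOfEquivOfLe hle).toEquiv]

end Normal

section Wreath

variable (κ H C : Type*) [Group H] [Group C]

/-- permutation of coordinates -/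
def phi : Perm κ →* MulAut ((κ → H) × C) where
  toFun σ :=
    { toFun := fun x => (fun i => x.1 (σ⁻¹ i), x.2)
      invFun := fun x => (fun i => x.1 (σ i), x.2)
      left_inv := fun x => by
        ext i
        · change x.1 (σ⁻¹ (σ i)) = x.1 i
          rw [← Perm.mul_apply, inv_mul_cancel, Perm.one_apply]
        · rfl
      right_inv := fun x => by
        ext i
        · change x.1 (σ (σ⁻¹ i)) = x.1 i
          rw [← Perm.mul_apply, mul_inv_cancel, Perm.one_apply]
        · rfl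
      map_mul' := fun x y => rfl }
  map_one' := rfl
  map_mul' := fun σ τ => by
    ext x
    · rfl
    · rfl

theorem phi_apply (σ : Perm κ) (x : (κ → H) × C) : phi κ H C σ x = (fun i => x.1 (σ⁻¹ i), x.2) := rfl

/-- the wreath product with an extra factor -/
abbrev Wr := ((κ → H) × C) ⋊[phi κ H C] Perm κ

variable {κ H C}

instance [Finite κ] [Finite H] [Finite C] : Finite (Wr κ H C) :=
  Finite.of_equiv _ (SemidirectProduct.equivProd (φ := phi κ H C)).symm

theorem card_Wr [Fintype κ] [DecidableEq κ] : Nat.card (Wr κ H C) = Nat.card H ^ Fintype.card κ * Nat.card C * (Fintype.card κ).factorial := by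
  rw [SemidirectProduct.card, Nat.card_prod, Nat.card_fun, Nat.card_eq_fintype_card (α := κ), Nat.card_perm,
    Nat.card_eq_fintype_card (α := κ)]

/-- the diagonal normal subgroup -/
def E0 (Z : Subgroup H) (D : Subgroup C) : Subgroup (Wr κ H C) :=
  ((Subgroup.pi Set.univ (fun _ : κ => Z)).prod D).map SemidirectProduct.inl

theorem mem_E0 {Z : Subgroup H} {D : Subgroup C} {x : Wr κ H C} :
    x ∈ E0 Z D ↔ (∀ i, x.left.1 i ∈ Z) ∧ x.left.2 ∈ D ∧ x.right = 1 := by
  constructor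
  · rintro ⟨y, ⟨hy1, hy2⟩, rfl⟩
    refine ⟨fun i => ?_, hy2, rfl⟩
    exact hy1 i (Set.mem_univ i)
  · rintro ⟨h1, h2, h3⟩
    refine ⟨x.left, ⟨fun i _ => h1 i, h2⟩, ?_⟩
    ext1
    · rfl
    · exact h3.symm

theorem E0_normal {Z : Subgroup H} {D : Subgroup C} (hZ : Z.Normal) (hD : D.Normal) : (E0 (κ := κ) Z D).Normal := by
  constructor
  intro x hx g
  rw [mem_E0] at hx ⊢
  obtain ⟨h1, h2, h3⟩ := hx
  have e : x = SemidirectProduct.inl x.left := by
    ext1
    · rfl
    · exact h3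
  have e2 : g * x * g⁻¹ = SemidirectProduct.inl (g.left * phi κ H C g.right x.left * g.left⁻¹) := by
    rw [map_mul, map_mul, SemidirectProduct.inl_aut, ← e]
    conv_lhs => rw [← SemidirectProduct.inl_left_mul_inr_right g]
    rw [map_inv, map_inv]
    group
  rw [e2]
  refine ⟨?_, ?_, rfl⟩
  · intro i
    exact hZ.conj_mem _ (h1 _) _
  · exact hD.conj_mem _ h2 _

theorem E0_elab {Z : Subgroup H} {D : Subgroup C} (hZ : Cfsg.IsElementaryAbelian 2 Z) (hD : Cfsg.IsElementaryAbelian 2 D) :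
    Cfsg.IsElementaryAbelian 2 (E0 (κ := κ) Z D) := by
  apply elab_map
  refine ⟨⟨⟨?_⟩⟩, ?_⟩
  · rintro ⟨a, ha⟩ ⟨b, hb⟩
    apply Subtype.ext
    apply Prod.ext
    · funext i
      exact comm_of hZ.1 _ (ha.1 i (Set.mem_univ i)) _ (hb.1 i (Set.mem_univ i))
    · exact comm_of hD.1 _ ha.2 _ hb.2
  · intro a ha
    apply Prod.ext
    · funext i
      exact hZ.2 _ (ha.1 i (Set.mem_univ i))
    · exact hD.2 _ ha.2

theorem card_E0 [Fintype κ] {Z : Subgroup H} {D : Subgroup C} [Finite H] [Finite C] :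
    Nat.card Z ^ Fintype.card κ * Nat.card D ≤ Nat.card (E0 (κ := κ) Z D) := by
  have h1 : Nat.card ((κ → Z) × D) = Nat.card Z ^ Fintype.card κ * Nat.card D := by
    rw [Nat.card_prod, Nat.card_fun, Nat.card_eq_fintype_card (α := κ)]
  rw [← h1]
  apply Nat.card_le_card_of_injective (fun x : (κ → Z) × D =>
    (⟨SemidirectProduct.inl (fun i => (x.1 i : H), (x.2 : C)), mem_E0.2 ⟨fun i => (x.1 i).2, x.2.2, rfl⟩⟩ : E0 (κ := κ) Z D))
  intro x y h
  have h2 : (fun i => (x.1 i : H), (x.2 : C)) = ((fun i => (y.1 i : H), (y.2 : C)) : (κ → H) × C) :=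
    SemidirectProduct.inl_injective (congrArg (fun w : E0 (κ := κ) Z D => (w : Wr κ H C)) h)
  apply Prod.ext
  · funext i
    exact Subtype.ext (congrFun (congrArg Prod.fst h2) i)
  · exact Subtype.ext (congrArg Prod.snd h2)

/-- lower bound -/
theorem wr_ge [Fintype κ] [Finite H] [Finite C] {Z : Subgroup H} {D : Subgroup C} (hZn : Z.Normal) (hDn : D.Normal)
    (hZ : Cfsg.IsElementaryAbelian 2 Z) (hD : Cfsg.IsElementaryAbelian 2 D) {t : ℕ} (hZ2 : 2 ≤ Nat.card Z)
    (hDt : 2 ^ t ≤ Nat.card D) (T : Sylow 2 (Wr κ H C)) : NRge (T : Subgroup (Wr κ H C)) (Fintype.card κ + t) := by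
  refine nrge_of_normal (E0 Z D) (E0_normal hZn hDn) (E0_elab hZ hD) ?_ T
  refine le_trans ?_ card_E0
  rw [pow_add]
  exact Nat.mul_le_mul (Nat.pow_le_pow_left hZ2 _) hDt

/-- upper bound -/
theorem wr_le [Fintype κ] [DecidableEq κ] [Finite H] [Finite C] (P0 : Subgroup H) (hP0 : IsPGroup 2 P0)
    (h1 : ∃ x ∈ P0, x ^ 2 ≠ 1)
    (h2 : ∀ A : Subgroup H, (∀ a ∈ A, ∀ b ∈ A, a * b = b * a) → (∀ a ∈ A, a ^ 2 = 1) →
      (∀ x ∈ P0, ∀ a ∈ A, x * a * x⁻¹ ∈ A) → Nat.card A ≤ 2)
    {t : ℕ} (hC : Nat.card {c : C // c ^ 2 = 1} ≤ 2 ^ t) (T : Sylow 2 (Wr κ H C)) :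
    NRle (T : Subgroup (Wr κ H C)) (Fintype.card κ + t) := by
  have hfact : Fact (Nat.Prime 2) := ⟨Nat.prime_two⟩
  -- replace T
  let D0 : Subgroup (Wr κ H C) := ((Subgroup.pi Set.univ (fun _ : κ => P0)).prod (⊥ : Subgroup C)).map SemidirectProduct.inl
  have hD0 : IsPGroup 2 D0 := by
    apply IsPGroup.map
    intro x
    have hx : ∀ i, ∃ k, (x : (κ → H) × C).1 i ^ 2 ^ k = 1 := by
      intro i
      obtain ⟨k, hk⟩ := hP0 ⟨(x : (κ → H) × C).1 i, x.2.1 i (Set.mem_univ i)⟩
      exact ⟨k, congrArg (fun w : P0 => (w : H)) hk⟩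
    choose k hk using hx
    refine ⟨∑ i, k i, ?_⟩
    apply Subtype.ext
    apply Prod.ext
    · funext i
      change (x : (κ → H) × C).1 i ^ 2 ^ (∑ i, k i) = 1
      rw [← Finset.add_sum_erase _ k (Finset.mem_univ i), pow_add, pow_mul, hk i, one_pow]
    · change (x : (κ → H) × C).2 ^ 2 ^ (∑ i, k i) = 1
      have : (x : (κ → H) × C).2 = 1 := x.2.2
      rw [this, one_pow]
  obtain ⟨T', hT'⟩ := hD0.exists_le_sylow
  apply NRle.congr (Sylow.equiv T' T)
  clear T
  intro E hE hE1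
  set E' : Subgroup (Wr κ H C) := E.map (T' : Subgroup (Wr κ H C)).subtype with hE'
  have hcE : Nat.card E' = Nat.card E :=
    (Nat.card_congr (E.equivMapOfInjective _ (Subgroup.subtype_injective _)).toEquiv).symm
  have hE1' : Cfsg.IsElementaryAbelian 2 E' := elab_map _ hE1
  have hnorm : ∀ x ∈ T', ∀ e ∈ E', x * e * x⁻¹ ∈ E' := by
    rintro x hx _ ⟨e, he, rfl⟩
    exact ⟨⟨x, hx⟩ * e * ⟨x, hx⟩⁻¹, hE.conj_mem e he ⟨x, hx⟩, rfl⟩
  have hd : ∀ f : κ → H, (∀ i, f i ∈ P0) → (SemidirectProduct.inl (f, 1) : Wr κ H C) ∈ T' := by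
    intro f hf
    apply hT'
    exact ⟨(f, 1), ⟨fun i _ => hf i, rfl⟩, rfl⟩
  -- all elements of E' are in the base group
  have hright : ∀ e ∈ E', e.right = 1 := by
    intro e he
    by_contra hne
    obtain ⟨i, hi⟩ : ∃ i, e.right i ≠ i := by
      by_contra hcon
      push Not at hcon
      exact hne (Equiv.ext hcon)
    obtain ⟨x, hx, hx2⟩ := h1
    let d' : (κ → H) × C := (Pi.mulSingle i x, 1)
    have hdT : (SemidirectProduct.inl d' : Wr κ H C) ∈ T' := by
      apply hd
      intro j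
      rcases eq_or_ne j i with rfl | hj
      · rw [Pi.mulSingle_eq_same]; exact hx
      · rw [Pi.mulSingle_eq_of_ne hj]; exact P0.one_mem
    have h3 : e * ((SemidirectProduct.inl d' : Wr κ H C) * e⁻¹ * (SemidirectProduct.inl d')⁻¹) ∈ E' :=
      E'.mul_mem he (hnorm _ hdT _ (E'.inv_mem he))
    have h4 : e * ((SemidirectProduct.inl d' : Wr κ H C) * e⁻¹ * (SemidirectProduct.inl d')⁻¹) =
        SemidirectProduct.inl (e.left * phi κ H C e.right d' * e.left⁻¹ * d'⁻¹) := by
      rw [map_mul, map_mul, map_mul, SemidirectProduct.inl_aut, map_inv, map_inv]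
      conv_lhs => rw [← SemidirectProduct.inl_left_mul_inr_right e]
      rw [map_inv]
      group
    rw [h4] at h3
    have h5 := hE1'.2 _ h3
    rw [← map_pow, ← map_one (SemidirectProduct.inl : ((κ → H) × C) →* Wr κ H C)] at h5
    have h6 := congrFun (congrArg Prod.fst (SemidirectProduct.inl_injective h5)) (e.right i)
    have h7 : (e.left * phi κ H C e.right d' * e.left⁻¹ * d'⁻¹).1 (e.right i) = e.left.1 (e.right i) * x * (e.left.1 (e.right i))⁻¹ := by
      change e.left.1 (e.right i) * (Pi.mulSingle i x : κ → H) (e.right⁻¹ (e.right i)) * (e.left.1 (e.right i))⁻¹ *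
        ((Pi.mulSingle i x : κ → H) (e.right i))⁻¹ = _
      rw [← Perm.mul_apply, inv_mul_cancel, Perm.one_apply, Pi.mulSingle_eq_same, Pi.mulSingle_eq_of_ne hi, inv_one, mul_one]
    have h8 : ((e.left * phi κ H C e.right d' * e.left⁻¹ * d'⁻¹) ^ 2).1 (e.right i) =
        ((e.left * phi κ H C e.right d' * e.left⁻¹ * d'⁻¹).1 (e.right i)) ^ 2 := rfl
    rw [h8, h7, conj_pow] at h6
    apply hx2
    have h9 : e.left.1 (e.right i) * x ^ 2 * (e.left.1 (e.right i))⁻¹ = 1 := h6
    rw [mul_inv_eq_one] at h9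
    exact mul_right_injective _ (by rw [h9, mul_one] : e.left.1 (e.right i) * x ^ 2 = e.left.1 (e.right i) * 1)
  -- the coordinates
  let A : κ → Subgroup H := fun i =>
    (E'.comap (SemidirectProduct.inl : ((κ → H) × C) →* Wr κ H C)).map ((Pi.evalMonoidHom (fun _ : κ => H) i).comp (MonoidHom.fst (κ → H) C))
  have hA : ∀ i, Nat.card (A i) ≤ 2 := by
    intro i
    apply h2
    · rintro _ ⟨a, ha, rfl⟩ _ ⟨b, hb, rfl⟩
      have := comm_of hE1'.1 _ ha _ hb
      rw [← map_mul, ← map_mul] at this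
      rw [← map_mul, SemidirectProduct.inl_injective this, map_mul]
    · rintro _ ⟨a, ha, rfl⟩
      have := hE1'.2 _ ha
      rw [← map_pow, ← map_one (SemidirectProduct.inl : ((κ → H) × C) →* Wr κ H C)] at this
      rw [← map_pow, SemidirectProduct.inl_injective this, map_one]
    · rintro x hx _ ⟨a, ha, rfl⟩
      refine ⟨(Pi.mulSingle i x, 1) * a * (Pi.mulSingle i x, 1)⁻¹, ?_, ?_⟩
      · rw [SetLike.mem_coe, Subgroup.mem_comap, map_mul, map_mul, map_inv]
        apply hnorm _ _ _ ha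
        apply hd
        intro j
        rcases eq_or_ne j i with rfl | hj
        · rw [Pi.mulSingle_eq_same]; exact hx
        · rw [Pi.mulSingle_eq_of_ne hj]; exact P0.one_mem
      · change (Pi.mulSingle i x : κ → H) i * a.1 i * ((Pi.mulSingle i x : κ → H) i)⁻¹ = _
        rw [Pi.mulSingle_eq_same]
        rfl
  rw [← hcE]
  have hfinal : Nat.card E' ≤ Nat.card ((∀ i, A i) × {c : C // c ^ 2 = 1}) := by
    have hm : ∀ e : E', ((e : Wr κ H C).left) ∈ E'.comap (SemidirectProduct.inl : ((κ → H) × C) →* Wr κ H C) := by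
      intro e
      rw [Subgroup.mem_comap]
      have : (SemidirectProduct.inl (e : Wr κ H C).left : Wr κ H C) = e := by
        ext1
        · rfl
        · exact (hright e e.2).symm
      rw [this]; exact e.2
    apply Nat.card_le_card_of_injective (fun e : E' => ((fun i => ⟨(e : Wr κ H C).left.1 i, ⟨(e : Wr κ H C).left, hm e, rfl⟩⟩, ⟨(e : Wr κ H C).left.2, by
      have := hE1'.2 _ (hm e)
      rw [← map_pow, ← map_one (SemidirectProduct.inl : ((κ → H) × C) →* Wr κ H C)] at this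
      exact congrArg Prod.snd (SemidirectProduct.inl_injective this)⟩) : (∀ i, A i) × {c : C // c ^ 2 = 1}))
    intro e e' h
    apply Subtype.ext
    ext1
    · apply Prod.ext
      · funext i
        exact congrArg Subtype.val (congrFun (congrArg Prod.fst h) i)
      · exact congrArg Subtype.val (congrArg Prod.snd h)
    · rw [hright e e.2, hright e' e'.2]
  refine hfinal.trans ?_
  rw [Nat.card_prod, Nat.card_pi, pow_add]
  refine Nat.mul_le_mul ?_ hC
  calc ∏ i, Nat.card (A i) ≤ ∏ _i : κ, 2 := Finset.prod_le_prod' (fun i _ => hA i)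
    _ = 2 ^ Fintype.card κ := by rw [Finset.prod_const, Finset.card_univ]

end Wreath

end H42.NormRank
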