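import Mathlib

set_option autoImplicit false
set_option linter.unusedSectionVars false

/-! `2`-parts of the orders of `GL_n(q)` and `Sp_2n(q)`. -/

namespace H42.NormRank

open Finset

theorem v_mul {a b : ℕ} (ha : a ≠ 0) (hb : b ≠ 0) : padicValNat 2 (a * b) = padicValNat 2 a + padicValNat 2 b := by
  have : Fact (Nat.Prime 2) := ⟨Nat.prime_two⟩
  exact padicValNat.mul ha hb

theorem v_odd_eq {a : ℕ} (ha : Odd a) : padicValNat 2 a = 0 := by
  apply padicValNat.eq_zero_of_not_dvd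
  rw [← even_iff_two_dvd, Nat.not_even_iff_odd]
  exact ha

theorem v_pow (a k : ℕ) : padicValNat 2 (a ^ k) = k * padicValNat 2 a := by
  have : Fact (Nat.Prime 2) := ⟨Nat.prime_two⟩
  exact padicValNat.pow a k

variable {q : ℕ} (hq : Odd q) (hq1 : 1 < q)

include hq hq1

theorem pow_sub_ne (j : ℕ) (hj : j ≠ 0) : q ^ j - 1 ≠ 0 := by
  have := Nat.one_lt_pow hj hq1
  omega

theorem v_even {j : ℕ} (hj : j ≠ 0) : padicValNat 2 (q ^ (2 * j) - 1) = padicValNat 2 (q ^ 2 - 1) + padicValNat 2 j := by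
  have h2 : ¬ 2 ∣ q := by
    rw [← even_iff_two_dvd, Nat.not_even_iff_odd]; exact hq
  have e1 := padicValNat.pow_two_sub_one hq1 h2 (n := 2 * j) (by omega) (even_two_mul j)
  have e2 := padicValNat.pow_two_sub_one hq1 h2 (n := 2) (by omega) even_two
  rw [v_mul (by norm_num) hj] at e1
  omega

theorem v_odd {j : ℕ} (hj : Odd j) : padicValNat 2 (q ^ j - 1) = padicValNat 2 (q - 1) := by
  obtain ⟨m, rfl⟩ : ∃ m, q = m + 1 := ⟨q - 1, by omega⟩
  have h1 := geom_sum_mul_add m j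
  have h2 : (m + 1) ^ j - 1 = (∑ i ∈ range j, (m + 1) ^ i) * m := by omega
  have h3 : Odd (∑ i ∈ range j, (m + 1) ^ i) := by
    have : ∀ i ∈ range j, Odd ((m + 1) ^ i) := fun i _ => hq.pow
    rw [Finset.odd_sum_iff_odd_card_odd, Finset.filter_true_of_mem this, card_range]
    exact hj
  rw [h2, v_mul h3.pos.ne' (by omega), v_odd_eq h3, zero_add, Nat.add_sub_cancel]

theorem v_one_mod_four (h4 : q % 4 = 1) {j : ℕ} (hj : j ≠ 0) :
    padicValNat 2 (q ^ j - 1) = padicValNat 2 (q - 1) + padicValNat 2 j := by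
  rcases Nat.even_or_odd' j with ⟨i, rfl | rfl⟩
  · have hi : i ≠ 0 := by omega
    rw [v_even hq hq1 hi]
    have e1 : q ^ 2 - 1 = (q - 1) * (q + 1) := by
      obtain ⟨m, rfl⟩ : ∃ m, q = m + 1 := ⟨q - 1, by omega⟩
      rw [Nat.add_sub_cancel]
      have : (m + 1) ^ 2 = m * (m + 1 + 1) + 1 := by ring
      omega
    have e2 : padicValNat 2 (q + 1) = 1 := by
      obtain ⟨m, hm⟩ : ∃ m, q + 1 = 2 * (2 * m + 1) := ⟨q / 4, by omega⟩
      rw [hm, v_mul (by norm_num) (by omega), v_odd_eq (odd_two_mul_add_one m)]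
      simp
    rw [e1, v_mul (by omega) (by omega), e2, v_mul (by norm_num) hi]
    simp only [padicValNat.self Nat.one_lt_two]
    omega
  · rw [v_odd hq hq1 (odd_two_mul_add_one i), v_odd_eq (odd_two_mul_add_one i), add_zero]

theorem v_three_mod_four (h4 : q % 4 = 3) : padicValNat 2 (q - 1) = 1 := by
  obtain ⟨m, hm⟩ : ∃ m, q - 1 = 2 * (2 * m + 1) := ⟨q / 4, by omega⟩
  rw [hm, v_mul (by norm_num) (by omega), v_odd_eq (odd_two_mul_add_one m)]
  simp

theorem v_fact (k : ℕ) : padicValNat 2 (k + 1).factorial = padicValNat 2 (k + 1) + padicValNat 2 k.factorial := by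
  rw [Nat.factorial_succ, v_mul (by omega) (Nat.factorial_ne_zero k)]

/-- general linear groups -/
theorem v_gl (n : ℕ) : padicValNat 2 (∏ i : Fin n, (q ^ n - q ^ (i : ℕ))) = ∑ j ∈ range n, padicValNat 2 (q ^ (j + 1) - 1) := by
  have h1 : ∀ i : Fin n, q ^ n - q ^ (i : ℕ) = q ^ (i : ℕ) * (q ^ (n - i) - 1) := by
    intro i
    rw [Nat.mul_sub, mul_one, ← pow_add, Nat.add_sub_cancel' i.2.le]
  have h2 : ∀ i : Fin n, q ^ n - q ^ (i : ℕ) ≠ 0 := by
    intro i
    rw [h1]
    exact mul_ne_zero (pow_ne_zero _ (by omega)) (pow_sub_ne hq hq1 _ (by have := i.2; omega))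
  have h3 : padicValNat 2 (∏ i : Fin n, (q ^ n - q ^ (i : ℕ))) = ∑ i : Fin n, padicValNat 2 (q ^ n - q ^ (i : ℕ)) := by
    rw [← Nat.factorization_def _ Nat.prime_two, Nat.factorization_prod (fun i _ => h2 i), Finsupp.finsetSum_apply]
    apply Finset.sum_congr rfl
    intro i _
    rw [Nat.factorization_def _ Nat.prime_two]
  rw [h3]
  have h4 : ∀ i : Fin n, padicValNat 2 (q ^ n - q ^ (i : ℕ)) = (fun i : ℕ => padicValNat 2 (q ^ (n - 1 - i + 1) - 1)) i := by
    intro i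
    rw [h1, v_mul (pow_ne_zero _ (by omega)) (pow_sub_ne hq hq1 _ (by have := i.2; omega)), v_odd_eq hq.pow, zero_add]
    have := i.2
    simp only
    congr 3
    omega
  rw [Finset.sum_congr rfl (fun i _ => h4 i), Fin.sum_univ_eq_sum_range (fun i : ℕ => padicValNat 2 (q ^ (n - 1 - i + 1) - 1)) n]
  exact Finset.sum_range_reflect (fun j => padicValNat 2 (q ^ (j + 1) - 1)) n

theorem v_gl_one (h4 : q % 4 = 1) (n : ℕ) :
    padicValNat 2 (∏ i : Fin n, (q ^ n - q ^ (i : ℕ))) = n * padicValNat 2 (q - 1) + padicValNat 2 n.factorial := by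
  rw [v_gl hq hq1]
  induction n with
  | zero => simp
  | succ n ih =>
    rw [sum_range_succ, ih, v_one_mod_four hq hq1 h4 (by omega), v_fact hq hq1]
    ring

theorem v_gl_three (h4 : q % 4 = 3) (k t : ℕ) (ht : t ≤ 1) :
    padicValNat 2 (∏ i : Fin (2 * k + t), (q ^ (2 * k + t) - q ^ (i : ℕ))) =
      k * (padicValNat 2 (q ^ 2 - 1) + 1) + padicValNat 2 k.factorial + t := by
  rw [v_gl hq hq1]
  have h1 : ∑ j ∈ range (2 * k), padicValNat 2 (q ^ (j + 1) - 1) = k * (padicValNat 2 (q ^ 2 - 1) + 1) + padicValNat 2 k.factorial := by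
    induction k with
    | zero => simp
    | succ k ih =>
      rw [show 2 * (k + 1) = 2 * k + 1 + 1 by ring, sum_range_succ, sum_range_succ, ih, v_odd hq hq1 (odd_two_mul_add_one k),
        v_three_mod_four hq hq1 h4, show 2 * k + 1 + 1 = 2 * (k + 1) by ring, v_even hq hq1 (by omega), v_fact hq hq1]
      ring
  have ht' : t = 0 ∨ t = 1 := by omega
  rcases ht' with rfl | rfl
  · rw [add_zero, h1, add_zero]
  · rw [sum_range_succ, h1, v_odd hq hq1 (odd_two_mul_add_one k), v_three_mod_four hq hq1 h4]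

theorem v_sp (n : ℕ) :
    padicValNat 2 (q ^ (n ^ 2) * ∏ i ∈ range n, (q ^ (2 * (i + 1)) - 1)) = n * padicValNat 2 (q ^ 2 - 1) + padicValNat 2 n.factorial := by
  have h0 : ∏ i ∈ range n, (q ^ (2 * (i + 1)) - 1) ≠ 0 := by
    rw [Finset.prod_ne_zero_iff]
    intro i _
    exact pow_sub_ne hq hq1 _ (by omega)
  rw [v_mul (pow_ne_zero _ (by omega)) h0, v_odd_eq hq.pow, zero_add]
  clear h0
  induction n with
  | zero => simp
  | succ n ih =>
    have h0 : ∏ i ∈ range n, (q ^ (2 * (i + 1)) - 1) ≠ 0 := by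
      rw [Finset.prod_ne_zero_iff]
      intro i _
      exact pow_sub_ne hq hq1 _ (by omega)
    rw [prod_range_succ, v_mul h0 (pow_sub_ne hq hq1 _ (by omega)), ih, v_even hq hq1 (by omega), v_fact hq hq1]
    ring

end H42.NormRank
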