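import Cfsg.Agent.Lib.H42.NormRank
import Cfsg.Agent.Lib.H42.NormRankNum
import Cfsg.Agent.Lib.H42.TwoRankMat

set_option autoImplicit false
set_option linter.unusedSectionVars false

/-! Normal `2`-rank of `GL_n(q)`. -/

namespace H42.NormRank

open Equiv Module H42.TwoRank

section Rep

variable {F : Type*} [Field F] {κ : Type*} {U U' : Type*} [AddCommGroup U] [Module F U] [AddCommGroup U'] [Module F U']

/-- the wreath product acting on `(κ → U) × U'` -/
def rhoEnd : Wr κ (U ≃ₗ[F] U) (U' ≃ₗ[F] U') →* Module.End F ((κ → U) × U') where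
  toFun x :=
    { toFun := fun v => (fun i => x.left.1 i (v.1 (x.right⁻¹ i)), x.left.2 v.2)
      map_add' := fun v w => by
        apply Prod.ext
        · funext i
          exact (x.left.1 i).map_add _ _
        · exact x.left.2.map_add _ _
      map_smul' := fun c v => by
        apply Prod.ext
        · funext i
          exact (x.left.1 i).map_smul _ _
        · exact x.left.2.map_smul _ _ }
  map_one' := rfl
  map_mul' x y := rfl

/-- the wreath product in the general linear group -/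
noncomputable def rho : Wr κ (U ≃ₗ[F] U) (U' ≃ₗ[F] U') →* (((κ → U) × U') ≃ₗ[F] ((κ → U) × U')) :=
  (LinearMap.GeneralLinearGroup.generalLinearEquiv F ((κ → U) × U')).toMonoidHom.comp (MonoidHom.toHomUnits rhoEnd)

theorem rho_apply (x : Wr κ (U ≃ₗ[F] U) (U' ≃ₗ[F] U')) (v : (κ → U) × U') :
    rho x v = (fun i => x.left.1 i (v.1 (x.right⁻¹ i)), x.left.2 v.2) := rfl

theorem rho_injective [Nontrivial U] [DecidableEq κ] : Function.Injective (rho (F := F) (κ := κ) (U := U) (U' := U')) := by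
  rw [injective_iff_map_eq_one]
  intro x hx
  have h1 : ∀ v : (κ → U) × U', (fun i => x.left.1 i (v.1 (x.right⁻¹ i)), x.left.2 v.2) = v := by
    intro v
    rw [← rho_apply, hx]
    rfl
  have hr : ∀ i, x.right⁻¹ i = i := by
    intro i
    by_contra hne
    obtain ⟨u, hu⟩ := exists_ne (0 : U)
    have h3 := congrFun (congrArg Prod.fst (h1 (Pi.single i u, 0))) i
    simp only [Pi.single_eq_same, Pi.single_eq_of_ne hne, map_zero] at h3
    exact hu h3.symm
  ext1
  · apply Prod.ext
    · funext i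
      apply LinearEquiv.ext
      intro u
      have h3 := congrFun (congrArg Prod.fst (h1 (fun _ => u, 0))) i
      exact h3
    · apply LinearEquiv.ext
      intro u
      exact congrArg Prod.snd (h1 (0, u))
  · have : x.right⁻¹ = 1 := Equiv.ext hr
    rw [inv_eq_one] at this
    exact this

/-- conjugation by a linear equivalence -/
def cg {V W : Type*} [AddCommGroup V] [Module F V] [AddCommGroup W] [Module F W] (e : V ≃ₗ[F] W) :
    (V ≃ₗ[F] V) ≃* (W ≃ₗ[F] W) where
  toFun g := (e.symm.trans g).trans e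
  invFun g := (e.trans g).trans e.symm
  left_inv g := by
    ext v
    simp
  right_inv g := by
    ext v
    simp
  map_mul' g h := by
    ext v
    simp

end Rep

section Pm

variable (F : Type*) [Field F] (U : Type*) [AddCommGroup U] [Module F U]

/-- the subgroup `{1, -1}` -/
def pm : Subgroup (U ≃ₗ[F] U) := Subgroup.zpowers (LinearEquiv.neg F)

variable {F U}

theorem neg_comm (g : U ≃ₗ[F] U) : g * LinearEquiv.neg F = LinearEquiv.neg F * g := by
  ext v
  change g (-v) = -g v
  exact map_neg g v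

theorem neg_sq : (LinearEquiv.neg F : U ≃ₗ[F] U) ^ 2 = 1 := by
  ext v
  rw [pow_two]
  change - - v = v
  exact neg_neg v

theorem pm_normal : (pm F U).Normal := by
  constructor
  intro n hn g
  obtain ⟨k, rfl⟩ := Subgroup.mem_zpowers_iff.1 hn
  have : Commute g (LinearEquiv.neg F) := neg_comm g
  rw [(this.zpow_right k).eq, mul_inv_cancel_right]
  exact Subgroup.zpow_mem_zpowers _ _

theorem pm_elab : Cfsg.IsElementaryAbelian 2 (pm F U) := by
  refine ⟨⟨⟨?_⟩⟩, ?_⟩
  · rintro ⟨a, ha⟩ ⟨b, hb⟩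
    obtain ⟨k, rfl⟩ := Subgroup.mem_zpowers_iff.1 ha
    obtain ⟨l, rfl⟩ := Subgroup.mem_zpowers_iff.1 hb
    apply Subtype.ext
    exact (Commute.zpow_zpow_self _ k l).eq
  intro a ha
  obtain ⟨k, rfl⟩ := Subgroup.mem_zpowers_iff.1 ha
  rw [← zpow_natCast, ← zpow_mul, mul_comm, zpow_mul, zpow_natCast, neg_sq, one_zpow]

theorem card_pm [Nontrivial U] (h2 : (2 : F) ≠ 0) : Nat.card (pm F U) = 2 := by
  rw [pm, Nat.card_zpowers]
  apply orderOf_eq_prime neg_sq
  intro h
  obtain ⟨u, hu⟩ := exists_ne (0 : U)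
  have h1 : -u = u := congrArg (fun w : U ≃ₗ[F] U => w u) h
  have h3 : (2 : F) • u = 0 := by
    rw [two_smul]
    nth_rewrite 1 [← h1]
    simp
  exact hu ((smul_eq_zero.1 h3).resolve_left h2)

end Pm

section Card

variable {F : Type*} [Field F] [Fintype F]

theorem card_L (d : ℕ) : Nat.card ((Fin d → F) ≃ₗ[F] (Fin d → F)) = ∏ i : Fin d, (Fintype.card F ^ d - Fintype.card F ^ (i : ℕ)) := by
  rw [← Matrix.card_GL_field (𝔽 := F) (n := d)]
  exact Nat.card_congr (H47.IsoGrp.toGL (Fin d) F).toEquiv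

instance (V : Type*) [AddCommGroup V] [Module F V] [Finite V] : Finite (V ≃ₗ[F] V) :=
  Finite.of_injective (fun e : V ≃ₗ[F] V => (e : V → V)) DFunLike.coe_injective

/-- transport to `GL_n` -/
theorem exists_embed {k d t n : ℕ} (hd : 1 ≤ d) (hn : k * d + t = n) :
    ∃ f : Wr (Fin k) ((Fin d → F) ≃ₗ[F] (Fin d → F)) ((Fin t → F) ≃ₗ[F] (Fin t → F)) →* Matrix.GeneralLinearGroup (Fin n) F,
      Function.Injective f := by
  have hne : Nonempty (Fin d) := ⟨⟨0, hd⟩⟩
  have e1 : Module.finrank F ((Fin k → (Fin d → F)) × (Fin t → F)) = Module.finrank F (Fin n → F) := by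
    rw [Module.finrank_prod, Module.finrank_pi_fintype]
    simp only [Module.finrank_fintype_fun_eq_card, Fintype.card_fin, Finset.sum_const, Finset.card_univ, smul_eq_mul]
    exact hn
  let e : ((Fin k → (Fin d → F)) × (Fin t → F)) ≃ₗ[F] (Fin n → F) := LinearEquiv.ofFinrankEq _ _ e1
  refine ⟨((H47.IsoGrp.toGL (Fin n) F).toMonoidHom.comp (cg e).toMonoidHom).comp rho, ?_⟩
  exact ((H47.IsoGrp.toGL (Fin n) F).injective.comp (cg e).injective).comp rho_injective

end Card

section GL2

variable {F : Type*} [Field F] [Fintype F]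

theorem two_cases : ∀ ε : Fin 2 → ℤˣ, ε = 1 ∨ ε = ![-1, -1] ∨ ε = ![1, -1] ∨ ε = ![-1, 1] := by decide

theorem pow_two_pow_eq {q : ℕ} (hF : Fintype.card F = q) (h4 : q % 4 = 3) {c : F} {m : ℕ} (h : c ^ 2 ^ m = 1) :
    c = 1 ∨ c = -1 := by
  have hc0 : c ≠ 0 := by
    rintro rfl
    rw [zero_pow (by positivity)] at h
    exact zero_ne_one h
  let u : Fˣ := Units.mk0 c hc0
  have h1 : orderOf u ∣ 2 ^ m := by
    apply orderOf_dvd_of_pow_eq_one
    apply Units.ext
    exact h
  have h3 : orderOf u ∣ q - 1 := by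
    have := orderOf_dvd_natCard u
    rwa [Nat.card_units, Nat.card_eq_fintype_card, hF] at this
  have h5 : orderOf u ∣ 2 := by
    obtain ⟨j, -, hj⟩ := (Nat.dvd_prime_pow Nat.prime_two).1 h1
    rw [hj] at h3 ⊢
    rcases Nat.lt_or_ge j 2 with h6 | h6
    · have : j = 0 ∨ j = 1 := by omega
      rcases this with rfl | rfl <;> norm_num
    · exfalso
      have : 2 ^ 2 ∣ q - 1 := (pow_dvd_pow 2 h6).trans h3
      omega
  have h6 : u ^ 2 = 1 := orderOf_dvd_iff_pow_eq_one.1 h5
  have h7 : c ^ 2 = 1 := congrArg Units.val h6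
  have : (c - 1) * (c + 1) = 0 := by linear_combination h7
  rcases mul_eq_zero.1 this with h | h
  · left; linear_combination h
  · right; linear_combination h

variable {q : ℕ} (hF : Fintype.card F = q) (h4 : q % 4 = 3)

include hF h4

theorem two_ne : (2 : F) ≠ 0 := odd_two_ne_zero (by rw [hF, Nat.odd_iff]; omega)

theorem card_sylow (P0 : Sylow 2 ((Fin 2 → F) ≃ₗ[F] (Fin 2 → F))) :
    16 ≤ Nat.card (P0 : Subgroup ((Fin 2 → F) ≃ₗ[F] (Fin 2 → F))) := by
  have hfact : Fact (Nat.Prime 2) := ⟨Nat.prime_two⟩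
  have hq : Odd q := by rw [Nat.odd_iff]; omega
  have hq1 : 1 < q := by rw [← hF]; exact Fintype.one_lt_card
  rw [Sylow.card_eq_multiplicity, card_L, hF, Nat.factorization_def _ Nat.prime_two]
  have h1 := v_gl_three hq hq1 h4 1 0 (by omega)
  rw [Nat.mul_one, Nat.add_zero] at h1
  rw [h1]
  have h3 : 3 ≤ padicValNat 2 (q ^ 2 - 1) := by
    apply (padicValNat_dvd_iff_le (pow_sub_ne hq hq1 2 (by omega))).1
    obtain ⟨m, rfl⟩ : ∃ m, q = 4 * m + 3 := ⟨q / 4, by omega⟩
    refine ⟨2 * m ^ 2 + 3 * m + 1, ?_⟩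
    have : (4 * m + 3) ^ 2 = 2 ^ 3 * (2 * m ^ 2 + 3 * m + 1) + 1 := by ring
    omega
  calc 16 = 2 ^ 4 := by norm_num
    _ ≤ _ := Nat.pow_le_pow_right (by norm_num) (by omega)

theorem exists_sq_ne (P0 : Sylow 2 ((Fin 2 → F) ≃ₗ[F] (Fin 2 → F))) : ∃ x ∈ (P0 : Subgroup ((Fin 2 → F) ≃ₗ[F] (Fin 2 → F))), x ^ 2 ≠ 1 := by
  by_contra hcon
  push Not at hcon
  have hcomm : ∀ a ∈ (P0 : Subgroup ((Fin 2 → F) ≃ₗ[F] (Fin 2 → F))),
      ∀ b ∈ (P0 : Subgroup ((Fin 2 → F) ≃ₗ[F] (Fin 2 → F))), a * b = b * a := by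
    intro a ha b hb
    have h1 := hcon a ha
    have h3 := hcon b hb
    have h5 := hcon (a * b) (mul_mem ha hb)
    rw [pow_two] at h1 h3 h5
    have e1 : a⁻¹ = a := inv_eq_of_mul_eq_one_left h1
    have e2 : b⁻¹ = b := inv_eq_of_mul_eq_one_left h3
    have e3 : (a * b)⁻¹ = a * b := inv_eq_of_mul_eq_one_left h5
    rw [mul_inv_rev, e1, e2] at e3
    exact e3.symm
  have h1 := card_dvd_two_pow (two_ne hF h4) (P0 : Subgroup ((Fin 2 → F) ≃ₗ[F] (Fin 2 → F))) hcomm hcon
  rw [Module.finrank_fintype_fun_eq_card, Fintype.card_fin] at h1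
  have h3 := Nat.le_of_dvd (by norm_num) h1
  have h5 := card_sylow hF h4 P0
  omega

open Classical in
theorem card_le_two (P0 : Sylow 2 ((Fin 2 → F) ≃ₗ[F] (Fin 2 → F))) (A : Subgroup ((Fin 2 → F) ≃ₗ[F] (Fin 2 → F)))
    (hc : ∀ a ∈ A, ∀ b ∈ A, a * b = b * a) (hs : ∀ a ∈ A, a ^ 2 = 1)
    (hn : ∀ x ∈ (P0 : Subgroup _), ∀ a ∈ A, x * a * x⁻¹ ∈ A) : Nat.card A ≤ 2 := by
  have h2 := two_ne hF h4
  have hr : finrank F (Fin 2 → F) = 2 := by rw [Module.finrank_fintype_fun_eq_card, Fintype.card_fin]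
  have hb0 := exists_le_range h2 A hc hs
  rw [hr] at hb0
  obtain ⟨b, hb⟩ := hb0
  by_contra hcon
  push Not at hcon
  have hcr : Nat.card (dg b).range = 4 := by
    rw [← Nat.card_congr (MonoidHom.ofInjective (dg_injective h2 b)).toEquiv, card_units_pi, Fintype.card_fin]; norm_num
  have hA : A = (dg b).range := by
    apply Subgroup.eq_of_le_of_card_ge hb
    rw [hcr]
    have h1 := Subgroup.card_dvd_of_le hb
    rw [hcr] at h1
    have : Nat.card A ≤ 4 := Nat.le_of_dvd (by norm_num) h1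
    interval_cases h : Nat.card A
    · omega
    · omega
  set a := dg b ![1, -1] with ha
  set z := dg b ![-1, -1] with hz
  have hzneg : z = LinearEquiv.neg F := by
    apply LinearEquiv.toLinearMap_injective
    apply b.ext
    intro i
    change dg b ![-1, -1] (b i) = - b i
    rw [dg_apply]
    fin_cases i <;> simp
  have hza : dg b ![-1, 1] = z * a := by
    rw [hz, ha, ← map_mul]
    congr 1
    decide
  have haA : a ∈ A := by rw [hA]; exact ⟨_, rfl⟩
  have hconj : ∀ x ∈ (P0 : Subgroup _), x * a * x⁻¹ = a ∨ x * a * x⁻¹ = z * a := by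
    intro x hx
    have h1 := hn x hx a haA
    rw [hA] at h1
    obtain ⟨ε, hε⟩ := h1
    rcases two_cases ε with h | h | h | h
    · exfalso
      rw [h, map_one] at hε
      have h3 : a = 1 := by
        have := hε.symm
        rwa [mul_inv_eq_one, mul_eq_left] at this
      have h5 := dg_injective h2 b (h3.trans (map_one (dg b)).symm)
      exact absurd h5 (by decide)
    · exfalso
      rw [h, ← hz] at hε
      have h3 : a = z := by
        have h6 : x * a = z * x := by rw [hε]; group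
        rw [hzneg, ← neg_comm] at h6
        rw [hzneg]
        exact mul_left_cancel h6
      have h5 := dg_injective h2 b h3
      exact absurd h5 (by decide)
    · left
      rw [← hε, h]
    · right
      rw [← hε, h, hza]
  -- the centralizer
  let B : Subgroup ((Fin 2 → F) ≃ₗ[F] (Fin 2 → F)) := (P0 : Subgroup _) ⊓ Subgroup.centralizer {a}
  have hB : B ≤ (dg b).range := by
    rintro x ⟨hx, hxa⟩
    have hxa' : x * a = a * x := by
      have := Subgroup.mem_centralizer_iff.1 hxa a rfl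
      exact this.symm
    have hxi : ∀ i, ∃ c : F, x (b i) = c • b i := by
      intro i
      have h3 : a (x (b i)) = x (a (b i)) := congrArg (fun w : (Fin 2 → F) ≃ₗ[F] (Fin 2 → F) => w (b i)) hxa'.symm
      have h5 : a (x (b i)) = dg b ![1, -1] ((b.repr (x (b i))) 0 • b 0 + (b.repr (x (b i))) 1 • b 1) := by
        rw [← Fin.sum_univ_two (fun j => (b.repr (x (b i))) j • b j), b.sum_repr]
      rw [map_add, map_smul, map_smul, dg_apply, dg_apply] at h5
      have h6 : x (b i) = (b.repr (x (b i))) 0 • b 0 + (b.repr (x (b i))) 1 • b 1 := by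
        rw [← Fin.sum_univ_two (fun j => (b.repr (x (b i))) j • b j), b.sum_repr]
      rw [ha, dg_apply, map_smul] at h3
      fin_cases i
      · refine ⟨b.repr (x (b 0)) 0, ?_⟩
        simp only [Fin.zero_eta, Fin.isValue, Matrix.cons_val_zero, Units.val_one, Int.cast_one, one_smul,
          Matrix.cons_val_one, Units.val_neg, Int.cast_neg, neg_smul, smul_neg] at h3 h5 h6 ⊢
        rw [← ha, h5] at h3
        have h7 : (2 : F) • (b.repr (x (b 0)) 1 • b 1) = 0 := by
          rw [two_smul]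
          have h8 := h3.trans h6
          have h9 : - (b.repr (x (b 0)) 1 • b 1) = b.repr (x (b 0)) 1 • b 1 := add_left_cancel h8
          nth_rewrite 1 [← h9]
          simp
        rw [(smul_eq_zero.1 h7).resolve_left h2, add_zero] at h6
        exact h6
      · refine ⟨b.repr (x (b 1)) 1, ?_⟩
        simp only [Fin.mk_one, Fin.isValue, Matrix.cons_val_zero, Units.val_one, Int.cast_one, one_smul,
          Matrix.cons_val_one, Units.val_neg, Int.cast_neg, neg_smul, smul_neg] at h3 h5 h6 ⊢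
        rw [← ha, h5] at h3
        have h7 : (2 : F) • (b.repr (x (b 1)) 0 • b 0) = 0 := by
          rw [two_smul]
          have h8 : b.repr (x (b 1)) 0 • b 0 + -(b.repr (x (b 1)) 1 • b 1) =
              -(b.repr (x (b 1)) 0 • b 0 + b.repr (x (b 1)) 1 • b 1) := by
            rw [h3]
            exact congrArg Neg.neg h6
          rw [neg_add] at h8
          have h9 : b.repr (x (b 1)) 0 • b 0 = -(b.repr (x (b 1)) 0 • b 0) := add_right_cancel h8
          nth_rewrite 1 [h9]
          simp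
        rw [(smul_eq_zero.1 h7).resolve_left h2] at h6
        exact h6.trans (zero_add _)
    choose c hc using hxi
    obtain ⟨m, hm⟩ := P0.isPGroup' ⟨x, hx⟩
    have hm' : x ^ 2 ^ m = 1 := congrArg (fun w : (P0 : Subgroup ((Fin 2 → F) ≃ₗ[F] (Fin 2 → F))) => (w : (Fin 2 → F) ≃ₗ[F] (Fin 2 → F))) hm
    have hpow : ∀ i (k : ℕ), (x ^ k) (b i) = c i ^ k • b i := by
      intro i k
      induction k with
      | zero => simp
      | succ k ih =>
        rw [pow_succ, LinearEquiv.mul_apply, hc, map_smul, ih, smul_smul, pow_succ, mul_comm]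
    have hci : ∀ i, c i = 1 ∨ c i = -1 := by
      intro i
      apply pow_two_pow_eq hF h4 (m := m)
      have h3 := hpow i (2 ^ m)
      rw [hm'] at h3
      have h5 : (1 : F) • b i = c i ^ 2 ^ m • b i := by rw [one_smul]; exact h3
      exact (smul_left_injective F (b.ne_zero i) h5).symm
    refine ⟨fun i => if c i = 1 then 1 else -1, ?_⟩
    apply LinearEquiv.toLinearMap_injective
    apply b.ext
    intro i
    change dg b _ (b i) = x (b i)
    rw [dg_apply, hc]
    rcases hci i with h | h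
    · rw [if_pos h, h]; simp
    · by_cases h' : c i = 1
      · rw [if_pos h', h']; simp
      · rw [if_neg h', h]; simp
  have hBc : Nat.card B ≤ 4 := by
    rw [← hcr]
    exact Subgroup.card_le_of_le hB
  -- index at most two
  have hmemB : ∀ x ∈ (P0 : Subgroup _), x * a * x⁻¹ = a → x ∈ B := by
    intro x hx h
    refine ⟨hx, ?_⟩
    change x ∈ Subgroup.centralizer {a}
    rw [Subgroup.mem_centralizer_singleton_iff]
    rw [mul_inv_eq_iff_eq_mul] at h
    exact h
  have hP8 : Nat.card (P0 : Subgroup ((Fin 2 → F) ≃ₗ[F] (Fin 2 → F))) ≤ 8 := by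
    classical
    by_cases hall : ∀ x ∈ (P0 : Subgroup _), x * a * x⁻¹ = a
    · have : (P0 : Subgroup ((Fin 2 → F) ≃ₗ[F] (Fin 2 → F))) ≤ B := fun x hx => hmemB x hx (hall x hx)
      have := Subgroup.card_le_of_le this
      omega
    · push Not at hall
      obtain ⟨x0, hx0, hx0'⟩ := hall
      have hx0'' := (hconj x0 hx0).resolve_left hx0'
      have key : ∀ y ∈ (P0 : Subgroup _), y * a * y⁻¹ ≠ a → x0⁻¹ * y ∈ B := by
        intro y hy hy'
        have hy'' := (hconj y hy).resolve_left hy'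
        apply hmemB _ (mul_mem (inv_mem hx0) hy)
        have : x0⁻¹ * y * a * (x0⁻¹ * y)⁻¹ = x0⁻¹ * (y * a * y⁻¹) * x0 := by group
        rw [this, hy'', ← hx0'']
        group
      have hle : Nat.card (P0 : Subgroup ((Fin 2 → F) ≃ₗ[F] (Fin 2 → F))) ≤ Nat.card (Bool × B) := by
        apply Nat.card_le_card_of_injective (fun y : (P0 : Subgroup ((Fin 2 → F) ≃ₗ[F] (Fin 2 → F))) =>
          if h : (y : (Fin 2 → F) ≃ₗ[F] (Fin 2 → F)) * a * (y : (Fin 2 → F) ≃ₗ[F] (Fin 2 → F))⁻¹ = a then
            ((false, ⟨y, hmemB y y.2 h⟩) : Bool × B) else (true, ⟨x0⁻¹ * y, key y y.2 h⟩))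
        intro y y' h
        simp only at h
        split_ifs at h with h1 h2' h3
        · apply Subtype.ext
          exact congrArg (fun w : Bool × B => ((w.2 : B) : (Fin 2 → F) ≃ₗ[F] (Fin 2 → F))) h
        · exact absurd (congrArg Prod.fst h) (by simp)
        · exact absurd (congrArg Prod.fst h) (by simp)
        · apply Subtype.ext
          exact mul_left_cancel (congrArg (fun w : Bool × B => ((w.2 : B) : (Fin 2 → F) ≃ₗ[F] (Fin 2 → F))) h)
      rw [Nat.card_prod, Nat.card_eq_fintype_card (α := Bool), Fintype.card_bool] at hle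
      omega
  have h16 : 16 ≤ Nat.card (P0 : Subgroup ((Fin 2 → F) ≃ₗ[F] (Fin 2 → F))) := card_sylow hF h4 P0
  omega

end GL2

end H42.NormRank
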