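import Mathlib

set_option autoImplicit false

/-! Counting normalisers containing an element; solubilisers. -/

namespace H42.SolCount

open scoped commutatorElement

theorem map_conj_eq_iff {G : Type*} [Group G] {U : Subgroup G} {g h : G} :
    U.map (MulAut.conj g).toMonoidHom = U.map (MulAut.conj h).toMonoidHom ↔ h⁻¹ * g ∈ Subgroup.normalizer (U : Set G) := by
  have key : ∀ (a v : G), v ∈ U.map (MulAut.conj a).toMonoidHom ↔ a⁻¹ * v * a ∈ U := by
    intro a v
    rw [Subgroup.mem_map]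
    constructor
    · rintro ⟨w, hw, rfl⟩
      change a⁻¹ * (a * w * a⁻¹) * a ∈ U
      rwa [show a⁻¹ * (a * w * a⁻¹) * a = w by group]
    · intro hv
      refine ⟨_, hv, ?_⟩
      change a * (a⁻¹ * v * a) * a⁻¹ = v
      group
  rw [Subgroup.mem_normalizer_iff]
  constructor
  · intro h1 v
    have h2 := (SetLike.ext_iff.1 h1) (g * v * g⁻¹)
    rw [key, key] at h2
    rw [show g⁻¹ * (g * v * g⁻¹) * g = v by group] at h2
    rw [h2]
    rw [show h⁻¹ * (g * v * g⁻¹) * h = h⁻¹ * g * v * (h⁻¹ * g)⁻¹ by group]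
  · intro h1
    ext v
    rw [key, key, h1]
    rw [show h⁻¹ * g * (g⁻¹ * v * g) * (h⁻¹ * g)⁻¹ = h⁻¹ * v * h by group]

theorem mem_normalizer_conj {G : Type*} [Group G] {U : Subgroup G} {g x : G} :
    x ∈ Subgroup.normalizer ((U.map (MulAut.conj g).toMonoidHom : Subgroup G) : Set G) ↔
      g⁻¹ * x * g ∈ Subgroup.normalizer (U : Set G) := by
  have h1 : (g⁻¹ * x * g ∈ Subgroup.normalizer (U : Set G)) ↔
      U.map (MulAut.conj (x * g)).toMonoidHom = U.map (MulAut.conj g).toMonoidHom := by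
    rw [map_conj_eq_iff, mul_assoc]
  rw [h1, Subgroup.mem_normalizer_iff]
  have key : ∀ (a v : G), v ∈ U.map (MulAut.conj a).toMonoidHom ↔ a⁻¹ * v * a ∈ U := by
    intro a v
    rw [Subgroup.mem_map]
    constructor
    · rintro ⟨w, hw, rfl⟩
      change a⁻¹ * (a * w * a⁻¹) * a ∈ U
      rwa [show a⁻¹ * (a * w * a⁻¹) * a = w by group]
    · intro hv
      refine ⟨_, hv, ?_⟩
      change a * (a⁻¹ * v * a) * a⁻¹ = v
      group
  rw [SetLike.ext_iff]
  constructor
  · intro h v
    have h2 := h (x⁻¹ * v * x)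
    rw [show x * (x⁻¹ * v * x) * x⁻¹ = v by group] at h2
    rw [← h2, key, key]
    rw [show (x * g)⁻¹ * v * (x * g) = g⁻¹ * (x⁻¹ * v * x) * g by group]
  · intro h v
    have h2 := h (x * v * x⁻¹)
    rw [← h2, key, key]
    rw [show (x * g)⁻¹ * (x * v * x⁻¹) * (x * g) = g⁻¹ * v * g by group]

/-- counting the conjugates of `U` normalised by `x` -/
theorem count_normalizers {G : Type*} [Group G] [Finite G] (U : Subgroup G) (x : G) :
    Nat.card {V : Subgroup G // (∃ g, V = U.map (MulAut.conj g).toMonoidHom) ∧ x ∈ Subgroup.normalizer (V : Set G)} *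
        Nat.card (Subgroup.normalizer (U : Set G)) =
      Nat.card (Subgroup.centralizer ({x} : Set G)) * Nat.card {y : G // IsConj x y ∧ y ∈ Subgroup.normalizer (U : Set G)} := by
  classical
  let T := {g : G // g⁻¹ * x * g ∈ Subgroup.normalizer (U : Set G)}
  rw [← Nat.card_prod, ← Nat.card_prod]
  trans Nat.card T
  · apply Nat.card_congr
    choose g0 hg0 using fun V : {V : Subgroup G // (∃ g, V = U.map (MulAut.conj g).toMonoidHom) ∧ x ∈ Subgroup.normalizer (V : Set G)} => V.2.1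
    refine Equiv.ofBijective (fun z => (⟨g0 z.1 * z.2, ?_⟩ : T)) ⟨?_, ?_⟩
    · have h1 := z.1.2.2
      rw [hg0 z.1, mem_normalizer_conj] at h1
      have h2 := Subgroup.mul_mem _ (Subgroup.mul_mem _ (Subgroup.inv_mem _ z.2.2) h1) z.2.2
      rwa [show ((z.2 : Subgroup.normalizer (U : Set G)) : G)⁻¹ * ((g0 z.1)⁻¹ * x * g0 z.1) * (z.2 : G) =
        (g0 z.1 * z.2)⁻¹ * x * (g0 z.1 * z.2) by group] at h2
    · rintro ⟨V, n⟩ ⟨V', n'⟩ h
      have h1 : g0 V * (n : G) = g0 V' * n' := congrArg Subtype.val h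
      have h2 : V = V' := by
        apply Subtype.ext
        rw [hg0 V, hg0 V', map_conj_eq_iff]
        have : (g0 V')⁻¹ * g0 V = n' * (n : G)⁻¹ := by
          rw [eq_mul_inv_iff_mul_eq, mul_assoc, h1, inv_mul_cancel_left]
        rw [this]
        exact Subgroup.mul_mem _ n'.2 (Subgroup.inv_mem _ n.2)
      subst h2
      rw [Subtype.ext (mul_left_cancel h1)]
    · rintro ⟨g, hg⟩
      have hV : x ∈ Subgroup.normalizer ((U.map (MulAut.conj g).toMonoidHom : Subgroup G) : Set G) :=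
        mem_normalizer_conj.2 hg
      set V : {V : Subgroup G // (∃ g, V = U.map (MulAut.conj g).toMonoidHom) ∧ x ∈ Subgroup.normalizer (V : Set G)} :=
        ⟨U.map (MulAut.conj g).toMonoidHom, ⟨g, rfl⟩, hV⟩ with hVdef
      have h1 : U.map (MulAut.conj g).toMonoidHom = U.map (MulAut.conj (g0 V)).toMonoidHom := hg0 V
      rw [map_conj_eq_iff] at h1
      exact ⟨(V, ⟨(g0 V)⁻¹ * g, h1⟩), Subtype.ext (mul_inv_cancel_left _ _)⟩
  · symm
    apply Nat.card_congr
    have hex : ∀ y : {y : G // IsConj x y ∧ y ∈ Subgroup.normalizer (U : Set G)}, ∃ g : G, g⁻¹ * x * g = y := by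
      intro y
      obtain ⟨c, hc⟩ := isConj_iff.1 y.2.1
      exact ⟨c⁻¹, by rw [inv_inv, hc]⟩
    choose g0 hg0 using hex
    refine Equiv.ofBijective (fun z => (⟨z.1 * g0 z.2, ?_⟩ : T)) ⟨?_, ?_⟩
    · have h1 := z.2.2.2
      have h2 := Subgroup.mem_centralizer_singleton_iff.1 z.1.2
      rw [← hg0] at h1
      have h3 : ((z.1 : G) * g0 z.2)⁻¹ * x * (z.1 * g0 z.2) = (g0 z.2)⁻¹ * x * g0 z.2 := by
        calc ((z.1 : G) * g0 z.2)⁻¹ * x * (z.1 * g0 z.2) = (g0 z.2)⁻¹ * ((z.1 : G)⁻¹ * (x * z.1)) * g0 z.2 := by group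
          _ = (g0 z.2)⁻¹ * ((z.1 : G)⁻¹ * (z.1 * x)) * g0 z.2 := by rw [h2]
          _ = _ := by group
      rw [h3]; exact h1
    · rintro ⟨c, y⟩ ⟨c', y'⟩ h
      have h1 : (c : G) * g0 y = c' * g0 y' := congrArg Subtype.val h
      have key : ∀ (c : Subgroup.centralizer ({x} : Set G)) (y : {y : G // IsConj x y ∧ y ∈ Subgroup.normalizer (U : Set G)}),
          ((c : G) * g0 y)⁻¹ * x * (c * g0 y) = y := by
        intro c y
        have h2 := Subgroup.mem_centralizer_singleton_iff.1 c.2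
        calc ((c : G) * g0 y)⁻¹ * x * (c * g0 y) = (g0 y)⁻¹ * ((c : G)⁻¹ * (x * c)) * g0 y := by group
          _ = (g0 y)⁻¹ * ((c : G)⁻¹ * (c * x)) * g0 y := by rw [h2]
          _ = (g0 y)⁻¹ * x * g0 y := by group
          _ = y := hg0 y
      have h2 : y = y' := by
        apply Subtype.ext
        rw [← key c y, ← key c' y', h1]
      subst h2
      rw [Subtype.ext (mul_right_cancel h1)]
    · rintro ⟨g, hg⟩
      set y : {y : G // IsConj x y ∧ y ∈ Subgroup.normalizer (U : Set G)} :=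
        ⟨g⁻¹ * x * g, isConj_iff.2 ⟨g⁻¹, by group⟩, hg⟩ with hy
      have h1 : (g0 y)⁻¹ * x * g0 y = g⁻¹ * x * g := hg0 y
      refine ⟨(⟨g * (g0 y)⁻¹, ?_⟩, y), Subtype.ext (inv_mul_cancel_right _ _)⟩
      rw [Subgroup.mem_centralizer_singleton_iff]
      calc g * (g0 y)⁻¹ * x = g * ((g0 y)⁻¹ * x * g0 y) * (g0 y)⁻¹ := by group
        _ = g * (g⁻¹ * x * g) * (g0 y)⁻¹ := by rw [h1]
        _ = _ := by group

theorem isSolvable_of_commutator_mem {G : Type*} [Group G] {H N : Subgroup G} (hN : Group.IsSolvable N)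
    (h : ∀ a ∈ H, ∀ b ∈ H, a * b * a⁻¹ * b⁻¹ ∈ N) : Group.IsSolvable H := by
  have h1 : (commutator H).map H.subtype ≤ N := by
    rw [Subgroup.map_le_iff_le_comap, commutator_def, Subgroup.commutator_le]
    intro a _ b _
    rw [Subgroup.mem_comap]
    exact h a a.2 b b.2
  have h2 : Group.IsSolvable (commutator H) := by
    let f : commutator H →* N :=
      { toFun := fun c => ⟨((c : H) : G), h1 (Subgroup.mem_map.2 ⟨c, c.2, rfl⟩)⟩
        map_one' := rfl
        map_mul' := fun _ _ => rfl }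
    have := hN
    exact Group.isSolvable_of_isSolvable_injective (f := f) (by
      intro a b hab
      have h3 : ((a : H) : G) = ((b : H) : G) := congrArg (fun w : N => (w : G)) hab
      exact Subtype.ext (Subtype.ext h3))
  exact (Group.isSolvable_iff_subgroup_quotient (commutator H)).2
    ⟨h2, inferInstanceAs (Group.IsSolvable (Abelianization H))⟩

/-- a non-trivial solvable group has a non-trivial element commuting with all its conjugates -/
theorem exists_abelian_elem {G : Type*} [Group G] {H : Subgroup G} (hH : Group.IsSolvable H) (hne : ∃ x ∈ H, x ≠ 1) :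
    ∃ a ∈ H, a ≠ 1 ∧ ∀ h ∈ H, h * a * h⁻¹ * a = a * (h * a * h⁻¹) := by
  classical
  obtain ⟨n, hn⟩ := hH.solvable
  have hex : ∃ n, derivedSeries H n = ⊥ := ⟨n, hn⟩
  have hmin := Nat.find_spec hex
  have hpos : Nat.find hex ≠ 0 := by
    intro h0
    rw [h0, derivedSeries_zero] at hmin
    obtain ⟨x, hx, hx1⟩ := hne
    have h1 : (⟨x, hx⟩ : H) ∈ (⊤ : Subgroup H) := Subgroup.mem_top _
    rw [hmin, Subgroup.mem_bot] at h1
    exact hx1 (congrArg Subtype.val h1)
  obtain ⟨k, hk⟩ := Nat.exists_eq_succ_of_ne_zero hpos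
  have h1 : derivedSeries H k ≠ ⊥ := Nat.find_min hex (by omega)
  rw [hk, Nat.succ_eq_add_one, derivedSeries_succ] at hmin
  obtain ⟨⟨a, ha⟩, ha1⟩ := Subgroup.ne_bot_iff_exists_ne_one.1 h1
  have hnorm : (derivedSeries H k).Normal := inferInstance
  refine ⟨a, a.2, ?_, ?_⟩
  · intro h
    exact ha1 (Subtype.ext (Subtype.ext h))
  · intro h hh
    have h2 : (⟨h, hh⟩ : H) * a * (⟨h, hh⟩ : H)⁻¹ ∈ derivedSeries H k := hnorm.conj_mem _ ha _
    have h3 : ⁅(⟨h, hh⟩ : H) * a * (⟨h, hh⟩ : H)⁻¹, a⁆ ∈ ⁅derivedSeries H k, derivedSeries H k⁆ :=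
      Subgroup.commutator_mem_commutator h2 ha
    rw [hmin, Subgroup.mem_bot, commutatorElement_eq_one_iff_mul_comm] at h3
    exact congrArg Subtype.val h3

/-- the solubiliser count is invariant under isomorphisms -/
theorem card_sol_equiv {G G' : Type*} [Group G] [Group G'] (e : G ≃* G') (x : G) :
    Nat.card {y : G' // Group.IsSolvable (Subgroup.closure ({e x, y} : Set G'))} =
      Nat.card {y : G // Group.IsSolvable (Subgroup.closure ({x, y} : Set G))} := by
  symm
  apply Nat.card_congr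
  refine Equiv.subtypeEquiv e.toEquiv ?_
  intro y
  have h1 : Subgroup.closure ({e x, e y} : Set G') = (Subgroup.closure ({x, y} : Set G)).map e.toMonoidHom := by
    rw [MonoidHom.map_closure]
    congr 1
    rw [Set.image_pair]
    rfl
  change _ ↔ Group.IsSolvable (Subgroup.closure ({e x, e y} : Set G'))
  rw [h1]
  let f := Subgroup.equivMapOfInjective (Subgroup.closure ({x, y} : Set G)) e.toMonoidHom e.injective
  constructor
  · intro h
    exact Group.isSolvable_of_surjective (f := f.toMonoidHom) f.surjective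
  · intro h
    exact Group.isSolvable_of_isSolvable_injective (f := f.toMonoidHom) f.injective

/-- torus-like subgroups -/
structure IsTorus {G : Type*} [Group G] (U : Subgroup G) (c : ℕ) : Prop where
  cent : ∀ u ∈ U, u ≠ 1 → Subgroup.centralizer {u} = U
  odd : ¬ 2 ∣ Nat.card U
  one_lt : 1 < Nat.card U
  hc : c = 2 ∨ c = 4
  card : Nat.card (Subgroup.normalizer (U : Set G)) = c * Nat.card U

variable {G : Type*} [Group G] [Finite G] {U : Subgroup G} {c : ℕ}

omit [Finite G] in
theorem IsTorus.comm (hU : IsTorus U c) {a b : G} (ha : a ∈ U) (hb : b ∈ U) : a * b = b * a := by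
  by_cases hb1 : b = 1
  · rw [hb1, mul_one, one_mul]
  · rw [← hU.cent b hb hb1, Subgroup.mem_centralizer_singleton_iff] at ha
    exact ha

theorem IsTorus.relIndex (hU : IsTorus U c) : U.relIndex (Subgroup.normalizer (U : Set G)) = c := by
  have h1 := Subgroup.card_mul_index (U.subgroupOf (Subgroup.normalizer (U : Set G)))
  rw [hU.card, Nat.card_congr (Subgroup.subgroupOfEquivOfLe (Subgroup.le_normalizer (H := U))).toEquiv, mul_comm] at h1
  exact Nat.eq_of_mul_eq_mul_right (Nat.card_pos (α := U)) h1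

theorem IsTorus.pow_mem (hU : IsTorus U c) {g : G} (hg : g ∈ Subgroup.normalizer (U : Set G)) : g ^ c ∈ U := by
  have h1 := Subgroup.pow_index_mem (U.subgroupOf (Subgroup.normalizer (U : Set G))) ⟨g, hg⟩
  rw [Subgroup.mem_subgroupOf] at h1
  have h2 : (U.subgroupOf (Subgroup.normalizer (U : Set G))).index = c := hU.relIndex
  rw [h2] at h1
  exact h1

/-- elements of odd order of the normaliser lie in the torus -/
theorem IsTorus.mem_of_odd (hU : IsTorus U c) {g : G} (hg : g ∈ Subgroup.normalizer (U : Set G)) (ho : ¬ 2 ∣ orderOf g) :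
    g ∈ U := by
  have h1 := hU.pow_mem hg
  have h2 : Nat.Coprime c (orderOf g) := by
    have h3 : Nat.Coprime 2 (orderOf g) := (Nat.Prime.coprime_iff_not_dvd Nat.prime_two).2 ho
    rcases hU.hc with h | h
    · rwa [h]
    · rw [h, show 4 = 2 ^ 2 by norm_num]
      exact Nat.Coprime.pow_left 2 h3
  have h3 : g ∈ Subgroup.zpowers (g ^ c) := by
    rw [mem_zpowers_pow_iff]
    exact h2
  exact (Subgroup.zpowers_le.2 h1) h3

/-- the quotient of the normaliser is abelian -/
theorem IsTorus.commutator_mem (hU : IsTorus U c) {a b : G} (ha : a ∈ Subgroup.normalizer (U : Set G))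
    (hb : b ∈ Subgroup.normalizer (U : Set G)) : a * b * a⁻¹ * b⁻¹ ∈ U := by
  have hfact : Fact (Nat.Prime 2) := ⟨Nat.prime_two⟩
  let Q := Subgroup.normalizer (U : Set G) ⧸ U.subgroupOf (Subgroup.normalizer (U : Set G))
  have h1 : Nat.card Q = c := hU.relIndex
  have hcomm : ∀ x y : Q, x * y = y * x := by
    rcases hU.hc with h | h
    · have h2 : IsCyclic Q := isCyclic_of_prime_card (p := 2) (by rw [h1, h])
      have := IsCyclic.commGroup (α := Q)
      intro x y
      obtain ⟨g, hg⟩ := h2.exists_generator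
      obtain ⟨i, rfl⟩ := Subgroup.mem_zpowers_iff.1 (hg x)
      obtain ⟨j, rfl⟩ := Subgroup.mem_zpowers_iff.1 (hg y)
      rw [← zpow_add, ← zpow_add, add_comm]
    · have h2 : Nat.card Q = 2 ^ 2 := by rw [h1, h]; norm_num
      have := IsPGroup.isMulCommutative_of_card_eq_prime_sq h2
      intro x y
      exact this.is_comm.comm x y
  have h3 := hcomm (QuotientGroup.mk ⟨a, ha⟩) (QuotientGroup.mk ⟨b, hb⟩)
  rw [← QuotientGroup.mk_mul, ← QuotientGroup.mk_mul, eq_comm, QuotientGroup.eq, Subgroup.mem_subgroupOf] at h3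
  -- (b a)⁻¹ (a b) ∈ U
  have h4 : (b * a)⁻¹ * (a * b) ∈ U := h3
  have h5 := (Subgroup.mem_normalizer_iff.1 (Subgroup.mul_mem _ hb ha) _).1 h4
  rw [show b * a * ((b * a)⁻¹ * (a * b)) * (b * a)⁻¹ = a * b * a⁻¹ * b⁻¹ by group] at h5
  exact h5

theorem IsTorus.isSolvable (hU : IsTorus U c) : Group.IsSolvable (Subgroup.normalizer (U : Set G)) := by
  have h1 : Group.IsSolvable U := Group.isSolvable_of_comm (fun a b => Subtype.ext (hU.comm a.2 b.2))
  exact isSolvable_of_commutator_mem h1 (fun a ha b hb => hU.commutator_mem ha hb)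

omit [Finite G] in
theorem IsTorus.conj_centralizer_eq {a h : G} (hU : IsTorus U c) (ha : a ∈ U) (ha1 : a ≠ 1)
    (hh : h * a * h⁻¹ ∈ U) : h ∈ Subgroup.normalizer (U : Set G) := by
  have h1 : h * a * h⁻¹ ≠ 1 := by
    intro h2
    apply ha1
    have : a = h⁻¹ * (h * a * h⁻¹) * h := by group
    rw [this, h2]; group
  rw [Subgroup.mem_normalizer_iff]
  intro v
  have e1 : v ∈ U ↔ v * a = a * v := by
    rw [← Subgroup.mem_centralizer_singleton_iff, hU.cent a ha ha1]
  have e2 : h * v * h⁻¹ ∈ U ↔ h * v * h⁻¹ * (h * a * h⁻¹) = h * a * h⁻¹ * (h * v * h⁻¹) := by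
    rw [← Subgroup.mem_centralizer_singleton_iff, hU.cent _ hh h1]
  rw [e1, e2]
  constructor
  · intro h3
    calc h * v * h⁻¹ * (h * a * h⁻¹) = h * (v * a) * h⁻¹ := by group
      _ = h * (a * v) * h⁻¹ := by rw [h3]
      _ = _ := by group
  · intro h3
    calc v * a = h⁻¹ * (h * v * h⁻¹ * (h * a * h⁻¹)) * h := by group
      _ = h⁻¹ * (h * a * h⁻¹ * (h * v * h⁻¹)) * h := by rw [h3]
      _ = _ := by group

omit [Finite G] in
/-- an involution normalising a torus inverts it -/
theorem IsTorus.inverts (hU : IsTorus U c) {z : G} (hz : z ∈ Subgroup.normalizer (U : Set G)) (hz2 : orderOf z = 2)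
    {u : G} (hu : u ∈ U) : z * u * z⁻¹ = u⁻¹ := by
  have hzz : z * z = 1 := by rw [← pow_two, ← hz2, pow_orderOf_eq_one]
  have hzU : z ∉ U := by
    intro h
    have h1 := orderOf_dvd_natCard (⟨z, h⟩ : U)
    rw [← Subgroup.orderOf_coe] at h1
    apply hU.odd
    rwa [show orderOf ((⟨z, h⟩ : U) : G) = 2 from hz2] at h1
  have h1 : z * u * z⁻¹ ∈ U := (Subgroup.mem_normalizer_iff.1 hz _).1 hu
  have h2 : z * u * z⁻¹ * u ∈ U := U.mul_mem h1 hu
  by_contra hne
  have h3 : z * u * z⁻¹ * u ≠ 1 := by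
    intro h
    exact hne (eq_inv_of_mul_eq_one_left h)
  have hzi : z⁻¹ = z := inv_eq_of_mul_eq_one_right hzz
  apply hzU
  rw [← hU.cent _ h2 h3, Subgroup.mem_centralizer_singleton_iff]
  calc z * (z * u * z⁻¹ * u) = (z * z) * u * z⁻¹ * u := by group
    _ = u * z⁻¹ * u := by rw [hzz, one_mul]
    _ = u * (z * u * z⁻¹) * z := by rw [hzi]; simp only [mul_assoc, hzz, mul_one]
    _ = (z * u * z⁻¹) * u * z := by rw [hU.comm hu h1]
    _ = _ := by group

omit [Finite G] in
theorem IsTorus.not_mem (hU : IsTorus U c) {z : G} (hz2 : orderOf z = 2) : z ∉ U := by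
  intro h
  have h1 := orderOf_dvd_natCard (⟨z, h⟩ : U)
  rw [← Subgroup.orderOf_coe] at h1
  apply hU.odd
  rwa [show orderOf ((⟨z, h⟩ : U) : G) = 2 from hz2] at h1

/-- the involutions of the normaliser -/
theorem IsTorus.involution_iff (hU : IsTorus U c) {z : G} (hz : z ∈ Subgroup.normalizer (U : Set G)) (hz2 : orderOf z = 2)
    {y : G} : (y ∈ Subgroup.normalizer (U : Set G) ∧ orderOf y = 2) ↔ z⁻¹ * y ∈ U := by
  have hzz : z * z = 1 := by rw [← pow_two, ← hz2, pow_orderOf_eq_one]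
  have hzi : z⁻¹ = z := inv_eq_of_mul_eq_one_right hzz
  constructor
  · rintro ⟨hy, hy2⟩
    have hu0 : ∃ u ∈ U, u ≠ 1 := by
      have := hU.one_lt
      have hnt : Nontrivial U := Finite.one_lt_card_iff_nontrivial.1 this
      obtain ⟨u, hu⟩ := exists_ne (1 : U)
      exact ⟨u, u.2, fun h => hu (Subtype.ext h)⟩
    obtain ⟨u, hu, hu1⟩ := hu0
    rw [← hU.cent u hu hu1, Subgroup.mem_centralizer_singleton_iff]
    have e1 := hU.inverts hy hy2 hu
    have e2 := hU.inverts hz hz2 hu
    have e3 : y * u = u⁻¹ * y := by rw [← e1]; group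
    have e4 : z⁻¹ * u⁻¹ = u * z⁻¹ := by
      rw [← e2]; group
    calc z⁻¹ * y * u = z⁻¹ * (y * u) := by group
      _ = z⁻¹ * u⁻¹ * y := by rw [e3]; group
      _ = _ := by rw [e4]; group
  · intro h
    have hy : y = z * (z⁻¹ * y) := by group
    have hyN : y ∈ Subgroup.normalizer (U : Set G) := by
      rw [hy]; exact Subgroup.mul_mem _ hz (Subgroup.le_normalizer h)
    refine ⟨hyN, ?_⟩
    have hfact : Fact (Nat.Prime 2) := ⟨Nat.prime_two⟩
    apply orderOf_eq_prime
    · have e1 := hU.inverts hz hz2 h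
      rw [pow_two]
      have e2 : z * (z⁻¹ * y) = (z⁻¹ * y)⁻¹ * z := by rw [← e1]; group
      calc y * y = z * (z⁻¹ * y) * (z * (z⁻¹ * y)) := by rw [← hy]
        _ = (z⁻¹ * y)⁻¹ * z * (z * (z⁻¹ * y)) := by rw [e2]
        _ = (z⁻¹ * y)⁻¹ * (z * z) * (z⁻¹ * y) := by group
        _ = 1 := by rw [hzz]; group
    · rintro rfl
      rw [mul_one] at h
      exact hU.not_mem hz2 (by rw [← hzi]; exact h)

theorem IsTorus.card_involutions (hU : IsTorus U c) {z : G} (hz : z ∈ Subgroup.normalizer (U : Set G)) (hz2 : orderOf z = 2) :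
    Nat.card {y : G // y ∈ Subgroup.normalizer (U : Set G) ∧ orderOf y = 2} = Nat.card U := by
  apply Nat.card_congr
  exact
    { toFun := fun y => ⟨z⁻¹ * y, (hU.involution_iff hz hz2).1 y.2⟩
      invFun := fun u => ⟨z * u, (hU.involution_iff hz hz2).2 (by rw [inv_mul_cancel_left]; exact u.2)⟩
      left_inv := fun y => Subtype.ext (mul_inv_cancel_left _ _)
      right_inv := fun u => Subtype.ext (inv_mul_cancel_left _ _) }

theorem IsTorus.exists_involution (hU : IsTorus U c) : ∃ z ∈ Subgroup.normalizer (U : Set G), orderOf z = 2 := by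
  have hfact : Fact (Nat.Prime 2) := ⟨Nat.prime_two⟩
  obtain ⟨z, hz⟩ := exists_prime_orderOf_dvd_card' (G := Subgroup.normalizer (U : Set G)) 2 (by
    rw [hU.card]
    apply dvd_mul_of_dvd_left
    rcases hU.hc with h | h <;> rw [h]
    norm_num)
  exact ⟨z, z.2, by rwa [Subgroup.orderOf_coe]⟩

/-- the centraliser of an involution in the normaliser is a complement -/
theorem IsTorus.card_centralizer (hU : IsTorus U c) {z : G} (hz : z ∈ Subgroup.normalizer (U : Set G)) (hz2 : orderOf z = 2) :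
    Nat.card (Subgroup.centralizer ({z} : Set G) ⊓ Subgroup.normalizer (U : Set G) : Subgroup G) = c := by
  classical
  have hzz : z * z = 1 := by rw [← pow_two, ← hz2, pow_orderOf_eq_one]
  have hzi : z⁻¹ = z := inv_eq_of_mul_eq_one_right hzz
  let C : Subgroup G := Subgroup.centralizer ({z} : Set G) ⊓ Subgroup.normalizer (U : Set G)
  have h1 : Nat.card U * Nat.card C = Nat.card (Subgroup.normalizer (U : Set G)) := by
    rw [← Nat.card_prod]
    apply Nat.card_congr
    refine Equiv.ofBijective (fun w => (⟨w.1 * w.2, ?_⟩ : Subgroup.normalizer (U : Set G))) ⟨?_, ?_⟩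
    · exact Subgroup.mul_mem _ (Subgroup.le_normalizer w.1.2) w.2.2.2
    · rintro ⟨u, d⟩ ⟨u', d'⟩ h
      have h2 : (u : G) * d = u' * d' := congrArg Subtype.val h
      have h3 : (u' : G)⁻¹ * u = d' * (d : G)⁻¹ := by
        rw [eq_mul_inv_iff_mul_eq, mul_assoc, h2, inv_mul_cancel_left]
      have h4 : (u' : G)⁻¹ * u ∈ U := U.mul_mem (U.inv_mem u'.2) u.2
      have h5 : (u' : G)⁻¹ * u ∈ Subgroup.centralizer ({z} : Set G) := by
        rw [h3]; exact Subgroup.mul_mem _ d'.2.1 (Subgroup.inv_mem _ d.2.1)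
      have h6 : (u' : G)⁻¹ * u = 1 := by
        by_contra hne
        apply hU.not_mem hz2
        rw [← hU.cent _ h4 hne, Subgroup.mem_centralizer_singleton_iff]
        exact (Subgroup.mem_centralizer_singleton_iff.1 h5).symm
      have h7 : u = u' := Subtype.ext (inv_mul_eq_one.1 h6).symm
      subst h7
      rw [Subtype.ext (mul_left_cancel h2)]
    · rintro ⟨g, hg⟩
      -- g z g⁻¹ = z v
      have hy : g * z * g⁻¹ ∈ Subgroup.normalizer (U : Set G) ∧ orderOf (g * z * g⁻¹) = 2 := by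
        refine ⟨Subgroup.mul_mem _ (Subgroup.mul_mem _ hg hz) (Subgroup.inv_mem _ hg), ?_⟩
        have := (MulAut.conj g).orderOf_eq z
        rw [MulAut.conj_apply] at this
        rw [this, hz2]
      have hv := (hU.involution_iff hz hz2).1 hy
      obtain ⟨v, hvdef⟩ : ∃ v, v = z⁻¹ * (g * z * g⁻¹) := ⟨_, rfl⟩
      rw [← hvdef] at hv
      -- u² = v
      obtain ⟨k, hk⟩ : ∃ k, Nat.card U = 2 * k + 1 := by
        have := hU.odd
        exact ⟨Nat.card U / 2, by omega⟩
      have hvk : v ^ (2 * k + 1) = 1 := by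
        rw [← hk]
        have := pow_card_eq_one' (x := (⟨v, hv⟩ : U))
        exact congrArg Subtype.val this
      let u : G := v ^ (k + 1)
      have hu : u ∈ U := U.pow_mem hv _
      have hu2 : u * u = v := by
        change v ^ (k + 1) * v ^ (k + 1) = v
        rw [← pow_add, show k + 1 + (k + 1) = (2 * k + 1) + 1 by ring, pow_succ, hvk, one_mul]
      have hzu := hU.inverts hz hz2 hu
      have hzu' : u * z = z * u⁻¹ := by
        have := hU.inverts hz hz2 (U.inv_mem hu)
        rw [inv_inv] at this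
        calc u * z = (z * u⁻¹ * z⁻¹) * z := by rw [this]
          _ = _ := by group
      refine ⟨(⟨u⁻¹, U.inv_mem hu⟩, ⟨u * g, ?_, Subgroup.mul_mem _ (Subgroup.le_normalizer hu) hg⟩),
        Subtype.ext (inv_mul_cancel_left _ _)⟩
      change u * g ∈ Subgroup.centralizer ({z} : Set G)
      rw [Subgroup.mem_centralizer_singleton_iff]
      have e1 : g * z * g⁻¹ = z * v := by rw [hvdef]; group
      have e2 : g * z = z * v * g := by rw [← e1]; group
      calc u * g * z = u * (g * z) := by group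
        _ = (u * z) * v * g := by rw [e2]; group
        _ = z * (u⁻¹ * v) * g := by rw [hzu']; group
        _ = z * u * g := by rw [← hu2]; group
        _ = _ := by group
  have h2 : Nat.card C * Nat.card U = c * Nat.card U := by rw [mul_comm, h1, hU.card]
  exact Nat.eq_of_mul_eq_mul_right (Nat.card_pos (α := U)) h2

theorem IsTorus.conj_mem_of_sq (hU : IsTorus U c) {z : G} (hz : z ∈ Subgroup.normalizer (U : Set G)) (hz2 : orderOf z = 2)
    {y : G} (hy : y ∈ Subgroup.normalizer (U : Set G)) (hy2 : y ^ 2 ∈ U) (hyU : y ∉ U) : z⁻¹ * y ∈ U := by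
  have hfact : Fact (Nat.Prime 2) := ⟨Nat.prime_two⟩
  obtain ⟨k, hk⟩ : ∃ k, Nat.card U = 2 * k + 1 := by
    have := hU.odd
    exact ⟨Nat.card U / 2, by omega⟩
  have h1 : (y ^ 2) ^ (2 * k + 1) = 1 := by
    rw [← hk]
    have := pow_card_eq_one' (x := (⟨y ^ 2, hy2⟩ : U))
    exact congrArg Subtype.val this
  have hw : y ^ (2 * k + 1) = y * (y ^ 2) ^ k := by
    rw [← pow_mul, ← pow_succ']
  have hwo : orderOf (y ^ (2 * k + 1)) = 2 := by
    apply orderOf_eq_prime
    · rw [← pow_mul, mul_comm, pow_mul, h1]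
    · intro h
      apply hyU
      rw [hw] at h
      rw [eq_inv_of_mul_eq_one_left h]
      exact U.inv_mem (U.pow_mem hy2 _)
  have h2 := (hU.involution_iff hz hz2).1 ⟨Subgroup.pow_mem _ hy _, hwo⟩
  rw [hw] at h2
  have h3 := U.mul_mem h2 (U.inv_mem (U.pow_mem hy2 k))
  rw [show z⁻¹ * (y * (y ^ 2) ^ k) * ((y ^ 2) ^ k)⁻¹ = z⁻¹ * y by group] at h3
  exact h3

theorem IsTorus.order_four_iff (hU : IsTorus U c) {z : G} (hz : z ∈ Subgroup.normalizer (U : Set G)) (hz2 : orderOf z = 2)
    {y : G} (hy : y ∈ Subgroup.normalizer (U : Set G)) : orderOf y = 4 ↔ (y ∉ U ∧ z⁻¹ * y ∉ U) := by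
  constructor
  · intro h
    constructor
    · intro hyU
      have h1 := orderOf_dvd_natCard (⟨y, hyU⟩ : U)
      rw [← Subgroup.orderOf_coe] at h1
      apply hU.odd
      rw [show orderOf ((⟨y, hyU⟩ : U) : G) = 4 from h] at h1
      exact (show 2 ∣ 4 by norm_num).trans h1
    · intro h2
      have := ((hU.involution_iff hz hz2).2 h2).2
      omega
  · rintro ⟨h1, h2⟩
    have h3 : y ^ 2 ∉ U := fun h => h2 (hU.conj_mem_of_sq hz hz2 hy h h1)
    have hc : c = 4 := by
      rcases hU.hc with h | h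
      · exfalso
        apply h3
        rw [← h]
        exact hU.pow_mem hy
      · exact h
    have h4 : (y ^ 2) ^ 2 ∈ U := by
      rw [← pow_mul]
      have := hU.pow_mem hy
      rwa [hc] at this
    have h5 := hU.conj_mem_of_sq hz hz2 (Subgroup.pow_mem _ hy 2) h4 h3
    have h6 := ((hU.involution_iff hz hz2).2 h5).2
    have h7 : (y ^ 2) ^ 2 = 1 := by
      have := pow_orderOf_eq_one (y ^ 2)
      rwa [h6] at this
    have hfact : Fact (Nat.Prime 2) := ⟨Nat.prime_two⟩
    have h8 : orderOf y = 2 ^ (1 + 1) := by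
      apply orderOf_eq_prime_pow
      · rw [pow_one]
        intro h
        rw [h, orderOf_one] at h6
        omega
      · rw [← pow_mul] at h7
        exact h7
    rw [h8]; norm_num

/-- half of the elements of order four of the normaliser are conjugate to `x` -/
theorem IsTorus.card_order_four (hU : IsTorus U 4) {x : G}
    (hx : ∀ y : G, orderOf y = 4 → (IsConj x y ∨ IsConj x y⁻¹)) (hx2 : ¬ IsConj x x⁻¹) (hx4 : orderOf x = 4) :
    Nat.card {y : G // IsConj x y ∧ y ∈ Subgroup.normalizer (U : Set G)} = Nat.card U := by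
  classical
  obtain ⟨z, hz, hz2⟩ := hU.exists_involution
  let N := Subgroup.normalizer (U : Set G)
  let X := {y : G // IsConj x y ∧ y ∈ N}
  have hconj : ∀ {y : G}, IsConj x y → orderOf y = 4 := by
    intro y h
    obtain ⟨d, hd⟩ := isConj_iff.1 h
    rw [← hd, ← hx4]
    have := (MulAut.conj d).orderOf_eq x
    rwa [MulAut.conj_apply] at this
  have hinv : ∀ {y : G}, IsConj x y⁻¹ ↔ IsConj x⁻¹ y := by
    intro y
    rw [isConj_iff, isConj_iff]
    constructor
    · rintro ⟨d, hd⟩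
      exact ⟨d, by rw [← inv_inv y, ← hd]; group⟩
    · rintro ⟨d, hd⟩
      exact ⟨d, by rw [← hd]; group⟩
  -- N ≃ (U ⊕ U) ⊕ (X ⊕ X)
  have h1 : Nat.card N = Nat.card ((U ⊕ U) ⊕ (X ⊕ X)) := by
    symm
    apply Nat.card_congr
    let f : (U ⊕ U) ⊕ (X ⊕ X) → N := fun w => match w with
      | Sum.inl (Sum.inl u) => ⟨u, Subgroup.le_normalizer u.2⟩
      | Sum.inl (Sum.inr u) => ⟨z * u, Subgroup.mul_mem _ hz (Subgroup.le_normalizer u.2)⟩
      | Sum.inr (Sum.inl y) => ⟨y, y.2.2⟩
      | Sum.inr (Sum.inr y) => ⟨(y : G)⁻¹, Subgroup.inv_mem _ y.2.2⟩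
    refine Equiv.ofBijective f ⟨?_, ?_⟩
    · have hzU : z ∉ U := hU.not_mem hz2
      have k1 : ∀ (u : U) (v : U), (u : G) ≠ z * v := by
        intro u v h
        apply hzU
        rw [eq_mul_inv_of_mul_eq h.symm]
        exact U.mul_mem u.2 (U.inv_mem v.2)
      have k2 : ∀ (u : U) (y : G), orderOf y = 4 → y ∈ N → (u : G) ≠ y := by
        intro u y hy hyN h
        have := ((hU.order_four_iff hz hz2 hyN).1 hy).1
        exact this (h ▸ u.2)
      have k3 : ∀ (u : U) (y : G), orderOf y = 4 → y ∈ N → z * (u : G) ≠ y := by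
        intro u y hy hyN h
        have := ((hU.order_four_iff hz hz2 hyN).1 hy).2
        apply this
        rw [← h, inv_mul_cancel_left]; exact u.2
      have k4 : ∀ (y y' : X), (y : G) ≠ (y' : G)⁻¹ := by
        intro y y' h
        have e1 := y.2.1
        rw [h, hinv] at e1
        exact hx2 (y'.2.1.trans e1.symm)
      have o1 : ∀ y : X, orderOf (y : G) = 4 := fun y => hconj y.2.1
      have o2 : ∀ y : X, orderOf (y : G)⁻¹ = 4 := fun y => by rw [orderOf_inv]; exact hconj y.2.1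
      rintro ((u | u) | (y | y)) ((v | v) | (y' | y')) h <;> replace h := congrArg Subtype.val h
      · exact congrArg _ (congrArg _ (Subtype.ext h))
      · exact absurd h (k1 u v)
      · exact absurd h (k2 u _ (o1 y') y'.2.2)
      · exact absurd h (k2 u _ (o2 y') (Subgroup.inv_mem _ y'.2.2))
      · exact absurd h.symm (k1 v u)
      · exact congrArg _ (congrArg _ (Subtype.ext (mul_left_cancel h)))
      · exact absurd h (k3 u _ (o1 y') y'.2.2)
      · exact absurd h (k3 u _ (o2 y') (Subgroup.inv_mem _ y'.2.2))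
      · exact absurd h.symm (k2 v _ (o1 y) y.2.2)
      · exact absurd h.symm (k3 v _ (o1 y) y.2.2)
      · exact congrArg _ (congrArg _ (Subtype.ext h))
      · exact absurd h (k4 y y')
      · exact absurd h.symm (k2 v _ (o2 y) (Subgroup.inv_mem _ y.2.2))
      · exact absurd h.symm (k3 v _ (o2 y) (Subgroup.inv_mem _ y.2.2))
      · exact absurd h.symm (k4 y' y)
      · exact congrArg _ (congrArg _ (Subtype.ext (inv_injective h)))
    · rintro ⟨y, hy⟩
      by_cases h1 : y ∈ U
      · exact ⟨Sum.inl (Sum.inl ⟨y, h1⟩), rfl⟩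
      · by_cases h2 : z⁻¹ * y ∈ U
        · exact ⟨Sum.inl (Sum.inr ⟨_, h2⟩), Subtype.ext (mul_inv_cancel_left _ _)⟩
        · have h3 := (hU.order_four_iff hz hz2 hy).2 ⟨h1, h2⟩
          rcases hx y h3 with h4 | h4
          · exact ⟨Sum.inr (Sum.inl ⟨y, h4, hy⟩), rfl⟩
          · exact ⟨Sum.inr (Sum.inr ⟨y⁻¹, h4, Subgroup.inv_mem _ hy⟩), Subtype.ext (inv_inv y)⟩
  have h2 : Nat.card N = 4 * Nat.card U := hU.card
  rw [Nat.card_sum, Nat.card_sum, Nat.card_sum] at h1
  change Nat.card X = _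
  omega

omit [Finite G] in
theorem IsTorus.map_conj (hU : IsTorus U c) (g : G) : IsTorus (U.map (MulAut.conj g).toMonoidHom) c where
  cent := by
    intro u hu hu1
    obtain ⟨v, hv, rfl⟩ := Subgroup.mem_map.1 hu
    have hv1 : v ≠ 1 := by
      rintro rfl
      exact hu1 (map_one _)
    ext a
    rw [Subgroup.mem_centralizer_singleton_iff, Subgroup.mem_map]
    change a * (g * v * g⁻¹) = g * v * g⁻¹ * a ↔ _
    constructor
    · intro hg
      refine ⟨g⁻¹ * a * g, ?_, ?_⟩
      · rw [← hU.cent v hv hv1, Subgroup.mem_centralizer_singleton_iff]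
        calc g⁻¹ * a * g * v = g⁻¹ * (a * (g * v * g⁻¹)) * g := by group
          _ = g⁻¹ * (g * v * g⁻¹ * a) * g := by rw [hg]
          _ = _ := by group
      · change g * (g⁻¹ * a * g) * g⁻¹ = a
        group
    · rintro ⟨w, hw, rfl⟩
      rw [← hU.cent v hv hv1, Subgroup.mem_centralizer_singleton_iff] at hw
      change g * w * g⁻¹ * (g * v * g⁻¹) = g * v * g⁻¹ * (g * w * g⁻¹)
      calc g * w * g⁻¹ * (g * v * g⁻¹) = g * (w * v) * g⁻¹ := by group
        _ = g * (v * w) * g⁻¹ := by rw [hw]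
        _ = _ := by group
  odd := by
    rw [Nat.card_congr (Subgroup.equivMapOfInjective U _ (MulAut.conj g).injective).toEquiv.symm]
    exact hU.odd
  one_lt := by
    rw [Nat.card_congr (Subgroup.equivMapOfInjective U _ (MulAut.conj g).injective).toEquiv.symm]
    exact hU.one_lt
  hc := hU.hc
  card := by
    rw [Nat.card_congr (Subgroup.equivMapOfInjective U _ (MulAut.conj g).injective).toEquiv.symm, ← hU.card]
    apply Nat.card_congr
    symm
    refine ((MulAut.conj g).toEquiv).subtypeEquiv (fun a => ?_)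
    change a ∈ Subgroup.normalizer (U : Set G) ↔ g * a * g⁻¹ ∈ Subgroup.normalizer ((U.map (MulAut.conj g).toMonoidHom : Subgroup G) : Set G)
    rw [mem_normalizer_conj]
    rw [show g⁻¹ * (g * a * g⁻¹) * g = a by group]

/-- abstract counting of the union -/
theorem card_union {ι : Type*} [Fintype ι] (R : ι → Subgroup G) (c : ι → ℕ) (hR : ∀ i, IsTorus (R i) (c i))
    (hne : ∀ i j, Nat.card (R i) = Nat.card (R j) → i = j) (A : Subgroup G) (x : G) 
    (hx : ∀ y, x * y = y * x → y ∈ A)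
    (hcap : ∀ i (V : Subgroup G), (∃ g, V = (R i).map (MulAut.conj g).toMonoidHom) → x ∈ Subgroup.normalizer (V : Set G) →
      Nat.card (Subgroup.normalizer (V : Set G) ⊓ A : Subgroup G) = c i) :
    Nat.card {y : G // y ∈ A ∨ ∃ i, ∃ V : Subgroup G, (∃ g, V = (R i).map (MulAut.conj g).toMonoidHom) ∧
      x ∈ Subgroup.normalizer (V : Set G) ∧ y ∈ Subgroup.normalizer (V : Set G)} =
    Nat.card A + ∑ i, Nat.card {V : Subgroup G // (∃ g, V = (R i).map (MulAut.conj g).toMonoidHom) ∧
      x ∈ Subgroup.normalizer (V : Set G)} * (c i * (Nat.card (R i) - 1)) := by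
  classical
  let W : ι → Type _ := fun i => {V : Subgroup G // (∃ g, V = (R i).map (MulAut.conj g).toMonoidHom) ∧
      x ∈ Subgroup.normalizer (V : Set G)}
  have hW : ∀ i, Fintype (W i) := fun i => Fintype.ofFinite _
  have htor : ∀ i (V : W i), IsTorus (V : Subgroup G) (c i) := by
    rintro i ⟨V, ⟨g, rfl⟩, hV⟩
    exact (hR i).map_conj g
  have hcardV : ∀ i (V : W i), Nat.card (V : Subgroup G) = Nat.card (R i) := by
    rintro i ⟨V, ⟨g, rfl⟩, hV⟩
    exact Nat.card_congr (Subgroup.equivMapOfInjective (R i) _ (MulAut.conj g).injective).toEquiv.symm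
  let Y : (Σ i, W i) → Type _ := fun s => {y : G // y ∈ Subgroup.normalizer ((s.2 : Subgroup G) : Set G) ∧ y ∉ A}
  have hY : ∀ s, Nat.card (Y s) = c s.1 * (Nat.card (R s.1) - 1) := by
    rintro ⟨i, V⟩
    have h1 : Nat.card (Subgroup.normalizer ((V : Subgroup G) : Set G)) =
        Nat.card (Subgroup.normalizer ((V : Subgroup G) : Set G) ⊓ A : Subgroup G) + Nat.card (Y ⟨i, V⟩) := by
      rw [← Nat.card_sum]
      symm
      apply Nat.card_congr
      let f : (Subgroup.normalizer ((V : Subgroup G) : Set G) ⊓ A : Subgroup G) ⊕ Y ⟨i, V⟩ →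
          Subgroup.normalizer ((V : Subgroup G) : Set G) := fun s => match s with
        | Sum.inl y => ⟨(y : G), y.2.1⟩
        | Sum.inr y => ⟨(y : G), y.2.1⟩
      refine Equiv.ofBijective f ⟨?_, ?_⟩
      · rintro (⟨y, hy⟩ | ⟨y, hy⟩) (⟨y', hy'⟩ | ⟨y', hy'⟩) h <;> replace h : y = y' := congrArg Subtype.val h
        · subst h; rfl
        · subst h; exact absurd hy.2 hy'.2
        · subst h; exact absurd hy'.2 hy.2
        · subst h; rfl
      · rintro ⟨y, hy⟩
        by_cases h : y ∈ A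
        · exact ⟨Sum.inl ⟨y, hy, h⟩, rfl⟩
        · exact ⟨Sum.inr ⟨y, hy, h⟩, rfl⟩
    rw [hcap i V V.2.1 V.2.2, (htor i V).card, hcardV] at h1
    have h2 : 0 < Nat.card (R i) := Nat.card_pos
    change Nat.card (Y ⟨i, V⟩) = c i * (Nat.card (R i) - 1)
    rw [Nat.mul_sub, mul_one]
    omega
  have hFY : ∀ s, Fintype (Y s) := fun s => Fintype.ofFinite _
  have h1 : Nat.card {y : G // y ∈ A ∨ ∃ i, ∃ V : Subgroup G, (∃ g, V = (R i).map (MulAut.conj g).toMonoidHom) ∧
      x ∈ Subgroup.normalizer (V : Set G) ∧ y ∈ Subgroup.normalizer (V : Set G)} = Nat.card (A ⊕ (Σ s, Y s)) := by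
    symm
    apply Nat.card_congr
    let f : A ⊕ (Σ s, Y s) → {y : G // y ∈ A ∨ ∃ i, ∃ V : Subgroup G, (∃ g, V = (R i).map (MulAut.conj g).toMonoidHom) ∧
      x ∈ Subgroup.normalizer (V : Set G) ∧ y ∈ Subgroup.normalizer (V : Set G)} := fun s => match s with
      | Sum.inl a => ⟨(a : G), Or.inl a.2⟩
      | Sum.inr t => ⟨(t.2 : G), Or.inr ⟨t.1.1, t.1.2, t.1.2.2.1, t.1.2.2.2, t.2.2.1⟩⟩
    refine Equiv.ofBijective f ⟨?_, ?_⟩
    · rintro (a | ⟨⟨i, V⟩, y, hy, hyA⟩) (b | ⟨⟨j, V'⟩, y', hy', hyA'⟩) h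
      · have h2 := congrArg Subtype.val h
        change (a : G) = b at h2
        exact congrArg _ (Subtype.ext h2)
      · exfalso
        have h2 : (a : G) = y' := congrArg Subtype.val h
        exact hyA' (h2 ▸ a.2)
      · exfalso
        have h2 : y = b := congrArg Subtype.val h
        exact hyA (h2 ▸ b.2)
      · have h2 : y = y' := congrArg Subtype.val h
        subst h2
        have hcne : x * y * x⁻¹ * y⁻¹ ≠ 1 := by
          intro h3
          apply hyA
          apply hx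
          rwa [mul_inv_eq_one, mul_inv_eq_iff_eq_mul] at h3
        have e1 := (htor i V).cent _ ((htor i V).commutator_mem V.2.2 hy) hcne
        have e2 := (htor j V').cent _ ((htor j V').commutator_mem V'.2.2 hy') hcne
        have e3 : (V : Subgroup G) = V' := by rw [← e1, e2]
        have e4 : i = j := hne i j (by rw [← hcardV i V, ← hcardV j V', e3])
        subst e4
        have e5 : V = V' := Subtype.ext e3
        subst e5
        rfl
    · rintro ⟨y, hy⟩
      by_cases hyA : y ∈ A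
      · exact ⟨Sum.inl ⟨y, hyA⟩, rfl⟩
      · rcases hy with hy | ⟨i, V, hV, hxV, hyV⟩
        · exact absurd hy hyA
        · exact ⟨Sum.inr ⟨⟨i, ⟨V, hV, hxV⟩⟩, y, hyV, hyA⟩, rfl⟩
  rw [h1, Nat.card_sum, Nat.card_sigma]
  congr 1
  rw [Fintype.sum_sigma]
  apply Finset.sum_congr rfl
  intro i _
  have : ∀ V : W i, Nat.card (Y ⟨i, V⟩) = c i * (Nat.card (R i) - 1) := fun V => hY ⟨i, V⟩
  rw [Finset.sum_congr rfl (fun V _ => this V), Finset.sum_const, smul_eq_mul, Finset.card_univ]
  congr 1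
  exact (Nat.card_eq_fintype_card (α := W i)).symm

end H42.SolCount
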