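import Mathlib

set_option autoImplicit false

/-! Subfields of finite fields as fixed fields of powers of Frobenius. -/

namespace H42.SubF

/-- the subfield `{x | x^(p^n) = x}` -/
def subF (F : Type*) [Field F] (p n : ℕ) [Fact p.Prime] [CharP F p] : Subfield F where
  carrier := {x | x ^ p ^ n = x}
  mul_mem' := by
    intro a b ha hb
    change (a * b) ^ p ^ n = a * b
    rw [mul_pow, show a ^ p ^ n = a from ha, show b ^ p ^ n = b from hb]
  one_mem' := one_pow _
  add_mem' := by
    intro a b ha hb
    change (a + b) ^ p ^ n = a + b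
    rw [add_pow_char_pow, show a ^ p ^ n = a from ha, show b ^ p ^ n = b from hb]
  zero_mem' := zero_pow (pow_ne_zero n (Fact.out : p.Prime).ne_zero)
  neg_mem' := by
    intro a ha
    change (-a) ^ p ^ n = -a
    have h1 : (-a + a) ^ p ^ n = (-a) ^ p ^ n + a ^ p ^ n := add_pow_char_pow _ _ _ _
    rw [neg_add_cancel, zero_pow (pow_ne_zero n (Fact.out : p.Prime).ne_zero), show a ^ p ^ n = a from ha] at h1
    exact (neg_eq_of_add_eq_zero_left h1.symm).symm
  inv_mem' := by
    intro a ha
    change a⁻¹ ^ p ^ n = a⁻¹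
    rw [inv_pow, show a ^ p ^ n = a from ha]

theorem mem_subF {F : Type*} [Field F] {p n : ℕ} [Fact p.Prime] [CharP F p] {x : F} :
    x ∈ subF F p n ↔ x ^ p ^ n = x := Iff.rfl

theorem card_subF {F : Type*} [Field F] [Fintype F] {p n N : ℕ} [hp : Fact p.Prime] [CharP F p]
    (hF : Fintype.card F = p ^ N) (hn : 1 ≤ n) (hnN : n ∣ N) : Nat.card (subF F p n) = p ^ n := by
  classical
  have hpn : 1 < p ^ n := Nat.one_lt_pow (by omega) hp.out.one_lt
  have e : {x : subF F p n // x ≠ 0} ≃ (powMonoidHom (p ^ n - 1) : Fˣ →* Fˣ).ker :=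
    { toFun := fun x => ⟨Units.mk0 (x.1 : F) (fun h => x.2 (Subtype.ext h)), by
        rw [MonoidHom.mem_ker, powMonoidHom_apply]
        ext
        rw [Units.val_pow_eq_pow_val, Units.val_mk0, Units.val_one]
        have h1 : (x.1 : F) ^ p ^ n = x.1 := x.1.2
        have h0 : (x.1 : F) ≠ 0 := fun h => x.2 (Subtype.ext h)
        apply mul_right_cancel₀ h0
        rw [← pow_succ, one_mul, Nat.sub_add_cancel hpn.le, h1]⟩
      invFun := fun u => ⟨⟨((u : Fˣ) : F), by
        have h1 := u.2
        rw [MonoidHom.mem_ker, powMonoidHom_apply] at h1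
        have h2 := congrArg Units.val h1
        rw [Units.val_pow_eq_pow_val, Units.val_one] at h2
        have key : ∀ y : F, y ^ (p ^ n - 1) = 1 → y ^ p ^ n = y := by
          intro y hy
          calc y ^ p ^ n = y ^ (p ^ n - 1 + 1) := by rw [Nat.sub_add_cancel hpn.le]
            _ = y := by rw [pow_succ, hy, one_mul]
        exact key _ h2⟩, fun h => (u : Fˣ).ne_zero (congrArg Subtype.val h)⟩
      left_inv := fun x => by ext; rfl
      right_inv := fun u => by ext; rfl }
  have h1 := Nat.card_congr e
  rw [IsCyclic.card_powMonoidHom_ker, Nat.card_eq_fintype_card (α := Fˣ), Fintype.card_units, hF] at h1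
  have h2 : p ^ n - 1 ∣ p ^ N - 1 := Nat.pow_sub_one_dvd_pow_sub_one p hnN
  rw [Nat.gcd_eq_right h2] at h1
  have h3 : Nat.card (subF F p n) = Nat.card {x : subF F p n // x ≠ 0} + 1 := by
    rw [Nat.card_eq_fintype_card, Nat.card_eq_fintype_card]
    have := Fintype.card_subtype_compl (fun x : subF F p n => x = 0)
    have h4 : Fintype.card {x : subF F p n // x = 0} = 1 := Fintype.card_subtype_eq (0 : subF F p n)
    have h5 : 0 < Fintype.card (subF F p n) := Fintype.card_pos
    have h6 : Fintype.card {x : subF F p n // x ≠ 0} = Fintype.card {x : subF F p n // ¬ x = 0} := rfl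
    rw [h6, this, h4]
    omega
  rw [h3, h1]
  omega

/-- the multiplication-closed additive subgroup generates a subfield: order divides -/
theorem dvd_of_closed {F : Type*} [Field F] [Fintype F] {p n N : ℕ} [hp : Fact p.Prime]
    (hF : Fintype.card F = p ^ N) (A : AddSubgroup F) (h1 : (1 : F) ∈ A) (hmul : ∀ a ∈ A, ∀ b ∈ A, a * b ∈ A)
    (hcard : Nat.card A = p ^ n) : n ∣ N := by
  classical
  have hpow : ∀ a ∈ A, ∀ k : ℕ, a ^ k ∈ A := by
    intro a ha k
    induction k with
    | zero => rw [pow_zero]; exact h1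
    | succ k ih => rw [pow_succ]; exact hmul _ ih _ ha
  let K : Subfield F :=
    { carrier := A
      mul_mem' := fun ha hb => hmul _ ha _ hb
      one_mem' := h1
      add_mem' := fun ha hb => A.add_mem ha hb
      zero_mem' := A.zero_mem
      neg_mem' := fun ha => A.neg_mem ha
      inv_mem' := by
        intro a ha
        by_cases h0 : a = 0
        · rw [h0, inv_zero]; exact A.zero_mem
        · have h2 : a⁻¹ = a ^ (Fintype.card F - 2) := by
            have h3 : 2 ≤ Fintype.card F := Fintype.one_lt_card
            rw [inv_eq_of_mul_eq_one_right]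
            rw [← pow_succ', show Fintype.card F - 2 + 1 = Fintype.card F - 1 by omega]
            exact FiniteField.pow_card_sub_one_eq_one a h0
          rw [h2]
          exact hpow a ha _ }
  have hK : Nat.card K = p ^ n := hcard
  have h2 := Module.card_eq_pow_finrank (K := K) (V := F)
  rw [hF, ← Nat.card_eq_fintype_card (α := K), hK, ← pow_mul] at h2
  exact ⟨_, Nat.pow_right_injective hp.out.two_le h2⟩

end H42.SubF
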