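import Cfsg.Agent.Lib.H42.SubfP
import Cfsg.Agent.Lib.H42.SubfRG2
import Cfsg.Agent.Lib.H22.ChevAll
import Cfsg.Agent.Lib.H22.ChevLex
import Cfsg.Agent.Lib.H23.ChevAll
import Cfsg.Agent.S2177

/-!
Overgroups of subfield subgroups, type G2.
-/

set_option autoImplicit false
set_option maxRecDepth 100000
set_option linter.unusedSectionVars false

namespace H42.SubfTG2

open H22.RCPack H22.RCComb H42.Subf H42.Inv2F H42.Inv2E H42.Inv2D H42.Inv2M H47.ChevSub H22.ChevRel
open H22.ChevSys H22.ChevUni H22.ChevMain H22.ChevStd H22.RCCheck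
open H47.SemiTor (sg)
open scoped MatrixGroups Matrix

/-- the long roots -/
def lng : ℕ → Bool := fun r => [0, 1, 5, 6, 10, 11].contains r

/-- all roots -/
def PA : ℕ → Bool := fun _ => true

theorem pl : ckPl Cfsg.Lie.chevG2 lng = true := by decide +kernel
theorem pr : ckPr Cfsg.Lie.chevG2 lng = true := by decide +kernel
theorem mi : ckMisc Cfsg.Lie.chevG2 lng 1 (co H22.RCSmall.tabG2 2) = true := by decide +kernel
theorem bh0 : ckBH Cfsg.Lie.chevG2 6 3 0 [11] [5] = true := by decide +kernel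
theorem bh1 : ckBH Cfsg.Lie.chevG2 6 2 3 [9, 11] [4, 5] = true := by decide +kernel
theorem pa : ckPar Cfsg.Lie.chevG2 6 = true := by decide +kernel
theorem la : ckLast Cfsg.Lie.chevG2 6 1 10 = true := by decide +kernel

/-- lengths -/
def dd : ℕ → ℤ := fun i => bif Nat.ble 1 i then 3 else 1

/-- the form -/
def frm : Frm (H22.RCComb.coord H22.PoinG2.rcxG2) :=
  frmOf H22.PoinG2.rcxG2 H22.RCSmall.matG2 dd rfl (by decide +kernel) (by decide +kernel)

theorem mx : ckMax H22.RCSmall.tabG2 H22.RCSmall.matG2 dd Cfsg.Lie.chevG2 lng 6 = true := by decide +kernel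
theorem ci1 : ckI Cfsg.Lie.chevG2 lng PA 1 10 = true ∨ ckI Cfsg.Lie.chevG2 lng PA 1 5 = true ∨
  ckI Cfsg.Lie.chevG2 lng PA 1 0 = true ∨ ckI Cfsg.Lie.chevG2 lng PA 1 1 = true := by decide +kernel

section
variable {k : Type*} [Field k] (R : Rel Cfsg.Lie.chevG2 k)

theorem lh : LH R H22.PoinG2.rcxG2 ⟨1, by decide⟩ lng :=
  LH_of R (H23.ChevAll.core Cfsg.Lie.chevG2 (by simp)) frm pl pr mi

theorem bh {p : ℕ} [Fact p.Prime] [CharP k p] : ∃ zl, BH R H22.PoinG2.rcxG2 zl := by
  have hpr : p.Prime := Fact.out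
  by_cases hp : p = 3
  · subst hp
    have h3 : ((3 : ℕ) : k) = 0 := CharP.cast_eq_zero k 3
    refine ⟨_, BH_of R H22.ChevLex.lexG2 (e := 2) (e0 := 3) ?_ (by exact_mod_cast h3) bh1⟩
    intro h
    have h1 : ((2 : ℕ) : k) = 0 := by exact_mod_cast h
    rw [CharP.cast_eq_zero_iff k 3] at h1
    exact absurd h1 (by decide)
  · refine ⟨_, BH_of R H22.ChevLex.lexG2 (e := 3) (e0 := 0) ?_ (by simp) bh0⟩
    intro h
    have h1 : ((3 : ℕ) : k) = 0 := by exact_mod_cast h
    rw [CharP.cast_eq_zero_iff k p] at h1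
    exact hp ((Nat.prime_dvd_prime_iff_eq Fact.out Nat.prime_three).1 h1)

theorem od : OD R H22.PoinG2.rcxG2 :=
  OD_of R H22.ChevLex.lexG2 (H23.ChevAll.core Cfsg.Lie.chevG2 (by simp)) (m := ⟨1, by decide⟩) pa la

end

section
variable {k : Type*} [Field k] [CharP k 2] (R : Rel Cfsg.Lie.chevG2 k) (σ : k →+* k)

/-- a short root element -/
theorem good7 : Good R σ H22.PoinG2.rcxG2 (⊥ : Submodule k (Cfsg.Lie.chevG2.Idx → k))
    (aL R [(⟨7, by decide⟩ : Fin Cfsg.Lie.chevG2.nroots)]) := by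
  obtain ⟨w, hw, hwt⟩ := (lh R).orb' R H22.ChevLex.lexG2 (r := (⟨10, by decide⟩ : Fin Cfsg.Lie.chevG2.nroots))
    (by decide)
  obtain ⟨g, hg, hge⟩ := ev_long R (X := H22.PoinG2.rcxG2) σ hw
  rw [hwt] at hge
  obtain ⟨e, he, hxe⟩ := mov_of (P := PA) (I := (⊥ : Submodule k (Cfsg.Lie.chevG2.Idx → k))) R
    (H23.ChevAll.core Cfsg.Lie.chevG2 (by simp))
    mem_bot_of (i := ⟨0, by decide⟩) (s := ⟨8, by decide⟩) (δ := ⟨10, by decide⟩) (by decide)
    (by decide +kernel) (by decide +kernel)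
  refine ⟨ev Cfsg.Lie.chevG2 k ⟨8, by decide⟩, g, hg, e, he, ?_⟩
  · rw [hge]
    have e1 : aL R [(⟨7, by decide⟩ : Fin Cfsg.Lie.chevG2.nroots)] =
        xg R (Cfsg.Lie.chevG2.simple ((⟨0, by decide⟩ : Fin Cfsg.Lie.chevG2.rank) : ℕ)) 1 := by
      simp [aL]; rfl
    rw [e1]
    exact hxe

/-- all lists -/
theorem lists (E : LH R H22.PoinG2.rcxG2 ⟨1, by decide⟩ lng) {W : List (Fin Cfsg.Lie.chevG2.nroots)}
    (hWo : Orth frm W) (hWn : W ≠ []) :
    Good R σ H22.PoinG2.rcxG2 (⊥ : Submodule k (Cfsg.Lie.chevG2.Idx → k)) (aL R W) := by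
  have hI := idl_bot (k := k) H22.PoinG2.rcxG2.rc
  have hsim : ∀ i : Fin Cfsg.Lie.chevG2.rank, i = ⟨0, by decide⟩ ∨ i = ⟨1, by decide⟩ := by
    rintro ⟨i, hi⟩
    have hi' : i < 2 := hi
    have : i = 0 ∨ i = 1 := by omega
    rcases this with rfl | rfl
    · exact Or.inl rfl
    · exact Or.inr rfl
  by_cases hs : ∃ ψ ∈ W, lng ψ = true
  · obtain ⟨ψ, hψ, hl⟩ := hs
    obtain ⟨i, l, hil⟩ := exists_to_simple H22.PoinG2.rcxG2 ψ
    have hi : i = ⟨1, by decide⟩ := by
      rcases hsim i with h | h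
      · exfalso
        have h1 := lng_W (X := H22.PoinG2.rcxG2) E.refl _ ((comb H22.PoinG2.rcxG2).w_mem l) ψ hl
        rw [hil, h] at h1
        exact absurd h1 (by decide)
      · exact h
    subst hi
    have hck : ∃ γ0, ckI Cfsg.Lie.chevG2 lng PA 1 γ0 = true := by
      rcases ci1 with h | h | h | h
      · exact ⟨_, h⟩
      · exact ⟨_, h⟩
      · exact ⟨_, h⟩
      · exact ⟨_, h⟩
    obtain ⟨γ0, hγ0⟩ := hck
    exact good_all R σ E H22.ChevLex.lexG2 (H23.ChevAll.core Cfsg.Lie.chevG2 (by simp)) H42.SubfG2.hc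
      hI mem_bot_of frm (max_of (T := H22.RCSmall.tabG2) (A := H22.RCSmall.matG2) rfl rfl frm
        (fun _ => rfl) mx) hWo hψ ⟨l, hil⟩ hγ0
  · push Not at hs
    cases W with
    | nil => exact absurd rfl hWn
    | cons ψ W' =>
      obtain ⟨i, l, hil⟩ := exists_to_simple H22.PoinG2.rcxG2 ψ
      have hi : i = ⟨0, by decide⟩ := by
        rcases hsim i with h | h
        · exact h
        · exfalso
          have h1 : lng ((comb H22.PoinG2.rcxG2).simple i) = true := by rw [h]; decide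
          have h2 := lng_W (X := H22.PoinG2.rcxG2) E.refl _
            ((comb H22.PoinG2.rcxG2).W.inv_mem ((comb H22.PoinG2.rcxG2).w_mem l)) _ h1
          rw [← hil] at h2
          have h3 : ((comb H22.PoinG2.rcxG2).w l)⁻¹ ((comb H22.PoinG2.rcxG2).w l ψ) = ψ :=
            ((comb H22.PoinG2.rcxG2).w l).symm_apply_apply ψ
          rw [h3] at h2
          exact hs ψ List.mem_cons_self h2
      subst hi
      have hO := orth_map frm l hWo
      have h7 : (comb H22.PoinG2.rcxG2).simple ⟨0, by decide⟩ = (⟨7, by decide⟩ : Fin Cfsg.Lie.chevG2.nroots) := by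
        apply Fin.ext
        show Cfsg.Lie.chevG2.simple 0 = 7
        decide +kernel
      rw [List.map_cons, hil, h7] at hO
      have key : ∀ r s : Fin Cfsg.Lie.chevG2.nroots, ip frm r s =
          H42.Inv2C.ipB H22.RCSmall.tabG2 H22.RCSmall.matG2 dd Cfsg.Lie.chevG2 2 r s 2 := by
        intro r s
        exact (H42.Inv2C.ip_eq' (X := H22.PoinG2.rcxG2) (T := H22.RCSmall.tabG2)
          (A := H22.RCSmall.matG2) (d := dd) rfl rfl frm (fun _ => rfl) r s).symm
      have k7 : ∀ r : Fin 12,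
          H42.Inv2C.ipB H22.RCSmall.tabG2 H22.RCSmall.matG2 dd Cfsg.Lie.chevG2 2 7 r 2 = 0 →
          lng r = true := by decide +kernel
      have hW' : W' = [] := by
        cases W' with
        | nil => rfl
        | cons r W'' =>
          exfalso
          unfold Orth at hO
          rw [List.map_cons, List.pairwise_cons] at hO
          have h1 := hO.1 _ List.mem_cons_self
          rw [key] at h1
          have h2 := k7 _ h1
          have h3 := lng_W (X := H22.PoinG2.rcxG2) E.refl _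
            ((comb H22.PoinG2.rcxG2).W.inv_mem ((comb H22.PoinG2.rcxG2).w_mem l)) _ h2
          have h4 : ((comb H22.PoinG2.rcxG2).w l)⁻¹ ((comb H22.PoinG2.rcxG2).w l r) = r :=
            ((comb H22.PoinG2.rcxG2).w l).symm_apply_apply r
          rw [h4] at h3
          exact hs r (List.mem_cons_of_mem _ List.mem_cons_self) h3
      subst hW'
      obtain ⟨x, hx, hxe⟩ := cjL_map R (X := H22.PoinG2.rcxG2) σ l [ψ]
      rw [List.map_cons, List.map_nil, hil, h7] at hxe
      have g7 := good7 R σ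
      rw [← hxe] at g7
      have h6 := Good.conj R σ hI g7 (inv_mem hx)
      simpa [mul_assoc] using h6

end

section
variable {k : Type*} [Field k] (R : Rel Cfsg.Lie.chevG2 k)

/-- finite overgroups consist of rational elements -/
theorem rat {p : ℕ} [Fact p.Prime] [CharP k p] {F : Type*} [Field F] [Fintype F] [Algebra F k]
    (RF : Rel Cfsg.Lie.chevG2 F) {n : ℕ} (hn : n ≠ 0) (hq : Fintype.card F = p ^ n)
    {H : Subgroup (GL Cfsg.Lie.chevG2.Idx k)} [Finite H] (C : Ctx R H22.PoinG2.rcxG2 (sg k p n) H)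
    {x : GL Cfsg.Lie.chevG2.Idx k} (hx : x ∈ H) : Fr (D := Cfsg.Lie.chevG2) (sg k p n) x = x := by
  obtain ⟨zl, B⟩ := bh R (p := p)
  by_cases hp : p = 2
  · subst hp
    have h2 : (2 : k) = 0 := CharTwo.two_eq_zero
    have hsq : xg R 9 (1 : k) * xg R 9 1 = 1 := by
      rw [xg_mul, CharTwo.add_self_eq_zero, xg_zero]
    refine (lh R).rat_two R (sg k 2 n) H22.ChevLex.lexG2 B C (idl_bot (k := k) H22.PoinG2.rcxG2.rc)
      (invH_of R H22.ChevLex.lexG2 RF hn hq (idl_bot (k := k) H22.PoinG2.rcxG2.rc) frm H42.SubfG2.hc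
        (H23.ChevAll.core Cfsg.Lie.chevG2 (by simp))
        (fun W hWo hWn => Or.inr (lists R (sg k 2 n) (lh R) hWo hWn)))
      (i2 := xg R 9 1) (xg_mem_L R _ (map_one _)) hsq
      (xg_one_ne R H22.PoinG2.rcxG2.rc (by decide)) ?_ hx
    intro h hh e
    exact Cfsg.Agent.S2177.not_cj (F := k) ⟨h, hh, e⟩
  · exact (lh R).rat_odd R (sg k p n) H22.ChevLex.lexG2 B C (H23.ChevAll.core Cfsg.Lie.chevG2 (by simp)) hp
      (od R) hx

end

end H42.SubfTG2
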