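import Cfsg.Agent.Lib.H42.SubfV
import Cfsg.Agent.Lib.H42.SubfTG2

/-!
Overgroups of subfield subgroups, the conclusion for type G2.
-/

set_option autoImplicit false
set_option maxRecDepth 100000
set_option linter.unusedSectionVars false

namespace H42.SubfTG2

open H22.RCPack H42.Subf H42.Inv2C H42.Inv2F H42.Inv2E H42.Inv2D H42.Inv2M H47.ChevSub H22.ChevRel H42.InvCK
open H22.ChevMain H22.ChevStd H22.ChevUni H22.RCCheck
open H47.SemiTor (sg)
open scoped MatrixGroups Matrix

/-- words for the simple roots -/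
def ls : List (List (Fin 2)) := [[1], []]

theorem ckls : allN (fun i => ls.any fun l => prT Cfsg.Lie.chevG2 (wr Cfsg.Lie.chevG2 (l.map Fin.val)
    (Cfsg.Lie.chevG2.simple i)) == 1 ||
      Nat.beq (wr Cfsg.Lie.chevG2 (l.map Fin.val) (Cfsg.Lie.chevG2.simple i)) (Cfsg.Lie.chevG2.nroots - 1))
      Cfsg.Lie.chevG2.rank = true := by decide +kernel

theorem ct : Cfsg.Lie.chevG2.commTerms 6 10 = [(11, 1, 1, 1)] := by decide +kernel
theorem ct2 : Cfsg.Lie.chevG2.commTerms 6 7 = [(8, 1, 1, 1), (9, 1, 1, 2), (10, -1, 1, 3), (11, -2, 2, 3)] := by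
  decide +kernel

section
variable {k : Type*} [Field k] (R : Rel Cfsg.Lie.chevG2 k)

/-- cubes of short parameters -/
theorem star {H : Subgroup (GL Cfsg.Lie.chevG2.Idx k)} (P : Pre R H) {A : Subfield k}
    (B : BH R H22.PoinG2.rcxG2 [9, 11])
    (hT : ∀ j', 9 < j' → j' < Cfsg.Lie.chevG2.nroots → TA R H A j') {u : k} (hu : xg R 9 u ∈ H) :
    u ^ 3 ∈ A := by
  have h7 : xg R 7 u ∈ H := P.move H22.PoinG2.rcxG2 (([1, 0] : List (Fin 2)))
    ⟨9, by decide⟩ ⟨7, by decide⟩ (by decide +kernel) hu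
  have h8 : xg R 8 u ∈ H := P.move H22.PoinG2.rcxG2 (([0] : List (Fin 2)))
    ⟨9, by decide⟩ ⟨8, by decide⟩ (by decide +kernel) hu
  have e : xg R 6 1 * xg R 7 u * (xg R 6 1)⁻¹ =
      xg R 7 u * (xg R 8 u * (xg R 9 (u ^ 2) * (xg R 10 (-u ^ 3) * xg R 11 (-(2 * u ^ 3))))) := by
    rw [conj_eq R (by decide) (by decide) (by decide) (by decide +kernel)]
    congr 1
    unfold Cfsg.Lie.ChevalleyDatum.commWord
    rw [ct2]
    simp [wg]
  have h1 := P.h1 6
  have h2 := H.mul_mem (H.mul_mem h1 h7) (H.inv_mem h1)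
  rw [e] at h2
  have h3 : xg R 9 (u ^ 2) * (xg R 10 (-u ^ 3) * xg R 11 (-(2 * u ^ 3))) ∈ H := by
    have := H.mul_mem (H.inv_mem h8) (H.mul_mem (H.inv_mem h7) h2)
    simpa using this
  have h4 : -u ^ 3 ∈ A := lead1 P H22.ChevLex.lexG2 B (j := 10) (by decide) (by decide) (by decide)
    (fun j' h1 h2 => hT j' (by omega) h2) (fun z hz => B.comm (by simp) _ hz)
    (xg_mem_Vk R (by decide) (by decide) _) h3
  simpa using A.neg_mem h4

/-- the conclusion -/
theorem out {p : ℕ} [Fact p.Prime] [CharP k p] {H : Subgroup (GL Cfsg.Lie.chevG2.Idx k)} [Finite H]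
    (P : Pre R H) : ∃ (A : Subfield k) (n : ℕ), Out R H p A n := by
  have hM := mul_SS P (lh R) H22.ChevLex.lexG2 (r := ⟨6, by decide⟩) (s := ⟨10, by decide⟩) (by decide) (by decide)
      (by decide) (by decide +kernel) (Or.inl rfl) ct
  by_cases hp : p = 3
  · subst hp
    have h3 : ((3 : ℕ) : k) = 0 := CharP.cast_eq_zero k 3
    have B : BH R H22.PoinG2.rcxG2 [9, 11] := by
      refine BH_of R H22.ChevLex.lexG2 (e := 2) (e0 := 3) ?_ (by exact_mod_cast h3) bh1
      intro h
      have h1 : ((2 : ℕ) : k) = 0 := by exact_mod_cast h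
      rw [CharP.cast_eq_zero_iff k 3] at h1
      exact absurd h1 (by decide)
    refine out_sp P (lh R) H22.ChevLex.lexG2 (H23.ChevAll.core Cfsg.Lie.chevG2 (by simp)) (by decide +kernel)
      (hl_of ls ckls) hM (θs := ⟨9, by decide⟩) (by decide) B ?_ (l := (([1] : List (Fin 2))))
      (by decide +kernel) (r := 6) (by decide) (by decide) (N := 1) (by simp) (by decide +kernel)
      (by decide +kernel) (by decide +kernel) (by decide +kernel) ?_
    · intro A hA _ hT u hu
      exact star R P B hT hu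
    · intro A _ n hn hq C x hx
      exact rat R (F := A) (H22.ChevAll.rel _ (by simp) A) hn hq C hx
  · have B : BH R H22.PoinG2.rcxG2 [11] := by
      refine BH_of R H22.ChevLex.lexG2 (e := 3) (e0 := 0) ?_ (by simp) bh0
      intro h
      have h1 : ((3 : ℕ) : k) = 0 := by exact_mod_cast h
      rw [CharP.cast_eq_zero_iff k p] at h1
      exact hp ((Nat.prime_dvd_prime_iff_eq Fact.out Nat.prime_three).1 h1)
    refine out_ns P (lh R) H22.ChevLex.lexG2 (H23.ChevAll.core Cfsg.Lie.chevG2 (by simp)) (by decide +kernel)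
      (hl_of ls ckls) hM B ?_
    intro A _ n hn hq C x hx
    exact rat R (F := A) (H22.ChevAll.rel _ (by simp) A) hn hq C hx

end

end H42.SubfTG2
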