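import Cfsg.Agent.Lib.H42.SubfVB2
import Cfsg.Agent.Lib.H42.SubfVD4
import Cfsg.Agent.Lib.H42.SubfVE6
import Cfsg.Agent.Lib.H42.SubfVE7
import Cfsg.Agent.Lib.H42.SubfVE8
import Cfsg.Agent.Lib.H42.SubfVF4
import Cfsg.Agent.Lib.H42.SubfVG2

/-!
Overgroups of subfield subgroups: the final statements.
-/

set_option autoImplicit false
set_option linter.unusedVariables false
set_option linter.unusedSectionVars false

namespace H42.Subf

open H22.RGD H22.Coord H22.RCCheck H22.RCComb H22.ChevTri H22.ChevRel H22.ChevSys H22.ChevMain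
open H22.ChevStd H22.ChevUni H47.ChevSub H22.RCPack H42.Inv2C H42.Inv2D H42.InvCK
open H47.SemiTor (sg sg_apply)
open Cfsg.Lie (ChevalleyDatum)
open scoped MatrixGroups Matrix

/-- the list of types -/
theorem out_all {D : ChevalleyDatum} (hD : D ∈ [Cfsg.Lie.chevG2, Cfsg.Lie.chevB2, Cfsg.Lie.chevD4,
    Cfsg.Lie.chevF4, Cfsg.Lie.chevE6, Cfsg.Lie.chevE7, Cfsg.Lie.chevE8]) {k : Type*} [Field k] {p : ℕ}
    [Fact p.Prime] [CharP k p] (R : Rel D k) {H : Subgroup (GL D.Idx k)} [Finite H] (P : Pre R H) :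
    ∃ (A : Subfield k) (n : ℕ), Out R H p A n := by
  simp only [List.mem_cons, List.not_mem_nil, or_false] at hD
  rcases hD with rfl | rfl | rfl | rfl | rfl | rfl | rfl
  · exact H42.SubfTG2.out R P
  · exact H42.SubfTB2.out R P
  · exact H42.SubfTD4.out R P
  · exact H42.SubfTF4.out R P
  · exact H42.SubfTE6.out R P
  · exact H42.SubfTE7.out R P
  · exact H42.SubfTE8.out R P

theorem rcx_all {D : ChevalleyDatum} (hD : D ∈ [Cfsg.Lie.chevG2, Cfsg.Lie.chevB2, Cfsg.Lie.chevD4,
    Cfsg.Lie.chevF4, Cfsg.Lie.chevE6, Cfsg.Lie.chevE7, Cfsg.Lie.chevE8]) : Nonempty (RCX D) := by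
  simp only [List.mem_cons, List.not_mem_nil, or_false] at hD
  rcases hD with rfl | rfl | rfl | rfl | rfl | rfl | rfl
  · exact ⟨H22.PoinG2.rcxG2⟩
  · exact ⟨H22.PoinB2.rcxB2⟩
  · exact ⟨H22.PoinD4.rcxD4⟩
  · exact ⟨H22.PoinF4.rcxF4⟩
  · exact ⟨H22.PoinE6.rcxE6⟩
  · exact ⟨H22.PoinE7.rcxE7⟩
  · exact ⟨H22.PoinE8.rcxE8⟩

variable {D : ChevalleyDatum} {k : Type*} [Field k] {R : Rel D k}
variable {H : Subgroup (GL D.Idx k)}

/-- the field of fixed points lies in the field of parameters; its degree -/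
theorem card_of {p : ℕ} [Fact p.Prime] [CharP k p] {A : Subfield k} [Finite A] {a : ℕ} (ha : 1 ≤ a)
    {F : Type*} [Field F] [Finite F] (hF : Nat.card F = p ^ a) (φ : F →+* k)
    (h : ∀ t : k, t ^ p ^ a = t → t ∈ A) : ∃ r, 1 ≤ r ∧ Nat.card A = (p ^ a) ^ r := by
  have : Fintype F := Fintype.ofFinite F
  have : Fintype A := Fintype.ofFinite A
  let ψ : F →+* A := φ.codRestrict A (fun x => h _ (by
    rw [← map_pow, ← hF, Nat.card_eq_fintype_card, FiniteField.pow_card]))
  let _ : Algebra F A := ψ.toAlgebra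
  refine ⟨Module.finrank F A, Module.finrank_pos, ?_⟩
  rw [← hF, Nat.card_eq_fintype_card, Nat.card_eq_fintype_card]
  exact Module.card_eq_pow_finrank

/-- the closure of the root elements -/
theorem pre_of {q : ℕ} (hq : q ≠ 0) (hG : H ≤ D.group k)
    (hL : Subgroup.closure {g : GL D.Idx k | ∃ (s : ℕ) (t : k), t ^ q = t ∧
      (g : Matrix D.Idx D.Idx k) = D.x k s t} ≤ H) : Pre R H :=
  ⟨hG, fun r => hL (Subgroup.subset_closure ⟨r, 1, one_pow _, rfl⟩)⟩

/-- root elements in the subgroup -/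
theorem cl_le {q : ℕ} (h : ∀ r < D.nroots, ∀ t : k, t ^ q = t → xg R r t ∈ H) :
    Subgroup.closure {g : GL D.Idx k | ∃ (s : ℕ) (t : k), t ^ q = t ∧
      (g : Matrix D.Idx D.Idx k) = D.x k s t} ≤ H := by
  rw [Subgroup.closure_le]
  rintro g ⟨s, t, ht, hg⟩
  by_cases hs : s < D.nroots
  · have : g = xg R s t := Units.ext hg
    rw [this]; exact h s hs t ht
  · have : g = 1 := by
      apply Units.ext
      rw [hg]
      unfold ChevalleyDatum.x
      rw [dif_neg hs]; rfl
    rw [this]; exact H.one_mem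

/-- the group is generated by root elements -/
theorem group_le (h : ∀ r < D.nroots, ∀ t : k, xg R r t ∈ H) : D.group k ≤ H := by
  unfold ChevalleyDatum.group
  rw [Subgroup.closure_le]
  rintro g ⟨r, t, hg⟩
  have : g = xg R r t := by
    apply Units.ext
    rw [hg, xg_val]
    unfold ChevalleyDatum.x
    rw [dif_pos r.2]
  rw [this]; exact h r r.2 t

theorem xg_group {r : ℕ} (hr : r < D.nroots) (t : k) : xg R r t ∈ D.group k := by
  refine Subgroup.subset_closure ⟨⟨r, hr⟩, t, ?_⟩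
  rw [xg_val]
  unfold ChevalleyDatum.x
  rw [dif_pos hr]

/-- overgroups over an algebraically closed field -/
theorem final1 {p : ℕ} [Fact p.Prime] [CharP k p] [IsAlgClosed k]
    (hD : D ∈ [Cfsg.Lie.chevG2, Cfsg.Lie.chevB2, Cfsg.Lie.chevD4,
    Cfsg.Lie.chevF4, Cfsg.Lie.chevE6, Cfsg.Lie.chevE7, Cfsg.Lie.chevE8]) {a : ℕ} (ha : 1 ≤ a)
    (M : Subgroup (GL D.Idx k)) (hMfin : Finite ↥M) (hMG : M ≤ D.group k)
    (hLM : Subgroup.closure {g : GL D.Idx k | ∃ (s : ℕ) (t : k), t ^ (p ^ a) = t ∧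
      (g : Matrix D.Idx D.Idx k) = D.x k s t} ≤ M) :
    ∃ r : ℕ, 1 ≤ r ∧ Subgroup.closure {g : GL D.Idx k | ∃ (s : ℕ) (t : k), t ^ ((p ^ a) ^ r) = t ∧
        (g : Matrix D.Idx D.Idx k) = D.x k s t} ≤ M ∧
      ∀ g ∈ M, ∀ i j : D.Idx, ((g : Matrix D.Idx D.Idx k) i j) ^ ((p ^ a) ^ r) =
        (g : Matrix D.Idx D.Idx k) i j := by
  have hp0 : p ≠ 0 := (Fact.out : p.Prime).ne_zero
  have ha0 : a ≠ 0 := by omega
  have R : Rel D k := H22.ChevAll.rel _ (by simpa using hD) k
  have P : Pre R M := pre_of (pow_ne_zero a hp0) hMG hLM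
  obtain ⟨A, n, O⟩ := out_all hD R P
  have := O.fin
  let _ : Algebra (ZMod p) k := ZMod.algebra k p
  have hsub : ∀ t : k, t ^ p ^ a = t → t ∈ A := by
    intro t ht
    rw [O.top]
    exact hLM (Subgroup.subset_closure ⟨_, t, ht, rfl⟩)
  obtain ⟨r, hr1, hr⟩ := card_of (A := A) ha (GaloisField.card p a ha0)
    ((IsAlgClosed.lift : GaloisField p a →ₐ[ZMod p] k) : GaloisField p a →+* k) hsub
  have hn : (p ^ a) ^ r = p ^ n := by rw [← hr, O.card]
  refine ⟨r, hr1, ?_, ?_⟩
  · apply cl_le (R := R)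
    intro s hs t ht
    refine O.all s hs t ((O.mem t).2 ?_)
    rw [← hn]; exact ht
  · intro g hg i j
    have h1 := (Fr_eq_iff (D := D) (sg k p n)).1 (O.rat g hg) i j
    rw [sg_apply] at h1
    rw [hn]; exact h1

/-- subfield subgroups of prime degree -/
theorem final2 {K : Type*} [Field K] [Fintype K] {p : ℕ} [Fact p.Prime] [CharP K p]
    (hD : D ∈ [Cfsg.Lie.chevG2, Cfsg.Lie.chevB2, Cfsg.Lie.chevD4,
    Cfsg.Lie.chevF4, Cfsg.Lie.chevE6, Cfsg.Lie.chevE7, Cfsg.Lie.chevE8]) {a r : ℕ} (ha : 1 ≤ a)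
    (hr : r.Prime) (hK : Fintype.card K = (p ^ a) ^ r) (M : Subgroup (GL D.Idx K))
    (hM : ∀ g : GL D.Idx K, g ∈ M ↔ g ∈ D.group K ∧ ∀ i j : D.Idx,
      ((g : Matrix D.Idx D.Idx K) i j) ^ (p ^ a) = (g : Matrix D.Idx D.Idx K) i j) :
    M ≠ D.group K ∧ ∀ H : Subgroup (GL D.Idx K), M ≤ H → H ≤ D.group K → H = M ∨ H = D.group K := by
  have hp : p.Prime := Fact.out
  have ha0 : a ≠ 0 := by omega
  have R : Rel D K := H22.ChevAll.rel _ (by simpa using hD) K
  obtain ⟨X⟩ := rcx_all hD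
  have hθ := H47.ChevLong.top_lt X.rc
  have hq1 : 1 < p ^ a := Nat.one_lt_pow ha0 hp.one_lt
  -- root elements in `M`
  have hMx : ∀ s < D.nroots, ∀ t : K, t ^ p ^ a = t → xg R s t ∈ M := by
    intro s hs t ht
    rw [hM]
    refine ⟨xg_group hs t, ?_⟩
    have h1 : Fr (D := D) (sg K p a) (xg R s t) = xg R s t := by
      rw [Fr_xg, sg_apply, ht]
    intro i j
    have h2 := (Fr_eq_iff (D := D) (sg K p a)).1 h1 i j
    rwa [sg_apply] at h2
  constructor
  · intro e
    have h1 : ∀ t : K, t ^ p ^ a = t := by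
      intro t
      have h2 : xg R (D.nroots - 1) t ∈ M := by rw [e]; exact xg_group hθ t
      have h3 := ((hM _).1 h2).2
      have h4 : Fr (D := D) (sg K p a) (xg R (D.nroots - 1) t) = xg R (D.nroots - 1) t := by
        rw [Fr_eq_iff]
        intro i j
        rw [sg_apply]; exact h3 i j
      rw [Fr_xg] at h4
      have h5 := xg_inj R X.rc hθ h4
      rwa [sg_apply] at h5
    have h2 : Fintype.card K ≤ p ^ a := by
      classical
      have h3 : (Polynomial.X ^ (p ^ a) - Polynomial.X : Polynomial K) ≠ 0 :=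
        FiniteField.X_pow_card_pow_sub_X_ne_zero K ha0 hp.one_lt
      have h4 : (Finset.univ : Finset K) ⊆
          (Polynomial.X ^ (p ^ a) - Polynomial.X : Polynomial K).roots.toFinset := by
        intro t _
        rw [Multiset.mem_toFinset, Polynomial.mem_roots h3]
        simp [h1 t]
      calc Fintype.card K = (Finset.univ : Finset K).card := rfl
        _ ≤ _ := Finset.card_le_card h4
        _ ≤ _ := Multiset.toFinset_card_le _
        _ ≤ _ := Polynomial.card_roots' _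
        _ = p ^ a := FiniteField.X_pow_card_pow_sub_X_natDegree_eq K ha0 hp.one_lt
    rw [hK] at h2
    have h3 : (p ^ a) ^ 1 < (p ^ a) ^ r := Nat.pow_lt_pow_right hq1 hr.one_lt
    rw [pow_one] at h3
    omega
  · intro H hMH hHG
    have : Finite (GL D.Idx K) := by
      have : Finite (Matrix D.Idx D.Idx K) := inferInstanceAs (Finite (D.Idx → D.Idx → K))
      infer_instance
    have P : Pre R H := ⟨hHG, fun s => by
      by_cases hs : s < D.nroots
      · exact hMH (hMx s hs 1 (one_pow _))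
      · have : xg R s (1 : K) = 1 := by
          apply Units.ext
          rw [xg_val]
          unfold ChevalleyDatum.x
          rw [dif_neg hs]; rfl
        rw [this]; exact H.one_mem⟩
    obtain ⟨A, n, O⟩ := out_all hD R P
    have := O.fin
    let _ : Algebra (ZMod p) K := ZMod.algebra K p
    have hfin : Module.finrank (ZMod p) K = a * r := by
      have h1 := FiniteField.pow_finrank_eq_card p K
      rw [hK, ← pow_mul] at h1
      exact Nat.pow_right_injective hp.two_le h1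
    have hsub : ∀ t : K, t ^ p ^ a = t → t ∈ A := fun t ht => (O.top t).2 (hMH (hMx _ hθ t ht))
    obtain ⟨φ⟩ := FiniteField.nonempty_algHom_of_finrank_dvd (F := ZMod p) (K := GaloisField p a) (L := K)
      (by rw [GaloisField.finrank p ha0, hfin]; exact dvd_mul_right _ _)
    obtain ⟨d, hd1, hd⟩ := card_of (A := A) ha (GaloisField.card p a ha0) (φ : GaloisField p a →+* K) hsub
    have hAK : ∃ e, Nat.card K = Nat.card A ^ e := by
      have : Fintype A := Fintype.ofFinite A
      refine ⟨Module.finrank A K, ?_⟩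
      rw [Nat.card_eq_fintype_card, Nat.card_eq_fintype_card]
      exact Module.card_eq_pow_finrank
    obtain ⟨e, he⟩ := hAK
    rw [Nat.card_eq_fintype_card, hK, hd, ← pow_mul (p ^ a) d e] at he
    have hde : r = d * e := Nat.pow_right_injective hq1 he
    rcases (Nat.dvd_prime hr).1 (show d ∣ r from ⟨e, hde⟩) with h1 | h1
    · left
      refine le_antisymm ?_ hMH
      intro g hg
      rw [hM]
      refine ⟨hHG hg, fun i j => ?_⟩
      have h2 := (Fr_eq_iff (D := D) (sg K p n)).1 (O.rat g hg) i j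
      rw [sg_apply, ← O.card, hd, h1, pow_one] at h2
      exact h2
    · right
      refine le_antisymm hHG (group_le (R := R) ?_)
      intro s hs t
      refine O.all s hs t ((O.mem t).2 ?_)
      rw [← O.card, hd, h1, ← hK]
      exact FiniteField.pow_card t

end H42.Subf
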