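import Mathlib

set_option autoImplicit false

/-! Arithmetic for the subgroups of the Suzuki groups. -/

namespace H42.SuzArith

/-- case I, one class with `n = 2` -/
theorem caseA {Q X a cS cH c g : ℤ} (hQ : 8 ≤ Q) (hQe : 2 ∣ Q) (hX : Q + 1 ≤ X) (ha : 5 ≤ a) (hg : g = Q * (Q - 1) * X)
    (hS : cS = X * (Q - 1)) (hH : cH * (2 * (Q - 1)) = g * (Q - 2)) (hc : c * (2 * a) = g * (a - 1))
    (hsum : 1 + cS + cH + c = g) : a = Q + 1 := by
  have hH' : 2 * cH = Q * X * (Q - 2) := by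
    have : (2 * cH) * (Q - 1) = (Q * X * (Q - 2)) * (Q - 1) := by rw [hg] at hH; linear_combination hH
    exact mul_right_cancel₀ (by omega) this
  have hmain : X * (Q * (Q - 1) - a * (Q - 2)) = 2 * a := by
    rw [hg] at hc hsum
    rw [hS] at hsum
    linear_combination (-2 * a) * hsum + a * hH' + hc
  set D := Q * (Q - 1) - a * (Q - 2) with hD
  have hDpos : 0 < D := by
    by_contra h
    push Not at h
    nlinarith
  have hDe : 2 ∣ D := by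
    obtain ⟨r, rfl⟩ := hQe
    exact ⟨r * (2 * r - 1) - a * (r - 1), by rw [hD]; ring⟩
  have hD2 : 2 ≤ D := by
    obtain ⟨r, hr⟩ := hDe
    omega
  have haX : X ≤ a := by nlinarith
  have haQ : a ≤ Q + 1 := by
    by_contra h
    push Not at h
    have : (Q + 2) * (Q - 2) ≤ a * (Q - 2) := by nlinarith
    have h2 : D ≤ Q * (Q - 1) - (Q + 2) * (Q - 2) := by rw [hD]; linarith
    have h3 : Q * (Q - 1) - (Q + 2) * (Q - 2) = 4 - Q := by ring
    omega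
  omega

/-- case II, one class with `n = 2` -/
theorem caseB {Q X a cS cH c g : ℤ} (hQ : 8 ≤ Q) (hX : Q ^ 2 + 1 ≤ X) (ha : 5 ≤ a) (hg : g = Q ^ 2 * (Q - 1) * X)
    (hS : cS = X * (Q ^ 2 - 1)) (hH : cH * (2 * (Q - 1)) = g * (Q - 2)) (hc : c * (2 * a) = g * (a - 1))
    (hsum : 1 + cS + cH + c = g) : False := by
  have hH' : 2 * cH = Q ^ 2 * X * (Q - 2) := by
    have : (2 * cH) * (Q - 1) = (Q ^ 2 * X * (Q - 2)) * (Q - 1) := by rw [hg] at hH; linear_combination hH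
    exact mul_right_cancel₀ (by omega) this
  have hmain : X * (Q ^ 2 * (Q - 1) - a * (Q ^ 2 - 2)) = 2 * a := by
    rw [hg] at hc hsum
    rw [hS] at hsum
    linear_combination (-2 * a) * hsum + a * hH' + hc
  set D := Q ^ 2 * (Q - 1) - a * (Q ^ 2 - 2) with hD
  have hDpos : 0 < D := by
    by_contra h
    push Not at h
    nlinarith
  have haQ : a < Q := by
    by_contra h
    push Not at h
    have h0 : 0 ≤ Q ^ 2 - 2 := by nlinarith
    have h1 : Q * (Q ^ 2 - 2) ≤ a * (Q ^ 2 - 2) := mul_le_mul_of_nonneg_right h h0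
    nlinarith
  have h2 : X * 1 ≤ X * D := mul_le_mul_of_nonneg_left (by omega) (by nlinarith)
  nlinarith

theorem bound_f {Q f a b : ℤ} (hQ : 8 ≤ Q) (hf : 1 ≤ f) (ha : 5 ≤ a) (hb : 5 ≤ b) (hab : a ≤ b)
    (hab1 : a * b = 1 + Q ^ 2 * f) (hsumab : (Q - 1) * (a + b) = 2 + 2 * f * (Q ^ 2 - 2)) : f < Q := by
  by_contra hfQ
  push Not at hfQ
  have hQQ : 8 * 8 ≤ Q * Q := mul_le_mul hQ hQ (by norm_num) (by omega)
  have hQ2 : 0 < Q ^ 2 - 2 := by rw [pow_two]; linarith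
  have e0 : (Q - 1) * (a + b) = 2 * (a * b) - 4 * f := by rw [hab1]; linear_combination hsumab
  have e1 : (Q - 1) * a ≤ (Q - 1) * b := mul_le_mul_of_nonneg_left hab (by omega)
  have haQ : a ≤ Q - 1 := by
    by_contra h
    push Not at h
    have h1 : a * b - 2 * f ≤ (Q - 1) * b := by
      have : (Q - 1) * (a + b) = (Q - 1) * a + (Q - 1) * b := by ring
      linarith
    have h1' : Q ^ 2 * (a * b - 2 * f) ≤ Q ^ 2 * ((Q - 1) * b) := mul_le_mul_of_nonneg_left h1 (by positivity)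
    have h2 : a * (Q ^ 2 - 2) * b < (Q - 1) * Q ^ 2 * b := by
      have : Q ^ 2 * (a * b - 2 * f) = a * (Q ^ 2 - 2) * b + 2 := by linear_combination 2 * hab1
      have h3 : Q ^ 2 * ((Q - 1) * b) = (Q - 1) * Q ^ 2 * b := by ring
      linarith
    have h3 : a * (Q ^ 2 - 2) < (Q - 1) * Q ^ 2 := lt_of_mul_lt_mul_right h2 (by omega)
    have h4 : Q * (Q ^ 2 - 2) ≤ a * (Q ^ 2 - 2) := mul_le_mul_of_nonneg_right (by omega) hQ2.le
    have h5 : Q * (Q ^ 2 - 2) - (Q - 1) * Q ^ 2 = Q * (Q - 2) := by ring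
    have h6 : 0 ≤ Q * (Q - 2) := mul_nonneg (by omega) (by omega)
    linarith
  have hD : f * (2 * a * (Q ^ 2 - 2) - (Q - 1) * Q ^ 2) = (Q - 1) * (a ^ 2 + 1) - 2 * a := by
    linear_combination (-a) * hsumab + (Q - 1) * hab1
  have hNpos : 0 < (Q - 1) * (a ^ 2 + 1) - 2 * a := by
    have h1 : 7 * (a ^ 2 + 1) ≤ (Q - 1) * (a ^ 2 + 1) := mul_le_mul_of_nonneg_right (by omega) (by positivity)
    have h2 : 0 < 7 * (a ^ 2 + 1) - 2 * a := by nlinarith [sq_nonneg (a - 1)]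
    linarith
  have hDpos : 0 < 2 * a * (Q ^ 2 - 2) - (Q - 1) * Q ^ 2 := by
    by_contra h
    push Not at h
    have := mul_nonpos_of_nonneg_of_nonpos (show 0 ≤ f by omega) h
    linarith
  have h2a : Q ≤ 2 * a := by
    by_contra h
    push Not at h
    have h1 : 2 * a * (Q ^ 2 - 2) ≤ (Q - 1) * (Q ^ 2 - 2) := mul_le_mul_of_nonneg_right (by omega) hQ2.le
    have h2 : (Q - 1) * (Q ^ 2 - 2) = (Q - 1) * Q ^ 2 - 2 * (Q - 1) := by ring
    linarith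
  have h5 : Q * (2 * a * (Q ^ 2 - 2) - (Q - 1) * Q ^ 2) ≤ (Q - 1) * (a ^ 2 + 1) - 2 * a := by
    rw [← hD]; exact mul_le_mul_of_nonneg_right hfQ hDpos.le
  obtain ⟨s, hs⟩ : ∃ s, s = 2 * a - Q := ⟨_, rfl⟩
  obtain ⟨t, ht⟩ : ∃ t, t = Q - 1 - a := ⟨_, rfl⟩
  have hs0 : 0 ≤ s := by omega
  have ht0 : 0 ≤ t := by omega
  have ha' : a = s + t + 1 := by omega
  have hQ' : Q = s + 2 * t + 2 := by omega
  have hst : 6 ≤ s + 2 * t := by omega
  rw [ha', hQ'] at h5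
  have e : (s + 2 * t + 2) * (2 * (s + t + 1) * ((s + 2 * t + 2) ^ 2 - 2) - (s + 2 * t + 2 - 1) * (s + 2 * t + 2) ^ 2) -
    ((s + 2 * t + 2 - 1) * ((s + t + 1) ^ 2 + 1) - 2 * (s + t + 1)) =
    6 * s + 4 * t + (s ^ 4 + 6 * s ^ 3 + 6 * (s ^ 3 * t) + 26 * (s ^ 2 * t) + 11 * s ^ 2 + 12 * (s ^ 2 * t ^ 2) +
      31 * (s * t ^ 2) + 28 * (s * t) + 8 * (s * t ^ 3) + 6 * t ^ 3 + 11 * t ^ 2) := by ring
  have hpos : 0 ≤ s ^ 4 + 6 * s ^ 3 + 6 * (s ^ 3 * t) + 26 * (s ^ 2 * t) + 11 * s ^ 2 + 12 * (s ^ 2 * t ^ 2) +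
      31 * (s * t ^ 2) + 28 * (s * t) + 8 * (s * t ^ 3) + 6 * t ^ 3 + 11 * t ^ 2 := by positivity
  linarith

/-- case II, two classes with `n = 4` -/
theorem caseD {Q X a b k f cS cH c d g : ℤ} (hQ : 8 ≤ Q) (hQ8 : 8 ∣ Q ^ 2) (hQo : IsCoprime (Q - 1) 2) (hf : 1 ≤ f) (hX : X = 1 + Q ^ 2 * f) (ha : 5 ≤ a) (hb : 5 ≤ b)
    (hao : ¬ 2 ∣ a) (hbo : ¬ 2 ∣ b) (hk : X = a * b * k)
    (hg : g = Q ^ 2 * (Q - 1) * X)
    (hS : cS = X * (Q ^ 2 - 1)) (hH : cH * (2 * (Q - 1)) = g * (Q - 2)) (hc : c * (4 * a) = g * (a - 1))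
    (hd : d * (4 * b) = g * (b - 1)) (hsum : 1 + cS + cH + c + d = g) : f = 1 := by
  have hH' : 2 * cH = Q ^ 2 * X * (Q - 2) := by
    have : (2 * cH) * (Q - 1) = (Q ^ 2 * X * (Q - 2)) * (Q - 1) := by rw [hg] at hH; linear_combination hH
    exact mul_right_cancel₀ (by omega) this
  have hmain : X * (Q ^ 2 * (Q - 1) * (a + b) - 2 * a * b * (Q ^ 2 - 2)) = 4 * (a * b) := by
    rw [hg] at hc hd hsum
    rw [hS] at hsum
    linear_combination (-4 * a * b) * hsum + (2 * a * b) * hH' + b * hc + a * hd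
  have hab : a * b ≠ 0 := mul_ne_zero (by omega) (by omega)
  have hkZ : k * (Q ^ 2 * (Q - 1) * (a + b) - 2 * a * b * (Q ^ 2 - 2)) = 4 := by
    apply mul_left_cancel₀ hab
    rw [hk] at hmain
    linear_combination hmain
  -- Z ≡ 4 mod 8
  obtain ⟨a', ha'⟩ : ∃ a', a = 2 * a' + 1 := ⟨a / 2, by omega⟩
  obtain ⟨b', hb'⟩ : ∃ b', b = 2 * b' + 1 := ⟨b / 2, by omega⟩
  obtain ⟨r, hr⟩ := hQ8
  have hZ8 : ∃ z, Q ^ 2 * (Q - 1) * (a + b) - 2 * a * b * (Q ^ 2 - 2) = 8 * z + 4 := by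
    refine ⟨r * ((Q - 1) * (a + b) - 2 * a * b) + (2 * a' * b' + a' + b'), ?_⟩
    rw [hr, ha', hb']; ring
  obtain ⟨z, hz⟩ := hZ8
  rw [hz] at hkZ
  have hz0 : z = 0 ∧ k = 1 := by
    have hk1 : k * (2 * z + 1) = 1 := by linarith
    have := Int.isUnit_iff.1 (IsUnit.of_mul_eq_one _ hk1)
    rcases this with h | h
    · rw [h] at hk1; constructor <;> omega
    · exfalso
      rw [h] at hk
      have h1 : 0 < a * b := mul_pos (by omega) (by omega)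
      have h2 : 0 < X := by rw [hX]; positivity
      linarith
  obtain ⟨hz0, hk1⟩ := hz0
  rw [hz0] at hz
  rw [hk1, mul_one] at hk
  have hQ0 : Q ^ 2 ≠ 0 := by positivity
  have hab1 : a * b = 1 + Q ^ 2 * f := by rw [← hk, hX]
  have hsumab : (Q - 1) * (a + b) = 2 + 2 * f * (Q ^ 2 - 2) := by
    apply mul_left_cancel₀ hQ0
    linear_combination hz + (2 * (Q ^ 2 - 2)) * hab1
  -- f ≡ 1
  have hdvd : (Q - 1) ∣ 2 * (f - 1) := ⟨2 * f * (Q + 1) - (a + b), by linear_combination hsumab⟩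
  have hdvd' : (Q - 1) ∣ (f - 1) := hQo.dvd_of_dvd_mul_left hdvd
  have hfQ : ∀ a b : ℤ, 5 ≤ a → 5 ≤ b → a ≤ b → a * b = 1 + Q ^ 2 * f → (Q - 1) * (a + b) = 2 + 2 * f * (Q ^ 2 - 2) → f < Q :=
    fun a b ha hb hab h1 h2 => bound_f hQ hf ha hb hab h1 h2
  have hflt : f < Q := by
    rcases le_total a b with h | h
    · exact hfQ a b ha hb h hab1 hsumab
    · exact hfQ b a hb ha h (by linear_combination hab1) (by linear_combination hsumab)
  obtain ⟨t, ht⟩ := hdvd'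
  have : t = 0 := by
    by_contra h
    rcases lt_or_gt_of_ne h with h | h
    · have : (Q - 1) * t ≤ (Q - 1) * (-1) := mul_le_mul_of_nonneg_left (by omega) (by omega)
      omega
    · have : (Q - 1) * 1 ≤ (Q - 1) * t := mul_le_mul_of_nonneg_left (by omega) (by omega)
      omega
  rw [this, mul_zero] at ht
  omega

end H42.SuzArith
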