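import Cfsg.Agent.Lib.H42.SuzSol2

set_option autoImplicit false

/-! Solubilisers of elements of order four in the Suzuki groups. -/

namespace H42.SuzSol

open Cfsg H8.SuzOvoid H8.SuzField H8.SuzMat H8.SuzStab H8.SuzGroup H8.SuzSylow H8.SuzCent H8.SuzSimple H8.TICount H8.SuzTorus
open H42.SuzPart H42.SolCount
open scoped Pointwise

variable {F : Type*} [Field F] [Fintype F] {m : ℕ}

/-- the additive map `s ↦ θ(s) a + θ(a) s` -/
def Lmap (hF : Fintype.card F = 2 ^ (2 * m + 1)) (a : F) : F →+ F where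
  toFun s := th m s * a + th m a * s
  map_zero' := by rw [th_zero]; ring
  map_add' s t := by rw [th_add hF]; ring

theorem fix_th (hF : Fintype.card F = 2 ^ (2 * m + 1)) {t : F} (h : th m t = t) : t = 0 ∨ t = 1 := by
  have h1 := th_th hF t
  rw [h, h] at h1
  have h2 : t * (t - 1) = 0 := by linear_combination -h1
  rcases mul_eq_zero.1 h2 with h3 | h3
  · exact Or.inl h3
  · exact Or.inr (by linear_combination h3)

theorem commute_iff (hF : Fintype.card F = 2 ^ (2 * m + 1)) {a c : F} (ha : a ≠ 0) :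
    th m c * a + th m a * c = 0 ↔ c = 0 ∨ c = a := by
  have two := two_eq_zero hF
  constructor
  · intro h
    have ha' : th m a ≠ 0 := fun h => ha (th_eq_zero.1 h)
    have h1 : th m (c / a) = c / a := by
      rw [th_div, div_eq_div_iff ha' ha]
      linear_combination h - (th m a * c) * two
    rcases fix_th hF h1 with h2 | h2
    · left
      rcases div_eq_zero_iff.1 h2 with h3 | h3
      · exact h3
      · exact absurd h3 ha
    · right
      exact (div_eq_one_iff_eq ha).1 h2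
  · rintro (rfl | rfl)
    · rw [th_zero]; ring
    · linear_combination (th m c * c) * two

theorem not_mem_range (hF : Fintype.card F = 2 ^ (2 * m + 1)) {a : F} (ha : a ≠ 0) :
    th m a * a ∉ (Lmap (m := m) hF a).range := by
  rintro ⟨s, hs⟩
  have two := two_eq_zero hF
  have hs' : th m s * a + th m a * s = th m a * a := hs
  have ha' : th m a ≠ 0 := fun h => ha (th_eq_zero.1 h)
  set t := s / a with ht
  have hst : s = t * a := by rw [ht, div_mul_cancel₀ _ ha]
  have h1 : th m t + t = 1 := by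
    rw [hst, th_mul] at hs'
    apply mul_right_cancel₀ (mul_ne_zero ha' ha)
    linear_combination hs'
  have h2 : th m t = 1 - t := by linear_combination h1
  have h3 := th_th hF t
  have h4 : th m (th m t) + th m t = 1 := by
    have h5 := congrArg (th m) h1
    rw [th_add hF, th_one] at h5
    exact h5
  rw [h3, h2] at h4
  have h5 : t * (t - 1) = 0 := by linear_combination h4
  rcases mul_eq_zero.1 h5 with h6 | h6
  · rw [h6, th_zero, add_zero] at h1
    exact zero_ne_one h1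
  · have h7 : t = 1 := by linear_combination h6
    rw [h7, th_one] at h1
    have : (1 : F) = 0 := by linear_combination h1 - two + two - h1 + two - h1
    exact one_ne_zero this

theorem index_range (hF : Fintype.card F = 2 ^ (2 * m + 1)) {a : F} (ha : a ≠ 0) :
    (Lmap (m := m) hF a).range.index = 2 := by
  have h1 : Nat.card (Lmap (m := m) hF a).ker = 2 := by
    have h2 : ((Lmap (m := m) hF a).ker : Set F) = {0, a} := by
      ext c
      exact commute_iff hF ha
    have h3 : Nat.card (Lmap (m := m) hF a).ker = ((Lmap (m := m) hF a).ker : Set F).ncard := (Nat.card_coe_set_eq _)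
    rw [h3, h2, Set.ncard_pair ha.symm]
  have h2 := AddSubgroup.card_mul_index (Lmap (m := m) hF a).ker
  have h3 := AddSubgroup.card_mul_index (Lmap (m := m) hF a).range
  rw [AddSubgroup.index_ker, h1, mul_comm, ← h3] at h2
  exact (Nat.eq_of_mul_eq_mul_left Nat.card_pos h2).symm

theorem tG_inv (hF : Fintype.card F = 2 ^ (2 * m + 1)) (a b : F) :
    (tG hF a b : Sz F m)⁻¹ = tG hF a (b + th m a * a) := Subtype.ext (T_inv hF a b)

theorem tG_conj_tG (hF : Fintype.card F = 2 ^ (2 * m + 1)) (a b s t : F) :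
    (tG hF s t : Sz F m) * tG hF a b * (tG hF s t)⁻¹ = tG hF a (b + Lmap (m := m) hF a s) := by
  have two := two_eq_zero hF
  rw [mul_inv_eq_iff_eq_mul, tG_mul, tG_mul]
  congr 1
  · ring
  · change t + b + th m s * a = b + (th m s * a + th m a * s) + t + th m a * s
    linear_combination -(th m a * s) * two

theorem conj_of_diff (hF : Fintype.card F = 2 ^ (2 * m + 1)) {a b b' : F}
    (h : b' - b ∈ (Lmap (m := m) hF a).range) : IsConj (tG hF a b : Sz F m) (tG hF a b') := by
  obtain ⟨s, hs⟩ := h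
  rw [isConj_iff]
  refine ⟨tG hF s 0, ?_⟩
  rw [tG_conj_tG, hs]
  congr 1
  ring

theorem order_four_form (hm : 1 ≤ m) (hF : Fintype.card F = 2 ^ (2 * m + 1)) {y : Sz F m} (hy : orderOf y = 4) :
    ∃ g : Sz F m, ∃ c d : F, c ≠ 0 ∧ g * y * g⁻¹ = tG hF c d := by
  have h1 : orderOf (y ^ 2) = 2 := by rw [orderOf_pow, hy]; rfl
  obtain ⟨g, hg⟩ := conj_mem_TT hm hF h1
  obtain ⟨c, d, hcd⟩ := hg y (Commute.self_pow y 2).eq
  refine ⟨g, c, d, ?_, hcd⟩
  rintro rfl
  have h2 := orderOf_conj' g y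
  rw [hcd, hy] at h2
  have h3 : (tG hF 0 d : Sz F m) ^ 2 = 1 := by
    rw [tG_sq, ← tG_one hF]
    congr 1
    rw [th_zero]; ring
  have h4 := orderOf_dvd_of_pow_eq_one h3
  rw [h2] at h4
  norm_num at h4

theorem conj_or_inv (hm : 1 ≤ m) (hF : Fintype.card F = 2 ^ (2 * m + 1)) {a b : F} (ha : a ≠ 0) {y : Sz F m}
    (hy : orderOf y = 4) : IsConj (tG hF a b : Sz F m) y ∨ IsConj (tG hF a b : Sz F m) y⁻¹ := by
  obtain ⟨g, c, d, hc, hg⟩ := order_four_form hm hF hy
  have hac : a / c ≠ 0 := div_ne_zero ha hc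
  have h1 : IsConj y (tG hF a ((a / c) * th m (a / c) * d)) := by
    rw [isConj_iff]
    refine ⟨dG hF (Units.mk0 _ hac) * g, ?_⟩
    have : dG hF (Units.mk0 _ hac) * g * y * (dG hF (Units.mk0 _ hac) * g)⁻¹ =
      dG hF (Units.mk0 _ hac) * (g * y * g⁻¹) * (dG (m := m) hF (Units.mk0 _ hac))⁻¹ := by group
    rw [this, hg, dG_conj, Units.val_mk0, div_mul_cancel₀ _ hc]
  obtain ⟨d', hd'⟩ : ∃ d', d' = (a / c) * th m (a / c) * d := ⟨_, rfl⟩
  rw [← hd'] at h1
  by_cases hin : d' - b ∈ (Lmap (m := m) hF a).range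
  · left
    exact (conj_of_diff hF hin).trans h1.symm
  · right
    have h2 : d' - b + th m a * a ∈ (Lmap (m := m) hF a).range := by
      rw [AddSubgroup.add_mem_iff_of_index_two (index_range hF ha)]
      exact iff_of_false hin (not_mem_range hF ha)
    have h3 : IsConj y⁻¹ (tG hF a d')⁻¹ := by
      obtain ⟨e, he⟩ := isConj_iff.1 h1
      rw [isConj_iff]
      exact ⟨e, by rw [← he]; group⟩
    rw [tG_inv] at h3
    refine (conj_of_diff hF ?_).trans h3.symm
    rwa [show d' + th m a * a - b = d' - b + th m a * a by ring]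

theorem not_conj_inv (hm : 1 ≤ m) (hF : Fintype.card F = 2 ^ (2 * m + 1)) {a b : F} (ha : a ≠ 0) :
    ¬ IsConj (tG hF a b : Sz F m) (tG hF a b)⁻¹ := by
  intro h
  have two := two_eq_zero hF
  obtain ⟨g, hg⟩ := isConj_iff.1 h
  have hne : (tG hF a b : Sz F m) ≠ 1 := by
    intro h0
    rw [← tG_one hF] at h0
    exact ha (tG_inj hF h0).1
  have hinf := fix_inf_of_conj hF (g := g) (x := tG hF a b) ⟨a, b, rfl⟩ hne (by
    rw [hg]; exact (TT (m := m) hF).inv_mem ⟨a, b, rfl⟩)
  obtain ⟨s, t, k, hk⟩ := eq_TD_of_fix_inf hF hm g.2 hinf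
  have hh : g = tG hF s t * dG hF k := Subtype.ext hk
  have h1 : g * tG hF a b * g⁻¹ = tG hF s t * (dG hF k * tG hF a b * (dG hF k)⁻¹) * (tG hF s t)⁻¹ := by
    rw [hh]; group
  rw [h1, dG_conj, tG_conj_tG, tG_inv] at hg
  obtain ⟨h2, h3⟩ := tG_inj hF hg
  have hk1 : k = 1 := by
    apply Units.ext
    apply mul_right_cancel₀ ha
    rw [Units.val_one, one_mul]
    exact h2
  subst hk1
  rw [Units.val_one, th_one, one_mul, one_mul, one_mul] at h3
  exact not_mem_range hF ha ⟨s, by linear_combination h3⟩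

theorem card_centralizer_four (hm : 1 ≤ m) (hF : Fintype.card F = 2 ^ (2 * m + 1)) {a b : F} (ha : a ≠ 0) :
    Nat.card (Subgroup.centralizer ({tG hF a b} : Set (Sz F m))) = 2 * 2 ^ (2 * m + 1) := by
  have two := two_eq_zero hF
  have hne : (tG hF a b : Sz F m) ≠ 1 := by
    intro h0
    rw [← tG_one hF] at h0
    exact ha (tG_inj hF h0).1
  have hmem : ∀ c d : F, (tG hF c d : Sz F m) ∈ Subgroup.centralizer ({tG hF a b} : Set (Sz F m)) ↔ (c = 0 ∨ c = a) := by
    intro c d
    rw [Subgroup.mem_centralizer_singleton_iff, ← commute_iff (m := m) hF ha, tG_mul, tG_mul]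
    constructor
    · intro h
      have := (tG_inj hF h).2
      linear_combination this + (th m a * c) * two
    · intro h
      congr 1
      · ring
      · linear_combination h - (th m a * c) * two
  rw [two_mul, ← hF, ← Nat.card_eq_fintype_card (α := F), ← Nat.card_sum]
  symm
  apply Nat.card_congr
  let f : F ⊕ F → Subgroup.centralizer ({tG hF a b} : Set (Sz F m)) := fun w => match w with
    | Sum.inl d => ⟨tG hF 0 d, (hmem 0 d).2 (Or.inl rfl)⟩
    | Sum.inr d => ⟨tG hF a d, (hmem a d).2 (Or.inr rfl)⟩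
  refine Equiv.ofBijective f ⟨?_, ?_⟩
  · rintro (d | d) (e | e) h <;> replace h := tG_inj hF (congrArg Subtype.val h)
    · rw [h.2]
    · exact absurd h.1.symm ha
    · exact absurd h.1 ha
    · rw [h.2]
  · rintro ⟨g, hg⟩
    obtain ⟨c, d, rfl⟩ := mem_TT_of_commute hm hF hne (Subgroup.mem_centralizer_singleton_iff.1 hg)
    rcases (hmem c d).1 hg with rfl | rfl
    · exact ⟨Sum.inl d, rfl⟩
    · exact ⟨Sum.inr d, rfl⟩

theorem arith_four {q : ℕ} (hq : 1 ≤ q) : q ^ 2 * (q - 1) + 2 * q * (2 * q) = q ^ 2 * (q + 3) := by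
  obtain ⟨t, rfl⟩ := Nat.exists_eq_add_of_le hq
  rw [Nat.add_sub_cancel_left]
  ring

/-- elements of order four -/
theorem card_sol_four (hm : 1 ≤ m) (hF : Fintype.card F = 2 ^ (2 * m + 1)) {a b : F} (ha : a ≠ 0) :
    Nat.card {y : Sz F m // Group.IsSolvable (Subgroup.closure ({tG hF a b, y} : Set (Sz F m)))} =
      (2 ^ (2 * m + 1)) ^ 2 * (2 ^ (2 * m + 1) + 3) := by
  obtain ⟨R, hR, ⟨c0, c1, c2⟩, hne, hComp⟩ := exists_reps hm hF
  have hx : (tG hF a b : Sz F m) ∈ TT (m := m) hF := ⟨a, b, rfl⟩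
  have hx1 : (tG hF a b : Sz F m) ≠ 1 := by
    intro h0
    rw [← tG_one hF] at h0
    exact ha (tG_inj hF h0).1
  have hx4 : orderOf (tG hF a b : Sz F m) = 4 := by
    have h8 : orderOf (tG hF a b : Sz F m) = 2 ^ (1 + 1) := by
      have hfact : Fact (Nat.Prime 2) := ⟨Nat.prime_two⟩
      apply orderOf_eq_prime_pow
      · rw [pow_one, tG_sq, ← tG_one hF]
        intro h
        have h2 := (tG_inj hF h).2
        rcases mul_eq_zero.1 h2 with h | h
        · exact ha (th_eq_zero.1 h)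
        · exact ha h
      · exact tG_pow_four hF a b
    rw [h8]; norm_num
  have hx2 : orderOf ((tG hF a b : Sz F m) ^ 2) = 2 := by rw [orderOf_pow, hx4]; rfl
  rw [card_sol_TT hm hF hR hne hComp hx hx1 ⟨2, hx2⟩]
  have hn0 : Nat.card {V : Subgroup (Sz F m) // (∃ g, V = (R 0).map (MulAut.conj g).toMonoidHom) ∧
        (tG hF a b : Sz F m) ∈ Subgroup.normalizer (V : Set (Sz F m))} = 0 := by
    rw [Nat.card_eq_zero]
    left
    constructor
    rintro ⟨V, ⟨g, rfl⟩, hV⟩
    have hT : IsTorus _ 2 := (hR 0).map_conj g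
    obtain ⟨z, hz, hz2⟩ := hT.exists_involution
    have h1 := (hT.order_four_iff hz hz2 hV).1 hx4
    exact h1.2 (hT.conj_mem_of_sq hz hz2 hV (hT.pow_mem hV) h1.1)
  have hn : ∀ i, ![2, 4, 4] i = 4 → Nat.card {V : Subgroup (Sz F m) // (∃ g, V = (R i).map (MulAut.conj g).toMonoidHom) ∧
        (tG hF a b : Sz F m) ∈ Subgroup.normalizer (V : Set (Sz F m))} * 4 = 2 * 2 ^ (2 * m + 1) := by
    intro i hi
    have hT : IsTorus (R i) 4 := by
      have := hR i
      rwa [hi] at this
    have h1 := count_normalizers (R i) (tG hF a b)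
    rw [card_centralizer_four hm hF ha, hT.card,
      hT.card_order_four (fun y hy => conj_or_inv hm hF ha hy) (not_conj_inv hm hF ha) hx4, ← mul_assoc] at h1
    exact Nat.eq_of_mul_eq_mul_right (Nat.card_pos (α := R i)) h1
  rw [Fin.sum_univ_three, hn0, zero_mul, zero_add]
  have e1 := hn 1 rfl
  have e2 := hn 2 rfl
  change _ + (_ * (4 * _) + _ * (4 * _)) = _
  rw [← mul_assoc, e1, ← mul_assoc, e2, c1, c2, ← mul_add]
  have hr := r_lt hm
  have hq := q_ge hm
  have e3 : 2 ^ (2 * m + 1) + 2 ^ (m + 1) + 1 - 1 + (2 ^ (2 * m + 1) - 2 ^ (m + 1) + 1 - 1) = 2 * 2 ^ (2 * m + 1) := by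
    omega
  rw [e3]
  exact arith_four (by omega)

/-- exceptional tori -/
theorem card_sol_Tor (hm : 1 ≤ m) (hF : Fintype.card F = 2 ^ (2 * m + 1)) {U : Subgroup (Sz F m)} (hU : Tor U)
    {x : Sz F m} (hx : x ∈ U) (hx1 : x ≠ 1) :
    Nat.card {y : Sz F m // Group.IsSolvable (Subgroup.closure ({x, y} : Set (Sz F m)))} = 4 * Nat.card U := by
  have hT := Tor.isTorus hm hF hU
  rw [← hT.card]
  apply Nat.card_congr
  refine Equiv.subtypeEquivRight ?_
  intro y
  rw [sol_iff hm hF hx1]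
  have hodd : ¬ 2 ∣ orderOf x := by
    intro h
    have h1 := orderOf_dvd_natCard (⟨x, hx⟩ : U)
    rw [← Subgroup.orderOf_coe] at h1
    exact hT.odd (h.trans h1)
  constructor
  · rintro (⟨p, hp, hxp, hyp⟩ | ⟨V, hV, hxV, hyV⟩)
    · exfalso
      rw [← orbit_inf hF] at hp
      obtain ⟨g, rfl⟩ := hp
      have h1 : g⁻¹ * x * g ∈ Ginf F m := by
        rw [Ginf, MulAction.mem_stabilizer_iff]
        change ((g : SL F)⁻¹ * (x : SL F) * (g : SL F)) • suzukiPointInfinity F = suzukiPointInfinity F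
        rw [mul_smul, mul_smul, inv_smul_eq_iff]
        exact hxp
      have h2 := orderOf_dvd_natCard (⟨_, h1⟩ : Ginf F m)
      rw [← Subgroup.orderOf_coe, card_stab hm hF] at h2
      have h3 : orderOf (g⁻¹ * x * g) = orderOf x := by
        have := orderOf_conj' g⁻¹ x
        rwa [inv_inv] at this
      change orderOf (g⁻¹ * x * g) ∣ _ at h2
      rw [h3] at h2
      have h4 := orderOf_dvd_natCard (⟨x, hx⟩ : U)
      rw [← Subgroup.orderOf_coe] at h4
      change orderOf x ∣ _ at h4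
      have h5 : Nat.Coprime (Nat.card U) ((2 ^ (2 * m + 1)) ^ 2 * (2 ^ (2 * m + 1) - 1)) := by
        have e1 := hU.coprime_TT hm hF
        have e2 := hU.coprime_HH hm hF
        rw [card_TT] at e1
        rw [card_HH] at e2
        exact Nat.Coprime.mul_right e1.symm e2.symm
      exact hx1 (orderOf_eq_one_iff.1 (Nat.eq_one_of_dvd_coprimes h5 h4 h2))
    · obtain ⟨c, hc⟩ := hV.isTorus hm hF
      have h1 := hc.mem_of_odd hxV hodd
      rw [← hT.cent x hx hx1, hc.cent x h1 hx1]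
      exact hyV
  · intro hy
    exact Or.inr ⟨U, Or.inr hU, Subgroup.le_normalizer hx, hy⟩

/-- elements of the diagonal torus -/
theorem card_sol_HH (hm : 1 ≤ m) (hF : Fintype.card F = 2 ^ (2 * m + 1)) {x : Sz F m} (hx : x ∈ HH (m := m) hF)
    (hx1 : x ≠ 1) :
    Nat.card {y : Sz F m // Group.IsSolvable (Subgroup.closure ({x, y} : Set (Sz F m)))} =
      2 * (2 ^ (2 * m + 1)) ^ 2 * (2 ^ (2 * m + 1) - 1) := by
  classical
  have hT := HH_isTorus hm hF
  have hodd : ¬ 2 ∣ orderOf x := by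
    intro h
    have h1 := orderOf_dvd_natCard (⟨x, hx⟩ : HH (m := m) hF)
    rw [← Subgroup.orderOf_coe] at h1
    exact hT.odd (h.trans h1)
  obtain ⟨k, hk⟩ := hx
  have hk1 : k ≠ 1 := by
    rintro rfl
    rw [map_one] at hk
    exact hx1 hk.symm
  have hx' : x ∈ HH (m := m) hF := ⟨k, hk⟩
  have hxD : (x : SL F) = D m k := by rw [← hk]; rfl
  let G0 : Subgroup (Sz F m) := MulAction.stabilizer (Sz F m) (pnt m (0 : F) 0)
  let N : Subgroup (Sz F m) := Subgroup.normalizer ((HH (m := m) hF : Subgroup (Sz F m)) : Set (Sz F m))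
  -- membership
  have hmem : ∀ y : Sz F m, Group.IsSolvable (Subgroup.closure ({x, y} : Set (Sz F m))) ↔
      (y ∈ Ginf F m ∨ y ∈ G0 ∨ y ∈ N) := by
    intro y
    rw [sol_iff hm hF hx1]
    constructor
    · rintro (⟨p, hp, hxp, hyp⟩ | ⟨V, hV, hxV, hyV⟩)
      · rw [hxD] at hxp
        rcases eq_of_D_fix hF hk1 hp hxp with rfl | rfl
        · exact Or.inl hyp
        · exact Or.inr (Or.inl hyp)
      · obtain ⟨c, hc⟩ := hV.isTorus hm hF
        have h1 := hc.mem_of_odd hxV hodd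
        right; right
        change y ∈ Subgroup.normalizer ((HH (m := m) hF : Subgroup (Sz F m)) : Set (Sz F m))
        rw [← hT.cent x hx' hx1, hc.cent x h1 hx1]
        exact hyV
    · rintro (hy | hy | hy)
      · left
        exact ⟨_, inf_mem m, by rw [hxD, D_smul_inf], hy⟩
      · left
        exact ⟨_, pnt_mem m 0 0, by rw [hxD, D_smul_pnt hF]; simp, hy⟩
      · right
        refine ⟨HH (m := m) hF, Or.inl ⟨1, ?_⟩, Subgroup.le_normalizer hx', hy⟩
        have h1 : (MulAut.conj (1 : Sz F m)).toMonoidHom = MonoidHom.id _ := by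
          ext v; simp
        rw [h1, Subgroup.map_id]
  -- intersections
  have hHi : HH (m := m) hF ≤ Ginf F m := by
    rintro _ ⟨l, rfl⟩
    exact D_smul_inf l
  have hH0 : HH (m := m) hF ≤ G0 := by
    rintro _ ⟨l, rfl⟩
    change D m l • pnt m (0 : F) 0 = pnt m 0 0
    rw [D_smul_pnt hF]; simp
  have hi0 : ∀ y, y ∈ Ginf F m → y ∈ G0 → y ∈ HH (m := m) hF := by
    intro y h1 h2
    obtain ⟨l, hl⟩ := eq_D_of_fix hF hm y.2 h1 h2
    exact ⟨l, Subtype.ext hl.symm⟩
  have hiN : ∀ y, y ∈ N → (y ∈ Ginf F m ∨ y ∈ G0) → y ∈ HH (m := m) hF := by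
    intro y hyN hy
    have h1 := (Subgroup.mem_normalizer_iff.1 (Subgroup.inv_mem _ hyN) x).1 hx'
    rw [inv_inv] at h1
    have hfixI := hHi h1
    have hfix0 := hH0 h1
    have hfI : (x : SL F) • (y : SL F) • suzukiPointInfinity F = (y : SL F) • suzukiPointInfinity F := by
      have h2 : ((y : SL F)⁻¹ * (x : SL F) * (y : SL F)) • suzukiPointInfinity F = suzukiPointInfinity F := hfixI
      rwa [mul_smul, mul_smul, inv_smul_eq_iff] at h2
    have hf0 : (x : SL F) • (y : SL F) • pnt m (0 : F) 0 = (y : SL F) • pnt m (0 : F) 0 := by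
      have h2 : ((y : SL F)⁻¹ * (x : SL F) * (y : SL F)) • pnt m (0 : F) 0 = pnt m 0 0 := hfix0
      rwa [mul_smul, mul_smul, inv_smul_eq_iff] at h2
    rw [hxD] at hfI hf0
    have e1 := eq_of_D_fix hF hk1 (smul_mem y.2 (inf_mem m)) hfI
    have e2 := eq_of_D_fix hF hk1 (smul_mem y.2 (pnt_mem m 0 0)) hf0
    rcases hy with hy | hy
    · apply hi0 y hy
      rcases e2 with h | h
      · exfalso
        exact pnt_ne_inf (m := m) (0 : F) 0 (MulAction.injective (y : SL F) (h.trans (show _ = (y : SL F) • suzukiPointInfinity F from (show (y : SL F) • suzukiPointInfinity F = suzukiPointInfinity F from hy).symm)))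
      · exact h
    · have hy' : (y : SL F) • pnt m (0 : F) 0 = pnt m 0 0 := hy
      rcases e1 with h | h
      · exact hi0 y h hy
      · exfalso
        exact pnt_ne_inf (m := m) (0 : F) 0 (MulAction.injective (y : SL F) (hy'.trans h.symm))
  -- cardinalities
  have c0 : Nat.card G0 = (2 ^ (2 * m + 1)) ^ 2 * (2 ^ (2 * m + 1) - 1) := by
    rw [← card_stab hm hF]
    have h1 : G0 = (MulAction.stabilizer (Sz F m) (suzukiPointInfinity F)).map (MulAut.conj (wG (m := m) hF)).toMonoidHom := by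
      rw [← MulAction.stabilizer_smul_eq_stabilizer_map_conj]
      change MulAction.stabilizer (Sz F m) (pnt m (0 : F) 0) = _
      congr 1
      exact (W_smul_inf (m := m)).symm
    rw [h1]
    exact Nat.card_congr (Subgroup.equivMapOfInjective _ _ (MulAut.conj (wG (m := m) hF)).injective).toEquiv.symm
  have cN : Nat.card N = 2 * (2 ^ (2 * m + 1) - 1) := by
    rw [← card_HH (m := m) hF]
    exact hT.card
  have e : {y : Sz F m // Group.IsSolvable (Subgroup.closure ({x, y} : Set (Sz F m)))} ≃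
      {y : Sz F m // (y ∈ Ginf F m ∨ y ∈ G0 ∨ y ∈ N)} := Equiv.subtypeEquivRight hmem
  rw [Nat.card_congr e]
  have hs : Nat.card {y : Sz F m // (y ∈ Ginf F m ∨ y ∈ G0 ∨ y ∈ N)} + 2 * Nat.card (HH (m := m) hF) =
      Nat.card (Ginf F m) + Nat.card G0 + Nat.card N := by
    have h1 : ({y : Sz F m | (y ∈ Ginf F m ∨ y ∈ G0 ∨ y ∈ N)} : Set (Sz F m)) =
      ((Ginf F m : Set (Sz F m)) ∪ (G0 : Set (Sz F m))) ∪ (N : Set (Sz F m)) := by
      ext y
      simp only [Set.mem_ofPred_eq, Set.mem_union, SetLike.mem_coe, or_assoc]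
    have h2 := Set.ncard_union_add_ncard_inter (Ginf F m : Set (Sz F m)) (G0 : Set (Sz F m))
    have h3 := Set.ncard_union_add_ncard_inter ((Ginf F m : Set (Sz F m)) ∪ (G0 : Set (Sz F m))) (N : Set (Sz F m))
    have h4 : (Ginf F m : Set (Sz F m)) ∩ (G0 : Set (Sz F m)) = (HH (m := m) hF : Set (Sz F m)) := by
      ext y
      constructor
      · rintro ⟨h, h'⟩
        exact hi0 y h h'
      · intro h
        exact ⟨hHi h, hH0 h⟩
    have h5 : ((Ginf F m : Set (Sz F m)) ∪ (G0 : Set (Sz F m))) ∩ (N : Set (Sz F m)) = (HH (m := m) hF : Set (Sz F m)) := by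
      ext y
      constructor
      · rintro ⟨h, h'⟩
        exact hiN y h' h
      · intro h
        exact ⟨Or.inl (hHi h), Subgroup.le_normalizer h⟩
    rw [h4] at h2
    rw [h5, ← h1] at h3
    have k1 : ∀ H : Subgroup (Sz F m), (H : Set (Sz F m)).ncard = Nat.card H := fun H => (Nat.card_coe_set_eq _).symm
    rw [k1, k1, k1] at h2
    rw [k1, k1] at h3
    have k2 : Nat.card {y : Sz F m // (y ∈ Ginf F m ∨ y ∈ G0 ∨ y ∈ N)} =
        ({y : Sz F m | (y ∈ Ginf F m ∨ y ∈ G0 ∨ y ∈ N)} : Set (Sz F m)).ncard := by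
      rw [← Nat.card_coe_set_eq]; rfl
    omega
  have cI : Nat.card (Ginf F m) = (2 ^ (2 * m + 1)) ^ 2 * (2 ^ (2 * m + 1) - 1) := card_stab hm hF
  rw [card_HH, cI, c0, cN] at hs
  have : 2 * (2 ^ (2 * m + 1)) ^ 2 * (2 ^ (2 * m + 1) - 1) = (2 ^ (2 * m + 1)) ^ 2 * (2 ^ (2 * m + 1) - 1) +
    (2 ^ (2 * m + 1)) ^ 2 * (2 ^ (2 * m + 1) - 1) := by ring
  omega

end H42.SuzSol
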