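import Cfsg.Agent.Lib.H42.SuzSub2
import Cfsg.Agent.Lib.H42.SuzSol3

set_option autoImplicit false

/-! Subgroups of the Suzuki groups: normalisation and field structure. -/

namespace H42.SuzMax

open Cfsg H8.SuzOvoid H8.SuzField H8.SuzMat H8.SuzStab H8.SuzGroup H8.SuzSylow H8.SuzCent H8.SuzSimple H8.TICount H8.SuzTorus
open H42.SuzPart H42.SolCount H42.SuzSol H42.SuzSub H42.SubF
open scoped Pointwise

variable {F : Type*} [Field F] [Fintype F] {m : ℕ}

theorem mem_cj {G : Type*} [Group G] {M : Subgroup G} {g x : G} :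
    x ∈ M.map (MulAut.conj g).toMonoidHom ↔ g⁻¹ * x * g ∈ M := by
  rw [Subgroup.mem_map]
  constructor
  · rintro ⟨w, hw, rfl⟩
    change g⁻¹ * (g * w * g⁻¹) * g ∈ M
    rwa [show g⁻¹ * (g * w * g⁻¹) * g = w by group]
  · intro hv
    refine ⟨_, hv, ?_⟩
    change g * (g⁻¹ * x * g) * g⁻¹ = x
    group

theorem cj_cj {G : Type*} [Group G] {M : Subgroup G} {g h : G} :
    (M.map (MulAut.conj g).toMonoidHom).map (MulAut.conj h).toMonoidHom = M.map (MulAut.conj (h * g)).toMonoidHom := by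
  ext x
  rw [mem_cj, mem_cj, mem_cj]
  rw [show g⁻¹ * (h⁻¹ * x * h) * g = (h * g)⁻¹ * x * (h * g) by group]

theorem cj_one {G : Type*} [Group G] {M : Subgroup G} :
    M.map (MulAut.conj (1 : G)).toMonoidHom = M := by
  ext x
  rw [mem_cj]
  simp

theorem le_cj {G : Type*} [Group G] {M N : Subgroup G} {g : G} (h : M.map (MulAut.conj g).toMonoidHom ≤ N) :
    M ≤ N.map (MulAut.conj g⁻¹).toMonoidHom := by
  intro x hx
  rw [mem_cj, inv_inv]
  exact h (mem_cj.2 (by rwa [show g⁻¹ * (g * x * g⁻¹) * g = x by group]))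

/-- the conclusion of the theorem -/
def Good (hF : Fintype.card F = 2 ^ (2 * m + 1)) (M : Subgroup (Sz F m)) : Prop :=
  (∃ g : Sz F m, M ≤ (Ginf F m).map (MulAut.conj g).toMonoidHom) ∨
  (∃ V : Subgroup (Sz F m), Comp hF V ∧ M ≤ Subgroup.normalizer (V : Set (Sz F m))) ∨
  (∃ k : ℕ, 1 ≤ k ∧ k < m ∧ 2 * k + 1 ∣ 2 * m + 1 ∧ ∃ S : Subgroup (Sz F m),
    Nonempty (S ≃* Sz (GaloisField 2 (2 * k + 1)) k) ∧ M ≤ S)

theorem Comp.conj (hm : 1 ≤ m) (hF : Fintype.card F = 2 ^ (2 * m + 1)) {V : Subgroup (Sz F m)} (hV : Comp hF V)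
    (g : Sz F m) : Comp hF (V.map (MulAut.conj g).toMonoidHom) := by
  obtain ⟨R, hR, -, -, hComp⟩ := exists_reps hm hF
  obtain ⟨i, h, rfl⟩ := (hComp V).1 hV
  exact (hComp _).2 ⟨i, g * h, cj_cj⟩

theorem Good.of_conj (hm : 1 ≤ m) (hF : Fintype.card F = 2 ^ (2 * m + 1)) {M : Subgroup (Sz F m)} {g : Sz F m}
    (h : Good hF (M.map (MulAut.conj g).toMonoidHom)) : Good hF M := by
  rcases h with ⟨x, hx⟩ | ⟨V, hV, hM⟩ | ⟨k, hk1, hkm, hdiv, S, ⟨e⟩, hS⟩
  · left
    refine ⟨g⁻¹ * x, ?_⟩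
    rw [← cj_cj]
    exact le_cj hx
  · right; left
    refine ⟨V.map (MulAut.conj g⁻¹).toMonoidHom, Comp.conj hm hF hV _, ?_⟩
    intro y hy
    rw [mem_normalizer_conj, inv_inv]
    exact hM (mem_cj.2 (by rwa [show g⁻¹ * (g * y * g⁻¹) * g = y by group]))
  · right; right
    refine ⟨k, hk1, hkm, hdiv, S.map (MulAut.conj g⁻¹).toMonoidHom, ⟨?_⟩, le_cj hS⟩
    exact (Subgroup.equivMapOfInjective S _ (MulAut.conj g⁻¹).injective).symm.trans e

/-- a solvable subgroup fixes a point of the ovoid or normalises a torus -/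
theorem solvable_cases (hm : 1 ≤ m) (hF : Fintype.card F = 2 ^ (2 * m + 1)) {H : Subgroup (Sz F m)}
    (hs : Group.IsSolvable H) (hne : ∃ x ∈ H, x ≠ 1) :
    (∃ p ∈ suzukiOvoid F m, ∀ h ∈ H, (h : SL F) • p = p) ∨
      ∃ V : Subgroup (Sz F m), Comp hF V ∧ H ≤ Subgroup.normalizer (V : Set (Sz F m)) := by
  obtain ⟨a, haH, ha1, hcomm⟩ := exists_abelian_elem hs hne
  rcases cases_elem hm hF ha1 with h | h | ⟨r, hr, hd, hrq⟩
  · obtain ⟨-, g, hg⟩ := h
    left
    have key : ∀ h ∈ H,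
        (h : SL F) • ((g⁻¹ : Sz F m) : SL F) • suzukiPointInfinity F = ((g⁻¹ : Sz F m) : SL F) • suzukiPointInfinity F := by
      intro h hh
      have hne : g * a * g⁻¹ ≠ 1 := by
        intro h1
        apply ha1
        have : a = g⁻¹ * (g * a * g⁻¹) * g := by group
        rw [this, h1]; group
      obtain ⟨c, d, hcd⟩ := hg
      have h1 : g * (h * a * h⁻¹) * g⁻¹ ∈ TT (m := m) hF := by
        apply mem_TT_of_commute (a := c) (b := d) hm hF
        · rw [← hcd]; exact hne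
        · rw [← hcd]
          calc g * (h * a * h⁻¹) * g⁻¹ * (g * a * g⁻¹) = g * (h * a * h⁻¹ * a) * g⁻¹ := by group
            _ = g * (a * (h * a * h⁻¹)) * g⁻¹ := by rw [hcomm h hh]
            _ = _ := by group
      have h2 := fix_inf_of_conj hF (g := g * h * g⁻¹) (x := g * a * g⁻¹) ⟨c, d, hcd⟩ hne (by
        rw [show g * h * g⁻¹ * (g * a * g⁻¹) * (g * h * g⁻¹)⁻¹ = g * (h * a * h⁻¹) * g⁻¹ by group]
        exact h1)
      have h3 : ((g : SL F) * (h : SL F) * (g : SL F)⁻¹) • suzukiPointInfinity F = suzukiPointInfinity F := h2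
      rw [mul_smul, mul_smul] at h3
      have h4 : (h : SL F) • (g : SL F)⁻¹ • suzukiPointInfinity F = (g : SL F)⁻¹ • suzukiPointInfinity F := by
        rw [eq_inv_smul_iff]; exact h3
      exact h4
    exact ⟨_, smul_mem (g⁻¹).2 (inf_mem m), key⟩
  · obtain ⟨-, g, hg⟩ := h
    right
    have hV : Comp hF ((HH (m := m) hF).map (MulAut.conj g⁻¹).toMonoidHom) := Or.inl ⟨g⁻¹, rfl⟩
    obtain ⟨c, hc⟩ := hV.isTorus hm hF
    have haV : a ∈ (HH (m := m) hF).map (MulAut.conj g⁻¹).toMonoidHom := Subgroup.mem_map.2 ⟨_, hg, by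
        change g⁻¹ * (g * a * g⁻¹) * g⁻¹⁻¹ = a
        group⟩
    have key : ∀ h ∈ H,
        h ∈ Subgroup.normalizer (((HH (m := m) hF).map (MulAut.conj g⁻¹).toMonoidHom : Subgroup (Sz F m)) : Set (Sz F m)) := by
      intro h hh
      apply hc.conj_centralizer_eq haV ha1
      rw [← hc.cent a haV ha1, Subgroup.mem_centralizer_singleton_iff]
      exact hcomm h hh
    exact ⟨_, hV, key⟩
  · right
    obtain ⟨c, hc⟩ := exists_pow_prime hr hd
    have hT : Tor (Subgroup.centralizer ({a ^ c} : Set (Sz F m))) := ⟨r, hr, hrq, _, hc, rfl⟩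
    have hV : Comp hF (Subgroup.centralizer ({a ^ c} : Set (Sz F m))) := Or.inr hT
    have haV : a ∈ (Subgroup.centralizer ({a ^ c} : Set (Sz F m))) :=
      Subgroup.mem_centralizer_singleton_iff.2 (Commute.self_pow a c).eq
    have hc' := H42.SuzSol.Tor.isTorus hm hF hT
    have key : ∀ h ∈ H,
        h ∈ Subgroup.normalizer (((Subgroup.centralizer ({a ^ c} : Set (Sz F m))) : Subgroup (Sz F m)) : Set (Sz F m)) := by
      intro h hh
      apply hc'.conj_centralizer_eq haV ha1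
      rw [← hc'.cent a haV ha1, Subgroup.mem_centralizer_singleton_iff]
      exact hcomm h hh
    exact ⟨_, hV, key⟩

theorem good_of_solvable (hm : 1 ≤ m) (hF : Fintype.card F = 2 ^ (2 * m + 1)) {M : Subgroup (Sz F m)}
    (hs : Group.IsSolvable M) : Good hF M := by
  by_cases hne : ∃ x ∈ M, x ≠ 1
  · rcases solvable_cases hm hF hs hne with ⟨p, hp, h⟩ | h
    · left
      rw [← orbit_inf hF] at hp
      obtain ⟨g, rfl⟩ := hp
      refine ⟨g, ?_⟩
      rw [Ginf, ← MulAction.stabilizer_smul_eq_stabilizer_map_conj]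
      intro y hy
      exact h y hy
    · exact Or.inr (Or.inl h)
  · left
    push Not at hne
    exact ⟨1, fun x hx => by rw [hne x hx]; exact Subgroup.one_mem _⟩

/-- normalised subgroups -/
structure Nrm (hF : Fintype.card F = 2 ^ (2 * m + 1)) (M : Subgroup (Sz F m)) : Prop where
  one : tG hF 0 1 ∈ M
  split : ∀ g ∈ M, (g : SL F) • suzukiPointInfinity F = suzukiPointInfinity F →
    ∃ a b : F, ∃ l : Fˣ, g = tG hF a b * dG hF l ∧ tG hF a b ∈ M ∧ dG hF l ∈ M

/-- the product formula for the stabiliser -/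
theorem stab_mul (hF : Fintype.card F = 2 ^ (2 * m + 1)) (a b c d : F) (k l : Fˣ) :
    ∃ x y : F, (tG hF a b * dG hF k : Sz F m) * (tG hF c d * dG hF l) = tG hF x y * dG hF (k * l) := by
  refine ⟨a + k * c, b + k * th m (k : F) * d + th m a * (k * c), ?_⟩
  · calc (tG hF a b * dG hF k : Sz F m) * (tG hF c d * dG hF l) = tG hF a b * (dG hF k * tG hF c d) * dG hF l := by group
      _ = tG hF a b * (tG hF (k * c) (k * th m (k : F) * d) * dG hF k) * dG hF l := by rw [D_T]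
      _ = (tG hF a b * tG hF (k * c) (k * th m (k : F) * d)) * (dG hF k * dG hF l) := by group
      _ = _ := by rw [tG_mul, ← map_mul]

theorem conj_to_diag (hF : Fintype.card F = 2 ^ (2 * m + 1)) (a b : F) {k : Fˣ} (hk : k ≠ 1) :
    ∃ x y : F, (tG hF x y : Sz F m)⁻¹ * (tG hF a b * dG hF k) * tG hF x y = dG hF k := by
  have two := two_eq_zero hF
  have h1 : (1 : F) - k ≠ 0 := fun h => hk (Units.ext (by rw [Units.val_one]; linear_combination -h))
  have h2 : (1 : F) - k * th m (k : F) ≠ 0 := fun h => hk (Units.ext (by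
    rw [Units.val_one]
    exact k_eq_one hF (by linear_combination -h)))
  set x := a / (1 - k) with hx
  set y := (b + th m a * (k * x)) / (1 - k * th m (k : F)) with hy
  have hxa : a + k * x = x := by
    rw [hx]; field_simp; ring
  have hyb : b + k * th m (k : F) * y + th m a * (k * x) = y := by
    have : y * (1 - k * th m (k : F)) = b + th m a * (k * x) := by rw [hy, div_mul_cancel₀ _ h2]
    linear_combination -this
  refine ⟨x, y, ?_⟩
  have e1 : (tG hF a b * dG hF k : Sz F m) * tG hF x y = tG hF x y * dG hF k := by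
    rw [mul_assoc, D_T, ← mul_assoc, tG_mul, hxa, hyb]
  rw [mul_assoc, e1]
  group

theorem exists_nrm (hm : 1 ≤ m) (hF : Fintype.card F = 2 ^ (2 * m + 1)) (M : Subgroup (Sz F m)) (h2 : 2 ∣ Nat.card M) :
    ∃ g : Sz F m, Nrm hF (M.map (MulAut.conj g).toMonoidHom) := by
  classical
  have hfact : Fact (Nat.Prime 2) := ⟨Nat.prime_two⟩
  have two := two_eq_zero hF
  obtain ⟨⟨t, htM⟩, ht⟩ := exists_prime_orderOf_dvd_card' (G := M) 2 h2
  rw [← Subgroup.orderOf_coe] at ht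
  change orderOf t = 2 at ht
  obtain ⟨x1, b0, hb0, hx1⟩ := exists_conj_tG hm hF ht
  -- M1
  let M1 := M.map (MulAut.conj x1).toMonoidHom
  have hM1 : tG hF 0 b0 ∈ M1 := by
    rw [← hx1]
    exact Subgroup.mem_map.2 ⟨t, htM, rfl⟩
  -- Λ1
  let L : Subgroup Fˣ :=
    { carrier := {l | ∃ a b : F, (tG hF a b * dG hF l : Sz F m) ∈ M1}
      one_mem' := ⟨0, 0, by rw [tG_one, map_one, one_mul]; exact M1.one_mem⟩
      mul_mem' := by
        rintro k l ⟨a, b, h⟩ ⟨c, d, h'⟩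
        obtain ⟨x, y, hxy⟩ := stab_mul hF a b c d k l
        exact ⟨x, y, by rw [← hxy]; exact M1.mul_mem h h'⟩
      inv_mem' := by
        rintro k ⟨a, b, h⟩
        refine ⟨(k⁻¹ : Fˣ) * a, (k⁻¹ : Fˣ) * th m ((k⁻¹ : Fˣ) : F) * (b + th m a * a), ?_⟩
        have := M1.inv_mem h
        rw [mul_inv_rev, ← map_inv, tG_inv, D_T] at this
        exact this }
  obtain ⟨l0, hl0⟩ := IsCyclic.exists_generator (α := L)
  obtain ⟨a, b, hab⟩ := l0.2
  -- M2
  have hM2 : ∃ c d : F, (dG hF (l0 : Fˣ) : Sz F m) ∈ M1.map (MulAut.conj (tG hF c d : Sz F m)⁻¹).toMonoidHom := by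
    by_cases hl1 : (l0 : Fˣ) = 1
    · exact ⟨0, 0, by rw [hl1, map_one]; exact Subgroup.one_mem _⟩
    · obtain ⟨x, y, hxy⟩ := conj_to_diag hF a b hl1
      refine ⟨x, y, ?_⟩
      rw [mem_cj, inv_inv, ← hxy]
      rwa [show tG hF x y * ((tG hF x y)⁻¹ * (tG hF a b * dG hF (l0 : Fˣ)) * tG hF x y) * (tG hF x y : Sz F m)⁻¹ =
        tG hF a b * dG hF (l0 : Fˣ) by group]
  obtain ⟨c, d, hcd⟩ := hM2
  let M2 := M1.map (MulAut.conj (tG hF c d : Sz F m)⁻¹).toMonoidHom
  have hM2b : tG hF 0 b0 ∈ M2 := by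
    change tG hF 0 b0 ∈ M1.map (MulAut.conj (tG hF c d : Sz F m)⁻¹).toMonoidHom
    rw [mem_cj, inv_inv, tG_conj_tG]
    have : Lmap (m := m) hF 0 c = 0 := by
      change th m c * 0 + th m 0 * c = 0
      rw [th_zero]; ring
    rw [this, add_zero]
    exact hM1
  have hM2l : ∀ l : Fˣ, ∀ a b : F, (tG hF a b * dG hF l : Sz F m) ∈ M2 → dG hF l ∈ M2 := by
    intro l a b h
    have h1 : (tG hF c d : Sz F m)⁻¹⁻¹ * (tG hF a b * dG hF l) * (tG hF c d)⁻¹ ∈ M1 := by
      have := mem_cj.1 h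
      exact this
    have hl : l ∈ L := by
      rw [inv_inv, tG_inv] at h1
      have e1 : (tG hF c d : Sz F m) * (tG hF a b * dG hF l) * tG hF c (d + th m c * c) =
        (tG hF c d * tG hF a b) * (dG hF l * tG hF c (d + th m c * c)) := by group
      rw [e1, tG_mul, D_T, ← mul_assoc, tG_mul] at h1
      exact ⟨_, _, h1⟩
    obtain ⟨i, hi⟩ := Subgroup.mem_zpowers_iff.1 (hl0 ⟨l, hl⟩)
    have hi' : (l0 : Fˣ) ^ i = l := congrArg Subtype.val hi
    rw [← hi', map_zpow]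
    exact M2.zpow_mem hcd i
  -- M3
  obtain ⟨μ, hμ⟩ := exists_dG_conj (m := m) hF hb0 one_ne_zero
  refine ⟨dG hF μ * (tG hF c d)⁻¹ * x1, ?_⟩
  have hM3 : M.map (MulAut.conj (dG hF μ * (tG hF c d)⁻¹ * x1)).toMonoidHom = M2.map (MulAut.conj (dG hF μ)).toMonoidHom := by
    change _ = ((M.map (MulAut.conj x1).toMonoidHom).map (MulAut.conj (tG hF c d : Sz F m)⁻¹).toMonoidHom).map (MulAut.conj (dG hF μ)).toMonoidHom
    rw [cj_cj, cj_cj, mul_assoc]
  rw [hM3]
  constructor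
  · rw [← hμ]
    exact Subgroup.mem_map.2 ⟨_, hM2b, rfl⟩
  · intro g hg hinf
    obtain ⟨x, y, l, hl⟩ := eq_TD_of_fix_inf hF hm g.2 hinf
    have hgl : g = tG hF x y * dG hF l := Subtype.ext hl
    have hlM : dG hF l ∈ M2.map (MulAut.conj (dG hF μ)).toMonoidHom := by
      have h1 := mem_cj.1 hg
      rw [hgl, ← map_inv] at h1
      have e1 : (dG hF μ⁻¹ : Sz F m) * (tG hF x y * dG hF l) * dG hF μ =
        tG hF ((μ⁻¹ : Fˣ) * x) ((μ⁻¹ : Fˣ) * th m ((μ⁻¹ : Fˣ) : F) * y) * dG hF l := by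
        rw [← mul_assoc, D_T, mul_assoc, mul_assoc, ← map_mul, ← map_mul]
        congr 2
        rw [← mul_assoc, mul_comm μ⁻¹ l, mul_assoc, inv_mul_cancel, mul_one]
      rw [e1] at h1
      have h2 := hM2l l _ _ h1
      rw [mem_cj, ← map_inv, ← map_mul, ← map_mul, mul_comm μ⁻¹ l, mul_assoc, inv_mul_cancel, mul_one]
      exact h2
    refine ⟨x, y, l, hgl, ?_, hlM⟩
    have : tG hF x y = g * (dG hF l)⁻¹ := by rw [hgl]; group
    rw [this]
    exact Subgroup.mul_mem _ hg (Subgroup.inv_mem _ hlM)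

/-- two involutions with product of odd order are conjugate -/
theorem conj_of_odd {G : Type*} [Group G] {t u : G} (ht : t * t = 1) (hu : u * u = 1) {j : ℕ}
    (h : (t * u) ^ (2 * j + 1) = 1) : (t * u) ^ j * t * ((t * u) ^ j)⁻¹ = u := by
  have e1 : t * (t * u) * t⁻¹ = (t * u)⁻¹ := by
    rw [mul_inv_rev, inv_eq_of_mul_eq_one_right ht, inv_eq_of_mul_eq_one_right hu]
    rw [← mul_assoc, ht, one_mul]
  have e2 : t * ((t * u) ^ j)⁻¹ = (t * u) ^ j * t := by
    have : t * (t * u) ^ j * t⁻¹ = ((t * u) ^ j)⁻¹ := by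
      rw [← conj_pow, e1, inv_pow]
    rw [← this]
    have hti : t⁻¹ = t := inv_eq_of_mul_eq_one_right ht
    rw [mul_assoc t, ← mul_assoc t t, ht, one_mul, hti]
  rw [mul_assoc, e2, ← mul_assoc, ← pow_add]
  have e3 : (t * u) ^ (j + j) = (t * u)⁻¹ := by
    rw [eq_inv_iff_mul_eq_one, ← pow_succ, ← two_mul, h]
  rw [e3, mul_inv_rev, inv_mul_cancel_right, inv_eq_of_mul_eq_one_right hu]

end H42.SuzMax
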