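import Cfsg.Agent.Lib.H42.SuzMax1

set_option autoImplicit false

/-! Subgroups of the Suzuki groups: field structure. -/

namespace H42.SuzMax

open Cfsg H8.SuzOvoid H8.SuzField H8.SuzMat H8.SuzStab H8.SuzGroup H8.SuzSylow H8.SuzCent H8.SuzSimple H8.TICount H8.SuzTorus
open H42.SuzPart H42.SolCount H42.SuzSol H42.SuzSub H42.SubF
open scoped Pointwise

variable {F : Type*} [Field F] [Fintype F] {m : ℕ}

theorem Lmap_zero_left (hF : Fintype.card F = 2 ^ (2 * m + 1)) (c : F) : Lmap (m := m) hF 0 c = 0 := by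
  change th m c * 0 + th m 0 * c = 0
  rw [th_zero]; ring

/-- conjugation of central translations -/
theorem conj_central (hF : Fintype.card F = 2 ^ (2 * m + 1)) (a b : F) (l : Fˣ) (y : F) :
    (tG hF a b * dG hF l : Sz F m) * tG hF 0 y * (tG hF a b * dG hF l)⁻¹ = tG hF 0 (l * th m (l : F) * y) := by
  have h1 : (tG hF a b * dG hF l : Sz F m) * tG hF 0 y * (tG hF a b * dG hF l)⁻¹ =
      tG hF a b * (dG hF l * tG hF 0 y * (dG hF l)⁻¹) * (tG hF a b)⁻¹ := by group
  rw [h1, dG_conj, mul_zero, tG_conj_tG, Lmap_zero_left, add_zero]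

theorem tG_ne_one (hF : Fintype.card F = 2 ^ (2 * m + 1)) {a b : F} (h : a ≠ 0 ∨ b ≠ 0) : (tG hF a b : Sz F m) ≠ 1 := by
  intro h0
  rw [← tG_one hF] at h0
  have := tG_inj hF h0
  rcases h with h | h
  · exact h this.1
  · exact h this.2

theorem central_sq (hF : Fintype.card F = 2 ^ (2 * m + 1)) (b : F) : (tG hF 0 b : Sz F m) * tG hF 0 b = 1 := by
  rw [← pow_two, tG_sq, th_zero, zero_mul, tG_one]

/-- product with an involution outside has odd order -/
theorem odd_product (hm : 1 ≤ m) (hF : Fintype.card F = 2 ^ (2 * m + 1)) {b : F} (hb : b ≠ 0) {u : Sz F m}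
    (hu : u * u = 1) (huT : u ∉ TT (m := m) hF) : ¬ 2 ∣ orderOf (tG hF 0 b * u) := by
  rintro ⟨j, hj⟩
  set t : Sz F m := tG hF 0 b with ht
  have htt : t * t = 1 := central_sq hF b
  have hti : t⁻¹ = t := inv_eq_of_mul_eq_one_right htt
  have hui : u⁻¹ = u := inv_eq_of_mul_eq_one_right hu
  have hpos := orderOf_pos (t * u)
  set z : Sz F m := (t * u) ^ j with hz
  have hz1 : z ≠ 1 := by
    intro h
    have := orderOf_dvd_of_pow_eq_one h
    rw [hj] at this
    have := Nat.le_of_dvd (by omega) this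
    omega
  have hzz : z * z = 1 := by
    rw [hz, ← pow_add, ← two_mul, ← hj, pow_orderOf_eq_one]
  have hzi : z⁻¹ = z := inv_eq_of_mul_eq_one_right hzz
  have e1 : t * (t * u) * t⁻¹ = (t * u)⁻¹ := by
    rw [mul_inv_rev, hti, hui, ← mul_assoc, htt, one_mul]
  have e2 : u * (t * u) * u⁻¹ = (t * u)⁻¹ := by
    rw [mul_inv_rev, hti, hui]
    rw [mul_assoc, mul_assoc, hu, mul_one]
  have c1 : t * z * t⁻¹ = z := by
    rw [hz, ← conj_pow, e1, inv_pow, ← hz, hzi]
  have c2 : u * z * u⁻¹ = z := by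
    rw [hz, ← conj_pow, e2, inv_pow, ← hz, hzi]
  have hzT : z ∈ TT (m := m) hF := by
    apply mem_TT_of_commute (a := 0) (b := b) hm hF (tG_ne_one hF (Or.inr hb))
    rw [← ht]
    exact (mul_inv_eq_iff_eq_mul.1 c1).symm
  obtain ⟨x, y, hxy⟩ := hzT
  apply huT
  apply mem_TT_of_commute (a := x) (b := y) hm hF (by rw [← hxy]; exact hz1)
  rw [← hxy]
  exact mul_inv_eq_iff_eq_mul.1 c2

theorem norm_of_mem (hm : 1 ≤ m) (hF : Fintype.card F = 2 ^ (2 * m + 1)) {M : Subgroup (Sz F m)} (hN : Nrm hF M)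
    (hI : ¬ M ≤ Ginf F m) {b : F} (hb : b ≠ 0) (hbM : tG hF 0 b ∈ M) :
    ∃ l : Fˣ, dG hF l ∈ M ∧ (l : F) * th m (l : F) = b := by
  obtain ⟨g, hgM, hg⟩ := SetLike.not_le_iff_exists.1 hI
  set u : Sz F m := g * tG hF 0 1 * g⁻¹ with hu
  have huM : u ∈ M := M.mul_mem (M.mul_mem hgM hN.one) (M.inv_mem hgM)
  have huT : u ∉ TT (m := m) hF := by
    intro h
    exact hg (fix_inf_of_conj hF ⟨0, 1, rfl⟩ (tG_ne_one hF (Or.inr one_ne_zero)) h)
  have huu : u * u = 1 := by
    rw [hu]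
    calc g * tG hF 0 1 * g⁻¹ * (g * tG hF 0 1 * g⁻¹) = g * (tG hF 0 1 * tG hF 0 1) * g⁻¹ := by group
      _ = 1 := by rw [central_sq]; group
  have key : ∀ c : F, c ≠ 0 → tG hF 0 c ∈ M → ∃ h ∈ M, h * tG hF 0 c * h⁻¹ = u := by
    intro c hc hcM
    have hodd := odd_product hm hF hc huu huT
    obtain ⟨j, hj⟩ : ∃ j, orderOf (tG hF 0 c * u) = 2 * j + 1 := ⟨orderOf (tG hF 0 c * u) / 2, by omega⟩
    refine ⟨(tG hF 0 c * u) ^ j, M.pow_mem (M.mul_mem hcM huM) _, conj_of_odd (central_sq hF c) huu ?_⟩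
    rw [← hj, pow_orderOf_eq_one]
  obtain ⟨h1, h1M, e1⟩ := key 1 one_ne_zero hN.one
  obtain ⟨h2, h2M, e2⟩ := key b hb hbM
  have e3 : (h2⁻¹ * h1) * tG hF 0 1 * (h2⁻¹ * h1)⁻¹ = tG hF 0 b := by
    calc (h2⁻¹ * h1) * tG hF 0 1 * (h2⁻¹ * h1)⁻¹ = h2⁻¹ * (h1 * tG hF 0 1 * h1⁻¹) * h2 := by group
      _ = h2⁻¹ * (h2 * tG hF 0 b * h2⁻¹) * h2 := by rw [e1, e2]
      _ = _ := by group
  have hinf := fix_inf_of_conj hF (g := h2⁻¹ * h1) (x := tG hF 0 1) ⟨0, 1, rfl⟩ (tG_ne_one hF (Or.inr one_ne_zero))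
    (by rw [e3]; exact ⟨0, b, rfl⟩)
  obtain ⟨x, y, l, hl, hxM, hlM⟩ := hN.split _ (M.mul_mem (M.inv_mem h2M) h1M) hinf
  refine ⟨l, hlM, ?_⟩
  rw [hl, conj_central, mul_one] at e3
  exact (tG_inj hF e3).2

theorem norm_inj (hF : Fintype.card F = 2 ^ (2 * m + 1)) {k l : Fˣ} (h : (k : F) * th m (k : F) = l * th m (l : F)) :
    k = l := by
  have hl : (l : F) ≠ 0 := l.ne_zero
  have hl' : th m (l : F) ≠ 0 := fun h => hl (th_eq_zero.1 h)
  have h1 : ((k : F) / l) * th m ((k : F) / l) = 1 := by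
    rw [th_div, div_mul_div_comm, h, div_self (mul_ne_zero hl hl')]
  have h2 := k_eq_one hF h1
  exact Units.ext ((div_eq_one_iff_eq hl).1 h2)

theorem mem_subF_of_closed {p n N : ℕ} [hp : Fact p.Prime] [CharP F p] (hN : Fintype.card F = p ^ N)
    (A : AddSubgroup F) (h1 : (1 : F) ∈ A) (hmul : ∀ a ∈ A, ∀ b ∈ A, a * b ∈ A)
    (hcard : Nat.card A = p ^ n) (hn : 1 ≤ n) : ∀ x, x ∈ A ↔ x ∈ subF F p n := by
  classical
  have hdvd := dvd_of_closed hN A h1 hmul hcard
  have hsub : (A : Set F) ⊆ (subF F p n : Set F) := by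
    intro x hx
    change x ^ p ^ n = x
    by_cases h0 : x = 0
    · rw [h0]; exact zero_pow (pow_ne_zero n hp.out.ne_zero)
    · -- multiplication by x permutes A \ 0
      have hfin : Finite A := inferInstance
      let S : Finset F := (Set.toFinite ((A : Set F) \ {0})).toFinset
      have hS : ∀ y, y ∈ S ↔ y ∈ A ∧ y ≠ 0 := by
        intro y; simp [S]
      have hScard : S.card = p ^ n - 1 := by
        have e1 : S.card = ((A : Set F) \ {0}).ncard := by
          rw [← Set.ncard_coe_finset]; congr 1; simp [S]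
        rw [e1, Set.ncard_sdiff_singleton_of_mem A.zero_mem, ← hcard]
        congr 1
      have himg : S.image (fun y => x * y) = S := by
        apply Finset.eq_of_subset_of_card_le
        · intro z hz
          obtain ⟨y, hy, rfl⟩ := Finset.mem_image.1 hz
          rw [hS] at hy ⊢
          exact ⟨hmul _ hx _ hy.1, mul_ne_zero h0 hy.2⟩
        · rw [Finset.card_image_of_injective _ (mul_right_injective₀ h0)]
      have hprod : ∏ y ∈ S, (x * y) = ∏ y ∈ S, y := by
        conv_rhs => rw [← himg]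
        rw [Finset.prod_image (fun a _ b _ h => mul_right_injective₀ h0 h)]
      rw [Finset.prod_mul_distrib, Finset.prod_const, hScard] at hprod
      have hne : ∏ y ∈ S, y ≠ 0 := Finset.prod_ne_zero_iff.2 (fun y hy => ((hS y).1 hy).2)
      have h2 : x ^ (p ^ n - 1) = 1 := by
        apply mul_right_cancel₀ hne
        rw [one_mul, hprod]
      have hpn : 1 ≤ p ^ n := Nat.one_le_pow _ _ hp.out.pos
      calc x ^ p ^ n = x ^ (p ^ n - 1 + 1) := by rw [Nat.sub_add_cancel hpn]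
        _ = x := by rw [pow_succ, h2, one_mul]
  have heq : (A : Set F) = (subF F p n : Set F) := by
    apply Set.eq_of_subset_of_ncard_le hsub
    rw [← Nat.card_coe_set_eq, ← Nat.card_coe_set_eq]
    have e1 := card_subF hN hn hdvd
    change Nat.card (subF F p n) ≤ Nat.card A
    rw [e1, hcard]
  intro x
  exact Set.ext_iff.1 heq x

/-- the field of a normalised subgroup -/
theorem field_struct (hm : 1 ≤ m) (hF : Fintype.card F = 2 ^ (2 * m + 1)) [CharP F 2] [Fact (Nat.Prime 2)]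
    {M : Subgroup (Sz F m)} (hN : Nrm hF M) (hI : ¬ M ≤ Ginf F m) :
    ∃ n, 1 ≤ n ∧ n ∣ 2 * m + 1 ∧ (∀ b, tG hF 0 b ∈ M ↔ b ∈ subF F 2 n) ∧
      (∀ l : Fˣ, dG hF l ∈ M ↔ (l : F) ∈ subF F 2 n) := by
  classical
  have two := two_eq_zero hF
  let E : AddSubgroup F :=
    { carrier := {b | tG hF 0 b ∈ M}
      zero_mem' := by
        change tG hF 0 0 ∈ M
        rw [tG_one]; exact M.one_mem
      add_mem' := by
        intro a b ha hb
        change tG hF 0 (a + b) ∈ M
        have := M.mul_mem ha hb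
        rw [tG_mul, th_zero, zero_mul, add_zero, add_zero] at this
        exact this
      neg_mem' := by
        intro a ha
        change tG hF 0 (-a) ∈ M
        rw [show -a = a by linear_combination -a * two]
        exact ha }
  have hE : ∀ {b : F}, b ∈ E ↔ tG hF 0 b ∈ M := fun {b} => Iff.rfl
  have hmul : ∀ a ∈ E, ∀ b ∈ E, a * b ∈ E := by
    intro a ha b hb
    by_cases h0 : a = 0
    · rw [h0, zero_mul]; exact E.zero_mem
    · obtain ⟨l, hl, hla⟩ := norm_of_mem hm hF hN hI h0 (hE.1 ha)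
      rw [hE, ← hla]
      have := dG_conj (m := m) hF l 0 b
      rw [mul_zero] at this
      rw [← this]
      exact M.mul_mem (M.mul_mem hl hb) (M.inv_mem hl)
  have h1 : (1 : F) ∈ E := hN.one
  -- card
  have hcard : ∃ n, Nat.card E = 2 ^ n := by
    have h2 : Nat.card E ∣ 2 ^ (2 * m + 1) := by
      rw [← hF, ← Nat.card_eq_fintype_card]
      exact AddSubgroup.card_addSubgroup_dvd_card E
    obtain ⟨n, -, hn⟩ := (Nat.dvd_prime_pow Nat.prime_two).1 h2
    exact ⟨n, hn⟩
  obtain ⟨n, hn⟩ := hcard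
  have hn1 : 1 ≤ n := by
    rcases Nat.eq_zero_or_pos n with h0 | h0
    · exfalso
      rw [h0, pow_zero] at hn
      have : Subsingleton E := (Nat.card_eq_one_iff_unique.1 hn).1
      have h3 : (⟨1, h1⟩ : E) = ⟨0, E.zero_mem⟩ := Subsingleton.elim _ _
      exact one_ne_zero (congrArg Subtype.val h3)
    · exact h0
  have hdvd := dvd_of_closed hF E h1 hmul hn
  have hEK := mem_subF_of_closed hF E h1 hmul hn hn1
  refine ⟨n, hn1, hdvd, fun b => hEK b, ?_⟩
  have hNk : ∀ x : F, x ∈ subF F 2 n → th m x ∈ subF F 2 n := fun x hx => pow_mem hx _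
  intro l
  constructor
  · intro hl
    have h3 : (l : F) * th m (l : F) ∈ E := by
      rw [hE]
      have := dG_conj (m := m) hF l 0 1
      rw [mul_zero, mul_one] at this
      rw [← this]
      exact M.mul_mem (M.mul_mem hl hN.one) (M.inv_mem hl)
    rw [hEK, mem_subF] at h3
    rw [mem_subF]
    have h4 : ((l ^ 2 ^ n : Fˣ) : F) * th m ((l ^ 2 ^ n : Fˣ) : F) = l * th m (l : F) := by
      rw [Units.val_pow_eq_pow_val, th_pow, ← mul_pow, h3]
    have h5 := norm_inj hF h4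
    have h6 := congrArg Units.val h5
    rwa [Units.val_pow_eq_pow_val] at h6
  · intro hl
    have hl0 : (l : F) ≠ 0 := l.ne_zero
    have hl' : th m (l : F) ≠ 0 := fun h => hl0 (th_eq_zero.1 h)
    have h3 : (l : F) * th m (l : F) ∈ subF F 2 n := mul_mem hl (hNk _ hl)
    rw [← hEK, hE] at h3
    obtain ⟨l', hl'M, e⟩ := norm_of_mem hm hF hN hI (mul_ne_zero hl0 hl') h3
    rw [← norm_inj hF e]
    exact hl'M

/-- the translations in a normalised subgroup -/
theorem trans_sub (hF : Fintype.card F = 2 ^ (2 * m + 1)) [CharP F 2] [Fact (Nat.Prime 2)]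
    {M : Subgroup (Sz F m)} {n : ℕ} (hE : ∀ b, tG hF 0 b ∈ M ↔ b ∈ subF F 2 n) {a b : F} (h : tG hF a b ∈ M) :
    a ∈ subF F 2 n := by
  by_cases ha : a = 0
  · rw [ha]; exact zero_mem _
  · have h1 : (tG hF a b : Sz F m) ^ 2 ∈ M := M.pow_mem h 2
    rw [tG_sq, hE, mem_subF] at h1
    set l : Fˣ := Units.mk0 a ha with hl
    have hla : (l : F) = a := rfl
    have h4 : ((l ^ 2 ^ n : Fˣ) : F) * th m ((l ^ 2 ^ n : Fˣ) : F) = l * th m (l : F) := by
      rw [Units.val_pow_eq_pow_val, th_pow, ← mul_pow, hla, mul_comm, h1]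
    have h5 := norm_inj hF h4
    have h6 := congrArg Units.val h5
    rw [Units.val_pow_eq_pow_val, hla] at h6
    exact h6

theorem trans_cases (hF : Fintype.card F = 2 ^ (2 * m + 1)) [CharP F 2] [Fact (Nat.Prime 2)]
    {M : Subgroup (Sz F m)} {n : ℕ} (hE : ∀ b, tG hF 0 b ∈ M ↔ b ∈ subF F 2 n)
    (hL : ∀ l : Fˣ, dG hF l ∈ M ↔ (l : F) ∈ subF F 2 n) (ht : ∃ t ∈ subF F 2 n, t + th m t ≠ 0) :
    (∀ a b, tG hF a b ∈ M ↔ a = 0 ∧ b ∈ subF F 2 n) ∨ (∀ a b, tG hF a b ∈ M ↔ a ∈ subF F 2 n ∧ b ∈ subF F 2 n) := by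
  classical
  have two := two_eq_zero hF
  by_cases hA : ∃ a b, tG hF a b ∈ M ∧ a ≠ 0
  · right
    obtain ⟨a, b, hab, ha⟩ := hA
    have haK := trans_sub hF hE hab
    -- scale to a = 1
    have h1 : ∃ β, tG hF 1 β ∈ M := by
      have hl : (dG hF (Units.mk0 a ha)⁻¹ : Sz F m) ∈ M := by
        rw [hL]; rw [Units.val_inv_eq_inv_val, Units.val_mk0]; exact inv_mem haK
      have h2 := M.mul_mem (M.mul_mem hl hab) (M.inv_mem hl)
      rw [dG_conj, Units.val_inv_eq_inv_val, Units.val_mk0, inv_mul_cancel₀ ha] at h2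
      exact ⟨_, h2⟩
    obtain ⟨β, hβ⟩ := h1
    have hlam : ∀ x ∈ subF F 2 n, tG hF x (x * th m x * β) ∈ M := by
      intro x hx
      by_cases h0 : x = 0
      · rw [h0, zero_mul, zero_mul, tG_one]; exact M.one_mem
      · have hl : (dG hF (Units.mk0 x h0) : Sz F m) ∈ M := by rw [hL]; exact hx
        have h2 := M.mul_mem (M.mul_mem hl hβ) (M.inv_mem hl)
        rw [dG_conj, Units.val_mk0, mul_one] at h2
        exact h2
    have hcen : ∀ a b, tG hF a b ∈ M → ∀ b', (tG hF a b' ∈ M ↔ b' - b ∈ subF F 2 n) := by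
      intro a b hab b'
      rw [← hE]
      constructor
      · intro h
        have h2 := M.mul_mem h (M.inv_mem hab)
        rw [tG_inv, tG_mul] at h2
        rw [show a + a = 0 by linear_combination a * two,
          show b' + (b + th m a * a) + th m a * a = b' - b by linear_combination (b + th m a * a) * two] at h2
        exact h2
      · intro h
        have h2 := M.mul_mem h hab
        rw [tG_mul, th_zero, zero_mul, add_zero, zero_add, sub_add_cancel] at h2
        exact h2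
    have hβK : β ∈ subF F 2 n := by
      obtain ⟨t, htK, htne⟩ := ht
      have h2 := M.mul_mem hβ (hlam t htK)
      rw [tG_mul, th_one, one_mul] at h2
      have h3 := (hcen _ _ h2 _).1 (hlam (1 + t) (add_mem (one_mem _) htK))
      rw [th_add hF, th_one] at h3
      have h4 : (t + th m t) * β ∈ subF F 2 n := by
        have h5 := add_mem h3 htK
        rwa [show (1 + t) * (1 + th m t) * β - (β + t * th m t * β + t) + t = (t + th m t) * β by ring] at h5
      have h6 : t + th m t ∈ subF F 2 n := add_mem htK (pow_mem htK _)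
      have h7 := mul_mem (inv_mem h6) h4
      rwa [inv_mul_cancel_left₀ htne] at h7
    have hNk : ∀ x : F, x ∈ subF F 2 n → th m x ∈ subF F 2 n := fun x hx => pow_mem hx _
    intro x y
    constructor
    · intro h
      have hx := trans_sub hF hE h
      refine ⟨hx, ?_⟩
      have h2 := (hcen _ _ (hlam x hx) y).1 h
      have h3 := add_mem h2 (mul_mem (mul_mem hx (hNk x hx)) hβK)
      rwa [sub_add_cancel] at h3
    · rintro ⟨hx, hy⟩
      rw [hcen _ _ (hlam x hx) y]
      exact sub_mem hy (mul_mem (mul_mem hx (hNk x hx)) hβK)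
  · left
    push Not at hA
    intro a b
    constructor
    · intro h
      have := hA a b h
      subst this
      exact ⟨rfl, (hE b).1 h⟩
    · rintro ⟨rfl, h⟩
      exact (hE b).2 h

end H42.SuzMax
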