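import Cfsg.Agent.Lib.H42.SuzMax2
import Cfsg.Agent.Lib.H8.TISum

set_option autoImplicit false

/-! Subgroups of the Suzuki groups: local structure inside a subgroup. -/

namespace H42.SuzMax

open Cfsg H8.SuzOvoid H8.SuzField H8.SuzMat H8.SuzStab H8.SuzGroup H8.SuzSylow H8.SuzCent H8.SuzSimple H8.TICount H8.SuzTorus
open H42.SuzPart H42.SolCount H42.SuzSol H42.SuzSub H42.SubF
open scoped Pointwise

variable {F : Type*} [Field F] [Fintype F] {m : ℕ}

/-- the translations in `M` -/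
abbrev SM (hF : Fintype.card F = 2 ^ (2 * m + 1)) (M : Subgroup (Sz F m)) : Subgroup M := (TT (m := m) hF).subgroupOf M

theorem isPGroup_SM (hF : Fintype.card F = 2 ^ (2 * m + 1)) (M : Subgroup (Sz F m)) : IsPGroup 2 (SM hF M) := by
  let f : SM hF M →* TT (m := m) hF :=
    { toFun := fun x => ⟨((x : M) : Sz F m), x.2⟩
      map_one' := rfl
      map_mul' := fun _ _ => rfl }
  apply (isPGroup_TT (m := m) hF).of_injective f
  intro a b h
  have h1 := congrArg (fun x : TT (m := m) hF => (x : Sz F m)) h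
  exact Subtype.ext (Subtype.ext h1)

/-- a 2-subgroup of `M` containing `T(0,1)` consists of translations -/
theorem sylow_SM (hm : 1 ≤ m) (hF : Fintype.card F = 2 ^ (2 * m + 1)) {M : Subgroup (Sz F m)} (hN : Nrm hF M)
    [Fact (Nat.Prime 2)] : ∃ P : Sylow 2 M, (P : Subgroup M) = SM hF M := by
  obtain ⟨P, hP⟩ := (isPGroup_SM hF M).exists_le_sylow
  refine ⟨P, le_antisymm ?_ hP⟩
  have ht0 : (⟨tG hF 0 1, hN.one⟩ : M) ∈ (P : Subgroup M) := hP (show tG hF 0 1 ∈ TT (m := m) hF from ⟨0, 1, rfl⟩)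
  have hnt : Nontrivial (P : Subgroup M) := by
    refine ⟨⟨_, ht0⟩, 1, ?_⟩
    intro h
    exact tG_ne_one hF (a := 0) (b := 1) (m := m) (Or.inr one_ne_zero) (congrArg (fun x : (P : Subgroup M) => ((x : M) : Sz F m)) h)
  have hc := P.isPGroup'.center_nontrivial
  obtain ⟨z, hz⟩ := exists_ne (1 : Subgroup.center (P : Subgroup M))
  have hz1 : (((z : (P : Subgroup M)) : M) : Sz F m) ≠ 1 := by
    intro h
    exact hz (Subtype.ext (Subtype.ext (Subtype.ext h)))
  have hcomm : ∀ q ∈ (P : Subgroup M), (q : Sz F m) * (((z : (P : Subgroup M)) : M) : Sz F m) = (((z : (P : Subgroup M)) : M) : Sz F m) * q := by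
    intro q hq
    have := Subgroup.mem_center_iff.1 z.2 ⟨q, hq⟩
    exact congrArg (fun x : (P : Subgroup M) => ((x : M) : Sz F m)) this
  have hzT : (((z : (P : Subgroup M)) : M) : Sz F m) ∈ TT (m := m) hF := by
    apply mem_TT_of_commute (a := 0) (b := 1) hm hF (tG_ne_one hF (Or.inr one_ne_zero))
    exact (hcomm _ ht0).symm
  obtain ⟨a, b, hab⟩ := hzT
  intro q hq
  rw [Subgroup.mem_subgroupOf]
  apply mem_TT_of_commute (a := a) (b := b) hm hF (by rw [← hab]; exact hz1)
  rw [← hab]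
  exact hcomm q hq

/-- odd Sylow subgroups of `M` are cyclic -/
theorem sylow_odd (hm : 1 ≤ m) (hF : Fintype.card F = 2 ^ (2 * m + 1)) {M : Subgroup (Sz F m)} {p : ℕ} [hp : Fact p.Prime]
    (hp2 : p ≠ 2) (P : Sylow p M) : IsCyclic (P : Subgroup M) := by
  have h1 : IsPGroup p ((P : Subgroup M).map M.subtype) := P.isPGroup'.map _
  obtain ⟨Q, hQ⟩ := h1.exists_le_sylow
  have := sylow_cyclic hm hF hp2 Q
  let f : (P : Subgroup M) →* Q :=
    { toFun := fun x => ⟨((x : M) : Sz F m), hQ (Subgroup.mem_map.2 ⟨x, x.2, rfl⟩)⟩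
      map_one' := rfl
      map_mul' := fun _ _ => rfl }
  apply isCyclic_of_injective f
  intro a b h
  have h1 := congrArg (fun x : Q => (x : Sz F m)) h
  exact Subtype.ext (Subtype.ext h1)

theorem solvable_of_cyclic (hm : 1 ≤ m) (hF : Fintype.card F = 2 ^ (2 * m + 1)) {M : Subgroup (Sz F m)}
    (h2 : ∀ (_ : Fact (Nat.Prime 2)) (P : Sylow 2 M), IsCyclic (P : Subgroup M)) : Group.IsSolvable M := by
  have : IsZGroup M := by
    refine ⟨?_⟩
    intro p hp P
    have hfact : Fact p.Prime := ⟨hp⟩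
    by_cases hp2 : p = 2
    · subst hp2
      exact h2 hfact P
    · exact sylow_odd hm hF hp2 P
  infer_instance

theorem solvable_of_odd (hm : 1 ≤ m) (hF : Fintype.card F = 2 ^ (2 * m + 1)) {M : Subgroup (Sz F m)}
    (h : ¬ 2 ∣ Nat.card M) : Group.IsSolvable M := by
  apply solvable_of_cyclic hm hF
  intro _ P
  obtain ⟨k, hk⟩ := IsPGroup.iff_card.1 P.isPGroup'
  rcases Nat.eq_zero_or_pos k with h0 | h0
  · rw [h0, pow_zero] at hk
    have : Subsingleton (P : Subgroup M) := (Nat.card_eq_one_iff_unique.1 hk).1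
    infer_instance
  · exfalso
    apply h
    have h1 := Subgroup.card_subgroup_dvd_card (P : Subgroup M)
    rw [hk] at h1
    exact (dvd_pow_self 2 (by omega)).trans h1

theorem solvable_of_one (hm : 1 ≤ m) (hF : Fintype.card F = 2 ^ (2 * m + 1)) [CharP F 2] [hf : Fact (Nat.Prime 2)]
    {M : Subgroup (Sz F m)} (hN : Nrm hF M) (hE : ∀ b, tG hF 0 b ∈ M ↔ b ∈ subF F 2 1) : Group.IsSolvable M := by
  have two := two_eq_zero hF
  have h01 : ∀ x : F, x ∈ subF F 2 1 ↔ x = 0 ∨ x = 1 := by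
    intro x
    rw [mem_subF, pow_one]
    constructor
    · intro h
      have : x * (x - 1) = 0 := by linear_combination h
      rcases mul_eq_zero.1 this with h1 | h1
      · exact Or.inl h1
      · exact Or.inr (by linear_combination h1)
    · rintro (rfl | rfl) <;> norm_num
  have hcyc : IsCyclic (SM hF M) := by
    by_cases hA : ∃ β, tG hF 1 β ∈ M
    · obtain ⟨β, hβ⟩ := hA
      have hgen : (⟨tG hF 1 β, hβ⟩ : M) ∈ SM hF M := by
        rw [Subgroup.mem_subgroupOf]; exact ⟨1, β, rfl⟩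
      refine ⟨⟨⟨_, hgen⟩, ?_⟩⟩
      rintro ⟨⟨g, hg⟩, hg2⟩
      obtain ⟨a, b, rfl⟩ := Subgroup.mem_subgroupOf.1 hg2
      have hex : ∃ k : ℕ, (tG hF 1 β : Sz F m) ^ k = tG hF a b := by
        have ha := (h01 a).1 (trans_sub hF hE hg)
        have hsq : (tG hF 1 β : Sz F m) ^ 2 = tG hF 0 1 := by rw [tG_sq, th_one, one_mul]
        rcases ha with rfl | rfl
        · rcases (h01 b).1 ((hE b).1 hg) with rfl | rfl
          · exact ⟨0, by rw [pow_zero, tG_one]⟩
          · exact ⟨2, hsq⟩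
        · have h3 := M.mul_mem hg (M.inv_mem hβ)
          rw [tG_inv, tG_mul, th_one, one_mul] at h3
          rw [show (1 : F) + 1 = 0 by linear_combination two,
            show b + (β + 1) + 1 = b + β by linear_combination two, hE, h01] at h3
          rcases h3 with h4 | h4
          · exact ⟨1, by rw [pow_one, show b = β by linear_combination h4 - β * two]⟩
          · refine ⟨3, ?_⟩
            rw [pow_succ, hsq, tG_mul, th_zero, zero_mul, zero_add, add_zero]
            congr 1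
            linear_combination -h4 + β * two
      obtain ⟨k, hk⟩ := hex
      exact Subgroup.mem_zpowers_iff.2 ⟨k, Subtype.ext (Subtype.ext (by
        rw [zpow_natCast]; exact hk))⟩
    · have hgen : (⟨tG hF 0 1, hN.one⟩ : M) ∈ SM hF M := by
        rw [Subgroup.mem_subgroupOf]; exact ⟨0, 1, rfl⟩
      refine ⟨⟨⟨_, hgen⟩, ?_⟩⟩
      rintro ⟨⟨g, hg⟩, hg2⟩
      obtain ⟨a, b, rfl⟩ := Subgroup.mem_subgroupOf.1 hg2
      have ha := (h01 a).1 (trans_sub hF hE hg)
      rcases ha with rfl | rfl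
      · rcases (h01 b).1 ((hE b).1 hg) with rfl | rfl
        · exact Subgroup.mem_zpowers_iff.2 ⟨0, Subtype.ext (Subtype.ext (by
            rw [zpow_zero]; exact (tG_one hF).symm))⟩
        · exact Subgroup.mem_zpowers_iff.2 ⟨1, by rw [zpow_one]⟩
      · exact absurd ⟨b, hg⟩ hA
  apply solvable_of_cyclic hm hF
  intro _ P
  obtain ⟨Q, hQ⟩ := sylow_SM hm hF hN
  have e : (Q : Subgroup M) ≃* (P : Subgroup M) := Sylow.equiv Q P
  rw [← hQ] at hcyc
  exact isCyclic_of_surjective e e.surjective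

end H42.SuzMax
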