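import Cfsg.Agent.Lib.H42.SuzMax3

set_option autoImplicit false

/-! Subgroups of the Suzuki groups: counting data inside a subgroup. -/

namespace H42.SuzMax

open Cfsg H8.SuzOvoid H8.SuzField H8.SuzMat H8.SuzStab H8.SuzGroup H8.SuzSylow H8.SuzCent H8.SuzSimple H8.TICount H8.SuzTorus
open H42.SuzPart H42.SolCount H42.SuzSol H42.SuzSub H42.SubF
open scoped Pointwise

section General

variable {G : Type*} [Group G] [Finite G] {V M : Subgroup G} {c : ℕ}

omit [Finite G] in
theorem normalizer_sub (hV : IsTorus V c) (hne : ∃ x ∈ V, x ∈ M ∧ x ≠ 1) :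
    Subgroup.normalizer ((V.subgroupOf M : Subgroup M) : Set M) = (Subgroup.normalizer (V : Set G)).subgroupOf M := by
  obtain ⟨x, hxV, hxM, hx1⟩ := hne
  ext g
  rw [Subgroup.mem_subgroupOf]
  constructor
  · intro hg
    have h1 := (Subgroup.mem_normalizer_iff.1 hg ⟨x, hxM⟩).1 hxV
    exact hV.conj_centralizer_eq hxV hx1 h1
  · intro hg
    rw [Subgroup.mem_normalizer_iff]
    intro h
    exact Subgroup.mem_normalizer_iff.1 hg h

omit [Finite G] in
theorem cent_sub (hV : IsTorus V c) : ∀ u ∈ V.subgroupOf M, u ≠ 1 → Subgroup.centralizer ({u} : Set M) = V.subgroupOf M := by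
  intro u hu hu1
  ext g
  rw [Subgroup.mem_centralizer_singleton_iff, Subgroup.mem_subgroupOf, ← hV.cent u hu (fun h => hu1 (Subtype.ext h)),
    Subgroup.mem_centralizer_singleton_iff]
  constructor
  · intro h
    exact congrArg Subtype.val h
  · intro h
    exact Subtype.ext h

theorem card_normalizer_sub (hV : IsTorus V c) (hne : ∃ x ∈ V, x ∈ M ∧ x ≠ 1) :
    ∃ n, n ∣ c ∧ Nat.card (Subgroup.normalizer ((V.subgroupOf M : Subgroup M) : Set M)) = n * Nat.card (V.subgroupOf M) := by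
  rw [normalizer_sub hV hne]
  let N : Subgroup G := Subgroup.normalizer (V : Set G)
  let NM : Subgroup M := N.subgroupOf M
  let f : NM →* N ⧸ V.subgroupOf N :=
    (QuotientGroup.mk' (V.subgroupOf N)).comp
      { toFun := fun x => (⟨((x : M) : G), x.2⟩ : N)
        map_one' := rfl
        map_mul' := fun _ _ => rfl }
  have hker : ∀ x : NM, x ∈ f.ker ↔ (x : M) ∈ V.subgroupOf M := by
    intro x
    rw [MonoidHom.mem_ker]
    change QuotientGroup.mk (⟨((x : M) : G), x.2⟩ : N) = (1 : N ⧸ V.subgroupOf N) ↔ _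
    rw [QuotientGroup.eq_one_iff, Subgroup.mem_subgroupOf, Subgroup.mem_subgroupOf]
  have hle : V.subgroupOf M ≤ NM := fun x hx => Subgroup.le_normalizer (H := V) hx
  have h1 : Nat.card f.ker = Nat.card (V.subgroupOf M) := by
    apply Nat.card_congr
    exact
      { toFun := fun x => ⟨(x : NM), (hker x).1 x.2⟩
        invFun := fun x => ⟨⟨x, hle x.2⟩, (hker _).2 x.2⟩
        left_inv := fun x => rfl
        right_inv := fun x => rfl }
  have h2 := Subgroup.card_mul_index f.ker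
  rw [Subgroup.index_ker, h1] at h2
  refine ⟨Nat.card f.range, ?_, ?_⟩
  · have h3 := Subgroup.card_subgroup_dvd_card f.range
    have h4 : Nat.card (N ⧸ V.subgroupOf N) = c := hV.relIndex
    rwa [h4] at h3
  · rw [mul_comm, h2]

/-- the numerical data of a torus in a subgroup -/
theorem tor_data (hV : IsTorus V c) (hne : ∃ x ∈ V, x ∈ M ∧ x ≠ 1) :
    ∃ n, (n = 1 ∨ n = 2 ∨ n = 4) ∧ n ∣ c ∧ (cl (V.subgroupOf M)).ncard * (n * Nat.card (V.subgroupOf M)) =
      Nat.card M * (Nat.card (V.subgroupOf M) - 1) ∧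
      (n = 4 → ∃ y ∈ M, orderOf y = 4) ∧
      Nat.card (Subgroup.normalizer ((V.subgroupOf M : Subgroup M) : Set M)) = n * Nat.card (V.subgroupOf M) := by
  obtain ⟨n, hnc, hn⟩ := card_normalizer_sub hV hne
  have hcases : n = 1 ∨ n = 2 ∨ n = 4 := by
    rcases hV.hc with h | h
    · rw [h] at hnc
      rcases (Nat.dvd_prime Nat.prime_two).1 hnc with h1 | h1
      · exact Or.inl h1
      · exact Or.inr (Or.inl h1)
    · rw [h, show 4 = 2 ^ 2 by norm_num, Nat.dvd_prime_pow Nat.prime_two] at hnc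
      obtain ⟨k, hk, hk2⟩ := hnc
      have : k = 0 ∨ k = 1 ∨ k = 2 := by omega
      rcases this with rfl | rfl | rfl
      · left; simpa using hk2
      · right; left; simpa using hk2
      · right; right; simpa using hk2
  refine ⟨n, hcases, hnc, ?_, ?_, hn⟩
  · rw [← hn]
    exact H8.TICount.card_cl _ (ti_of_centralizer _ (cent_sub hV))
  · intro h4
    by_contra hno
    push Not at hno
    -- an involution in N_M(U)
    have hfact : Fact (Nat.Prime 2) := ⟨Nat.prime_two⟩
    obtain ⟨z, hz⟩ := exists_prime_orderOf_dvd_card' (G := Subgroup.normalizer ((V.subgroupOf M : Subgroup M) : Set M)) 2 (by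
      rw [hn, h4]
      exact dvd_mul_of_dvd_left (by norm_num) _)
    rw [← Subgroup.orderOf_coe, ← Subgroup.orderOf_coe] at hz
    have hNN : ∀ y : M, y ∈ Subgroup.normalizer ((V.subgroupOf M : Subgroup M) : Set M) →
        (y : G) ∈ Subgroup.normalizer (V : Set G) := fun y hy => (SetLike.ext_iff.1 (normalizer_sub hV hne) y).1 hy
    have hzN : ((z : M) : G) ∈ Subgroup.normalizer (V : Set G) := hNN _ z.2
    -- count
    have hle : Nat.card (Subgroup.normalizer ((V.subgroupOf M : Subgroup M) : Set M)) ≤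
        Nat.card (V.subgroupOf M ⊕ V.subgroupOf M) := by
      classical
      have hz2 : ∀ y : M, y ∈ Subgroup.normalizer ((V.subgroupOf M : Subgroup M) : Set M) → y ∉ V.subgroupOf M →
          (z : M)⁻¹ * y ∈ V.subgroupOf M := by
        intro y hy h
        by_contra hc
        exact hno _ y.2 ((hV.order_four_iff hzN hz (hNN y hy)).2 ⟨h, hc⟩)
      let f : Subgroup.normalizer ((V.subgroupOf M : Subgroup M) : Set M) → V.subgroupOf M ⊕ V.subgroupOf M :=
        fun y => if h : (y : M) ∈ V.subgroupOf M then Sum.inl ⟨(y : M), h⟩ else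
          Sum.inr ⟨(z : M)⁻¹ * (y : M), hz2 _ y.2 h⟩
      apply Nat.card_le_card_of_injective f
      intro y y' hyy
      by_cases h1 : (y : M) ∈ V.subgroupOf M <;> by_cases h2 : (y' : M) ∈ V.subgroupOf M
      · have e1 : f y = Sum.inl ⟨(y : M), h1⟩ := dif_pos h1
        have e2 : f y' = Sum.inl ⟨(y' : M), h2⟩ := dif_pos h2
        rw [e1, e2] at hyy
        have h3 : (⟨(y : M), h1⟩ : V.subgroupOf M) = ⟨(y' : M), h2⟩ := Sum.inl_injective hyy
        have h4 := congrArg (fun w : V.subgroupOf M => (w : M)) h3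
        exact Subtype.ext h4
      · have e1 : f y = Sum.inl ⟨(y : M), h1⟩ := dif_pos h1
        have e2 : f y' = Sum.inr ⟨(z : M)⁻¹ * (y' : M), hz2 _ y'.2 h2⟩ := dif_neg h2
        rw [e1, e2] at hyy
        exact absurd hyy (by simp)
      · have e1 : f y = Sum.inr ⟨(z : M)⁻¹ * (y : M), hz2 _ y.2 h1⟩ := dif_neg h1
        have e2 : f y' = Sum.inl ⟨(y' : M), h2⟩ := dif_pos h2
        rw [e1, e2] at hyy
        exact absurd hyy (by simp)
      · have e1 : f y = Sum.inr ⟨(z : M)⁻¹ * (y : M), hz2 _ y.2 h1⟩ := dif_neg h1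
        have e2 : f y' = Sum.inr ⟨(z : M)⁻¹ * (y' : M), hz2 _ y'.2 h2⟩ := dif_neg h2
        rw [e1, e2] at hyy
        have := congrArg Subtype.val (Sum.inr_injective hyy)
        exact Subtype.ext (mul_left_cancel this)
    rw [Nat.card_sum, hn, h4] at hle
    have : 0 < Nat.card (V.subgroupOf M) := Nat.card_pos
    omega

end General

variable {F : Type*} [Field F] [Fintype F] {m : ℕ}

/-- elements of `M` with order divisible by a prime dividing the order of a torus of `M` are conjugate into it -/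
theorem mem_cl_sub (hm : 1 ≤ m) (hF : Fintype.card F = 2 ^ (2 * m + 1)) {M V : Subgroup (Sz F m)} {c : ℕ}
    (hV : IsTorus V c) {r : ℕ} (hr : r.Prime) (hrV : r ∣ Nat.card (V.subgroupOf M)) {y : M} (hy : r ∣ orderOf y) :
    y ∈ cl (V.subgroupOf M) := by
  have hfact : Fact r.Prime := ⟨hr⟩
  have hr2 : r ≠ 2 := by
    rintro rfl
    apply hV.odd
    have h1 : Nat.card (V.subgroupOf M) ∣ Nat.card V := by
      have : Nat.card (V.subgroupOf M) = Nat.card (V ⊓ M : Subgroup (Sz F m)) := by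
        apply Nat.card_congr
        exact
          { toFun := fun x => ⟨((x : M) : Sz F m), x.2, (x : M).2⟩
            invFun := fun x => ⟨⟨x, x.2.2⟩, x.2.1⟩
            left_inv := fun _ => rfl
            right_inv := fun _ => rfl }
      rw [this]
      exact Subgroup.card_dvd_of_le inf_le_left
    exact hrV.trans h1
  obtain ⟨v, hv⟩ := exists_prime_orderOf_dvd_card' (G := V.subgroupOf M) r hrV
  rw [← Subgroup.orderOf_coe] at hv
  have hv1 : ((v : M) : Sz F m) ≠ 1 := by
    intro h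
    have : (v : M) = 1 := Subtype.ext h
    rw [this, orderOf_one] at hv
    exact hr.one_lt.ne hv
  obtain ⟨R, hR⟩ := (isPGroup_zpowers hv).exists_le_sylow
  have hcy := sylow_odd hm hF hr2 R
  have hvR : (v : M) ∈ (R : Subgroup M) := hR (Subgroup.mem_zpowers _)
  have hRV : ∀ q ∈ (R : Subgroup M), (q : Sz F m) ∈ V := by
    intro q hq
    rw [← hV.cent _ v.2 hv1, Subgroup.mem_centralizer_singleton_iff]
    obtain ⟨g, hg⟩ := hcy.exists_generator
    obtain ⟨i, hi⟩ := Subgroup.mem_zpowers_iff.1 (hg ⟨q, hq⟩)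
    obtain ⟨j, hj⟩ := Subgroup.mem_zpowers_iff.1 (hg ⟨v, hvR⟩)
    have h1 : (⟨q, hq⟩ : (R : Subgroup M)) * ⟨v, hvR⟩ = ⟨v, hvR⟩ * ⟨q, hq⟩ := by
      rw [← hi, ← hj, ← zpow_add, ← zpow_add, add_comm]
    exact congrArg (fun x : (R : Subgroup M) => ((x : M) : Sz F m)) h1
  obtain ⟨k, hk⟩ := exists_pow_prime hr hy
  obtain ⟨g, hg⟩ := exists_conj_mem R (isPGroup_zpowers hk)
  have hne : (((g * y ^ k * g⁻¹ : M)) : Sz F m) ≠ 1 := by
    intro h
    have h1 : g * y ^ k * g⁻¹ = 1 := Subtype.ext h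
    have h2 : orderOf (g * y ^ k * g⁻¹) = orderOf (y ^ k) := by
      have := (MulAut.conj g).orderOf_eq (y ^ k)
      rwa [MulAut.conj_apply] at this
    rw [h1, orderOf_one, hk] at h2
    exact hr.one_lt.ne h2
  refine ⟨?_, g, ?_⟩
  · rintro rfl
    rw [one_pow, orderOf_one] at hk
    exact hr.one_lt.ne hk
  · rw [Subgroup.mem_subgroupOf, ← hV.cent _ (hRV _ hg) hne, Subgroup.mem_centralizer_singleton_iff]
    have h2 : y * y ^ k = y ^ k * y := (Commute.self_pow y k).eq
    have h3 : g * y * g⁻¹ * (g * y ^ k * g⁻¹) = g * y ^ k * g⁻¹ * (g * y * g⁻¹) := by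
      calc g * y * g⁻¹ * (g * y ^ k * g⁻¹) = g * (y * y ^ k) * g⁻¹ := by group
        _ = g * (y ^ k * y) * g⁻¹ := by rw [h2]
        _ = _ := by group
    exact congrArg (fun x : M => (x : Sz F m)) h3

/-- a torus containing an element outside the class of another torus has coprime order -/
theorem coprime_sub (hm : 1 ≤ m) (hF : Fintype.card F = 2 ^ (2 * m + 1)) {M V V' : Subgroup (Sz F m)} {c c' : ℕ}
    (hV : IsTorus V c) (hV' : IsTorus V' c') {x : M} (hx : x ∈ V'.subgroupOf M) (hx1 : x ≠ 1) (hxV : x ∉ cl (V.subgroupOf M)) :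
    Nat.Coprime (Nat.card (V.subgroupOf M)) (Nat.card (V'.subgroupOf M)) := by
  apply Nat.coprime_of_dvd
  intro r hr h1 h2
  apply hxV
  have hfact : Fact r.Prime := ⟨hr⟩
  obtain ⟨v, hv⟩ := exists_prime_orderOf_dvd_card' (G := V'.subgroupOf M) r h2
  rw [← Subgroup.orderOf_coe] at hv
  obtain ⟨hv1, g, hg⟩ := mem_cl_sub hm hF hV hr h1 (y := (v : M)) (by rw [hv])
  have hg1 : g * (v : M) * g⁻¹ ≠ 1 := by
    intro h
    apply hv1
    have : (v : M) = g⁻¹ * (g * v * g⁻¹) * g := by group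
    rw [this, h]; group
  refine ⟨hx1, g, ?_⟩
  have e1 := cent_sub (M := M) hV _ hg hg1
  rw [← e1, Subgroup.mem_centralizer_singleton_iff]
  have e2 := cent_sub (M := M) hV' _ v.2 hv1
  have h3 : x * v = v * x := by
    rw [← Subgroup.mem_centralizer_singleton_iff, e2]; exact hx
  calc g * x * g⁻¹ * (g * v * g⁻¹) = g * (x * v) * g⁻¹ := by group
    _ = g * (v * x) * g⁻¹ := by rw [h3]
    _ = _ := by group

/-- elements of `M`: translations up to conjugacy, or in a torus -/
theorem cases_sub (hm : 1 ≤ m) (hF : Fintype.card F = 2 ^ (2 * m + 1)) {M : Subgroup (Sz F m)} (hN : Nrm hF M)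
    {x : M} (hx : x ≠ 1) : x ∈ cl (SM hF M) ∨ ∃ V : Subgroup (Sz F m), Comp hF V ∧ x ∈ V.subgroupOf M := by
  have hfact : Fact (Nat.Prime 2) := ⟨Nat.prime_two⟩
  have hx' : (x : Sz F m) ≠ 1 := fun h => hx (Subtype.ext h)
  rcases cases_elem hm hF hx' with h | h | ⟨r, hr, hd, hrq⟩
  · left
    obtain ⟨-, g, hg⟩ := h
    obtain ⟨P, hP⟩ := sylow_SM hm hF hN
    have h4 : x ^ 4 = 1 := by
      obtain ⟨a, b, hab⟩ := hg
      apply Subtype.ext
      have : (g * (x : Sz F m) * g⁻¹) ^ 4 = 1 := by rw [hab, tG_pow_four]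
      rw [conj_pow] at this
      have h5 : (x : Sz F m) ^ 4 = g⁻¹ * (g * (x : Sz F m) ^ 4 * g⁻¹) * g := by group
      change (x : Sz F m) ^ 4 = 1
      rw [h5, this]; group
    have h2 : IsPGroup 2 (Subgroup.zpowers x) := by
      rw [IsPGroup.iff_card, Nat.card_zpowers]
      have h5 : orderOf x ∣ 2 ^ 2 := orderOf_dvd_of_pow_eq_one h4
      rw [Nat.dvd_prime_pow Nat.prime_two] at h5
      obtain ⟨k, -, hk⟩ := h5
      exact ⟨k, hk⟩
    obtain ⟨y, hy⟩ := exists_conj_mem P h2
    rw [hP] at hy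
    exact ⟨hx, y, hy⟩
  · right
    obtain ⟨-, g, hg⟩ := h
    exact ⟨_, Or.inl ⟨g⁻¹, rfl⟩, Subgroup.mem_map.2 ⟨_, hg, by
        change g⁻¹ * (g * (x : Sz F m) * g⁻¹) * g⁻¹⁻¹ = x
        group⟩⟩
  · right
    obtain ⟨c, hc⟩ := exists_pow_prime hr hd
    have hT : Tor (Subgroup.centralizer ({(x : Sz F m) ^ c} : Set (Sz F m))) := ⟨r, hr, hrq, _, hc, rfl⟩
    exact ⟨_, Or.inr hT, Subgroup.mem_centralizer_singleton_iff.2 (Commute.self_pow _ c).eq⟩

/-- coprimality of translations and tori -/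
theorem coprime_SM (hF : Fintype.card F = 2 ^ (2 * m + 1)) {M V : Subgroup (Sz F m)} {c : ℕ}
    (hV : IsTorus V c) : Nat.Coprime (Nat.card (SM hF M)) (Nat.card (V.subgroupOf M)) := by
  have hfact : Fact (Nat.Prime 2) := ⟨Nat.prime_two⟩
  obtain ⟨k, hk⟩ := IsPGroup.iff_card.1 (isPGroup_SM hF M)
  rw [hk]
  apply Nat.Coprime.pow_left
  rw [Nat.Prime.coprime_iff_not_dvd Nat.prime_two]
  intro h
  apply hV.odd
  have h1 : Nat.card (V.subgroupOf M) ∣ Nat.card V := by
    have : Nat.card (V.subgroupOf M) = Nat.card (V ⊓ M : Subgroup (Sz F m)) := by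
      apply Nat.card_congr
      exact
        { toFun := fun x => ⟨((x : M) : Sz F m), x.2, (x : M).2⟩
          invFun := fun x => ⟨⟨x, x.2.2⟩, x.2.1⟩
          left_inv := fun _ => rfl
          right_inv := fun _ => rfl }
    rw [this]
    exact Subgroup.card_dvd_of_le inf_le_left
  exact h.trans h1

end H42.SuzMax
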