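import Cfsg.Agent.Lib.H42.SuzMax4

set_option autoImplicit false

/-! Subgroups of the Suzuki groups: the point stabiliser and the orbit. -/

namespace H42.SuzMax

open Cfsg H8.SuzOvoid H8.SuzField H8.SuzMat H8.SuzStab H8.SuzGroup H8.SuzSylow H8.SuzCent H8.SuzSimple H8.TICount H8.SuzTorus
open H42.SuzPart H42.SolCount H42.SuzSol H42.SuzSub H42.SubF
open scoped Pointwise

variable {F : Type*} [Field F] [Fintype F] {m : ℕ}

/-- the diagonal elements in `M` -/
abbrev HM (hF : Fintype.card F = 2 ^ (2 * m + 1)) (M : Subgroup (Sz F m)) : Subgroup M := (HH (m := m) hF).subgroupOf M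

theorem normalizer_SM (hm : 1 ≤ m) (hF : Fintype.card F = 2 ^ (2 * m + 1)) {M : Subgroup (Sz F m)} (hN : Nrm hF M) :
    Subgroup.normalizer ((SM hF M : Subgroup M) : Set M) = (Ginf F m).subgroupOf M := by
  ext g
  rw [Subgroup.mem_subgroupOf]
  constructor
  · intro hg
    have h1 := (Subgroup.mem_normalizer_iff.1 hg ⟨tG hF 0 1, hN.one⟩).1 ⟨0, 1, rfl⟩
    exact fix_inf_of_conj hF (g := (g : Sz F m)) (x := tG hF 0 1) ⟨0, 1, rfl⟩ (tG_ne_one hF (Or.inr one_ne_zero)) h1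
  · intro hg
    have h1 : (g : Sz F m) ∈ Subgroup.normalizer ((TT (m := m) hF : Subgroup (Sz F m)) : Set (Sz F m)) := by
      rw [normalizer_TT hm hF]; exact hg
    rw [Subgroup.mem_normalizer_iff]
    intro h
    exact Subgroup.mem_normalizer_iff.1 h1 h

theorem card_cl_SM (hm : 1 ≤ m) (hF : Fintype.card F = 2 ^ (2 * m + 1)) {M : Subgroup (Sz F m)} (hN : Nrm hF M) :
    (cl (SM hF M)).ncard * Nat.card ((Ginf F m).subgroupOf M) = Nat.card M * (Nat.card (SM hF M) - 1) := by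
  rw [← normalizer_SM hm hF hN]
  apply H8.TICount.card_cl
  intro g x hx hx1 hgx
  rw [normalizer_SM hm hF hN]
  exact fix_inf_of_conj hF (g := (g : Sz F m)) (x := (x : Sz F m)) hx (fun h => hx1 (Subtype.ext h)) hgx

theorem card_B (hF : Fintype.card F = 2 ^ (2 * m + 1)) {M : Subgroup (Sz F m)} (hN : Nrm hF M) :
    Nat.card ((Ginf F m).subgroupOf M) = Nat.card (SM hF M) * Nat.card (HM hF M) := by
  rw [← Nat.card_prod]
  symm
  apply Nat.card_congr
  refine Equiv.ofBijective (fun w => (⟨w.1 * w.2, ?_⟩ : (Ginf F m).subgroupOf M)) ⟨?_, ?_⟩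
  · rw [Subgroup.mem_subgroupOf]
    obtain ⟨a, b, hab⟩ := Subgroup.mem_subgroupOf.1 w.1.2
    obtain ⟨l, hl⟩ := Subgroup.mem_subgroupOf.1 w.2.2
    change (((w.1 : M) : Sz F m) * ((w.2 : M) : Sz F m)) ∈ Ginf F m
    rw [hab, ← hl]
    change (T m a b * D m l) • suzukiPointInfinity F = _
    rw [mul_smul, D_smul_inf, T_smul_inf]
  · rintro ⟨⟨⟨x, hx⟩, hxT⟩, ⟨⟨y, hy⟩, hyH⟩⟩ ⟨⟨⟨x', hx'⟩, hxT'⟩, ⟨⟨y', hy'⟩, hyH'⟩⟩ h
    obtain ⟨a, b, rfl⟩ := Subgroup.mem_subgroupOf.1 hxT
    obtain ⟨l, rfl⟩ := Subgroup.mem_subgroupOf.1 hyH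
    obtain ⟨a', b', rfl⟩ := Subgroup.mem_subgroupOf.1 hxT'
    obtain ⟨l', rfl⟩ := Subgroup.mem_subgroupOf.1 hyH'
    have h1 := congrArg (fun w : (Ginf F m).subgroupOf M => (((w : M) : Sz F m) : SL F)) h
    change T m a b * D m l = T m a' b' * D m l' at h1
    obtain ⟨h2, h3, h4⟩ := TD_inj h1
    subst h2; subst h3; subst h4
    rfl
  · rintro ⟨⟨g, hg⟩, hgI⟩
    obtain ⟨a, b, l, hl, haM, hlM⟩ := hN.split g hg hgI
    refine ⟨(⟨⟨_, haM⟩, ⟨a, b, rfl⟩⟩, ⟨⟨_, hlM⟩, ⟨l, rfl⟩⟩), ?_⟩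
    apply Subtype.ext
    apply Subtype.ext
    exact hl.symm

theorem card_HM (hF : Fintype.card F = 2 ^ (2 * m + 1)) [CharP F 2] [Fact (Nat.Prime 2)] {M : Subgroup (Sz F m)} {n : ℕ}
    (hn : 1 ≤ n) (hdvd : n ∣ 2 * m + 1) (hL : ∀ l : Fˣ, dG hF l ∈ M ↔ (l : F) ∈ subF F 2 n) :
    Nat.card (HM hF M) = 2 ^ n - 1 := by
  classical
  have h1 : Nat.card (HM hF M) = Nat.card {x : subF F 2 n // x ≠ 0} := by
    symm
    apply Nat.card_congr
    have hne : ∀ x : {x : subF F 2 n // x ≠ 0}, ((x : subF F 2 n) : F) ≠ 0 := fun x h => x.2 (Subtype.ext h)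
    refine Equiv.ofBijective (fun x => (⟨⟨dG hF (Units.mk0 _ (hne x)), (hL _).2 x.1.2⟩, ⟨_, rfl⟩⟩ : HM hF M)) ⟨?_, ?_⟩
    · intro x y hxy
      have h2 := congrArg (fun w : HM hF M => ((w : M) : Sz F m)) hxy
      have h3 := dG_inj hF h2
      exact Subtype.ext (Subtype.ext (congrArg Units.val h3))
    · rintro ⟨⟨g, hg⟩, hgH⟩
      obtain ⟨l, rfl⟩ := Subgroup.mem_subgroupOf.1 hgH
      have hl := (hL l).1 hg
      refine ⟨⟨⟨l, hl⟩, fun h => l.ne_zero (congrArg Subtype.val h)⟩, ?_⟩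
      apply Subtype.ext
      apply Subtype.ext
      change dG hF (Units.mk0 _ _) = dG hF l
      congr 1
      exact Units.ext rfl
  rw [h1, ← card_subF hF hn hdvd]
  have h2 := Nat.card_congr (Equiv.sumCompl (fun x : subF F 2 n => x = 0))
  rw [Nat.card_sum] at h2
  have h3 : Nat.card {x : subF F 2 n // x = 0} = 1 := by
    rw [Nat.card_eq_one_iff_unique]
    exact ⟨⟨fun a b => Subtype.ext (a.2.trans b.2.symm)⟩, ⟨⟨0, rfl⟩⟩⟩
  rw [h3] at h2
  change Nat.card {x : subF F 2 n // ¬ x = 0} = _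
  omega

/-- the points of the orbit other than infinity, acted upon by the translations -/
def offInf (hF : Fintype.card F = 2 ^ (2 * m + 1)) (M : Subgroup (Sz F m)) :
    SubMulAction (SM hF M) (Projectivization F (Fin 4 → F)) where
  carrier := {p | p ∈ MulAction.orbit M (suzukiPointInfinity F) ∧ p ≠ suzukiPointInfinity F}
  smul_mem' := by
    rintro ⟨⟨s, hs⟩, hsT⟩ p ⟨⟨g, hg⟩, hp⟩
    obtain ⟨a, b, rfl⟩ := Subgroup.mem_subgroupOf.1 hsT
    refine ⟨⟨⟨tG hF a b, hs⟩ * g, ?_⟩, ?_⟩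
    · change ((⟨tG hF a b, hs⟩ : M) * g) • suzukiPointInfinity F = (⟨tG hF a b, hs⟩ : M) • p
      rw [mul_smul]
      congr 1
    · intro h
      apply hp
      have h1 : T m a b • p = suzukiPointInfinity F := h
      rw [← T_smul_inf (m := m) a b] at h1
      exact MulAction.injective _ h1

instance actOff (hF : Fintype.card F = 2 ^ (2 * m + 1)) (M : Subgroup (Sz F m)) :
    MulAction (SM hF M) (offInf hF M) := (offInf hF M).mulAction

theorem offInf_free (hF : Fintype.card F = 2 ^ (2 * m + 1)) (M : Subgroup (Sz F m)) (p : offInf hF M) :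
    MulAction.stabilizer (SM hF M) p = ⊥ := by
  rw [Subgroup.eq_bot_iff_forall]
  rintro ⟨⟨s, hs⟩, hsT⟩ hfix
  obtain ⟨a, b, rfl⟩ := Subgroup.mem_subgroupOf.1 hsT
  by_contra hne
  have hne' : (tG hF a b : Sz F m) ≠ 1 := by
    intro h
    apply hne
    exact Subtype.ext (Subtype.ext h)
  have h1 : T m a b • (p : Projectivization F (Fin 4 → F)) = p := congrArg Subtype.val hfix
  have hp : (p : Projectivization F (Fin 4 → F)) ∈ suzukiOvoid F m := by
    obtain ⟨g, hg⟩ := p.2.1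
    rw [← hg]
    exact smul_mem (g : Sz F m).2 (inf_mem m)
  exact p.2.2 (eq_inf_of_T_fix hF hne' hp h1)

/-- the index of the point stabiliser -/
theorem index_B (hF : Fintype.card F = 2 ^ (2 * m + 1)) {M : Subgroup (Sz F m)} (hI : ¬ M ≤ Ginf F m) :
    ∃ f : ℕ, 1 ≤ f ∧ Nat.card M = Nat.card ((Ginf F m).subgroupOf M) * (1 + Nat.card (SM hF M) * f) ∧
      Nat.card (offInf hF M) = Nat.card (SM hF M) * f := by
  classical
  let O : Set (Projectivization F (Fin 4 → F)) := MulAction.orbit M (suzukiPointInfinity F)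
  have hOsub : O ⊆ suzukiOvoid F m := by
    rintro _ ⟨g, rfl⟩
    exact smul_mem (g : Sz F m).2 (inf_mem m)
  have hfin : Finite (suzukiOvoid F m) := Finite.of_equiv _ (H8.SuzOvoid.equiv F m)
  have hOfin : Finite O := Finite.Set.subset _ hOsub
  have hoff : Finite (offInf hF M) := by
    apply Finite.of_injective (fun p : offInf hF M => (⟨p, p.2.1⟩ : O))
    intro p q h
    have h' := congrArg (fun w : O => (w : Projectivization F (Fin 4 → F))) h
    exact Subtype.ext h'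
  have h1 : Nat.card O = 1 + Nat.card (offInf hF M) := by
    have e : Unit ⊕ offInf hF M ≃ O := by
      refine Equiv.ofBijective (fun w => match w with
        | Sum.inl _ => (⟨suzukiPointInfinity F, MulAction.mem_orbit_self _⟩ : O)
        | Sum.inr p => (⟨p, p.2.1⟩ : O)) ⟨?_, ?_⟩
      · rintro (a | a) (b | b) h
        · rfl
        · exact absurd (congrArg Subtype.val h).symm b.2.2
        · exact absurd (congrArg Subtype.val h) a.2.2
        · have h' := congrArg (fun w : O => (w : Projectivization F (Fin 4 → F))) h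
          exact congrArg _ (Subtype.ext h')
      · rintro ⟨p, hp⟩
        by_cases hpi : p = suzukiPointInfinity F
        · exact ⟨Sum.inl (), Subtype.ext hpi.symm⟩
        · exact ⟨Sum.inr ⟨p, hp, hpi⟩, rfl⟩
    rw [← Nat.card_congr e, Nat.card_sum, Nat.card_eq_one_iff_unique.2 ⟨inferInstance, inferInstance⟩]
  have h2 : Nat.card (offInf hF M) = Nat.card (Quotient (MulAction.orbitRel (SM hF M) (offInf hF M))) * Nat.card (SM hF M) := by
    rw [← Nat.card_prod]
    exact Nat.card_congr (MulAction.selfEquivOrbitsQuotientProd (offInf_free hF M))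
  have h3 : Nat.card M = Nat.card ((Ginf F m).subgroupOf M) * Nat.card O := by
    have := (MulAction.stabilizer M (suzukiPointInfinity F)).card_mul_index
    rw [MulAction.index_stabilizer, ← Nat.card_coe_set_eq] at this
    exact this.symm
  have hne : Nonempty (offInf hF M) := by
    obtain ⟨g, hgM, hg⟩ := SetLike.not_le_iff_exists.1 hI
    exact ⟨⟨(⟨g, hgM⟩ : M) • suzukiPointInfinity F, ⟨⟨g, hgM⟩, rfl⟩, hg⟩⟩
  have : Finite (Quotient (MulAction.orbitRel (SM hF M) (offInf hF M))) := Quotient.finite _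
  have : Nonempty (Quotient (MulAction.orbitRel (SM hF M) (offInf hF M))) := ⟨Quotient.mk _ hne.some⟩
  refine ⟨Nat.card (Quotient (MulAction.orbitRel (SM hF M) (offInf hF M))), Nat.card_pos, ?_, ?_⟩
  · rw [h3, h1, h2, mul_comm (Nat.card (SM hF M))]
  · rw [h2, mul_comm]

end H42.SuzMax
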