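import Cfsg.Agent.Lib.H42.SuzMax5
import Cfsg.Agent.Lib.H42.SuzArith

set_option autoImplicit false

/-! Subgroups of the Suzuki groups: the class equation. -/

namespace H42.SuzMax

open Cfsg H8.SuzOvoid H8.SuzField H8.SuzMat H8.SuzStab H8.SuzGroup H8.SuzSylow H8.SuzCent H8.SuzSimple H8.TICount H8.SuzTorus
open H42.SuzPart H42.SolCount H42.SuzSol H42.SuzSub H42.SubF H42.SuzArith
open scoped Pointwise

variable {F : Type*} [Field F] [Fintype F] {m : ℕ}

theorem three_not_dvd (hm : 1 ≤ m) (hF : Fintype.card F = 2 ^ (2 * m + 1)) {M : Subgroup (Sz F m)} (U : Subgroup M) :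
    ¬ 3 ∣ Nat.card U := by
  intro h
  have hfact : Fact (Nat.Prime 3) := ⟨Nat.prime_three⟩
  obtain ⟨v, hv⟩ := exists_prime_orderOf_dvd_card' (G := U) 3 h
  rw [← Subgroup.orderOf_coe, ← Subgroup.orderOf_coe] at hv
  have hq : 2 ^ (2 * m + 1) % 3 = 2 := by
    rw [pow_succ, pow_mul, Nat.mul_mod, Nat.pow_mod]
    norm_num
  have hq1 := q_ge hm
  rcases prime_cases hm hF Nat.prime_three hv with h1 | h1 | h1
  · norm_num at h1
  · omega
  · have h2 : ((2 ^ (2 * m + 1)) ^ 2 + 1) % 3 = 2 := by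
      rw [Nat.add_mod, Nat.pow_mod, hq]
    omega

/-- numerical data of a class of tori in `M` -/
structure Cls (M : Subgroup (Sz F m)) (U : Subgroup M) (n : ℕ) : Prop where
  tor : ∃ (V : Subgroup (Sz F m)) (c : ℕ), IsTorus V c ∧ U = V.subgroupOf M
  odd : ¬ 2 ∣ Nat.card U
  three : ¬ 3 ∣ Nat.card U
  five : 5 ≤ Nat.card U
  count : (cl U).ncard * (n * Nat.card U) = Nat.card M * (Nat.card U - 1)
  cases : n = 1 ∨ n = 2 ∨ (n = 4 ∧ ∃ y ∈ M, orderOf y = 4)
  norm : Nat.card (Subgroup.normalizer ((U : Subgroup M) : Set M)) = n * Nat.card U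

theorem exists_cls (hm : 1 ≤ m) (hF : Fintype.card F = 2 ^ (2 * m + 1)) {M V : Subgroup (Sz F m)} (hV : Comp hF V)
    {x : M} (hx : x ≠ 1) (hxV : x ∈ V.subgroupOf M) : ∃ n, Cls M (V.subgroupOf M) n := by
  obtain ⟨c, hc⟩ := hV.isTorus hm hF
  have hne : ∃ x ∈ V, x ∈ M ∧ x ≠ 1 := ⟨x, hxV, x.2, fun h => hx (Subtype.ext h)⟩
  obtain ⟨n, hn, hnc, hcount, hfour, hnorm⟩ := tor_data hc hne
  have hodd : ¬ 2 ∣ Nat.card (V.subgroupOf M) := by
    intro h
    apply hc.odd
    have h1 : Nat.card (V.subgroupOf M) ∣ Nat.card V := by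
      have : Nat.card (V.subgroupOf M) = Nat.card (V ⊓ M : Subgroup (Sz F m)) := by
        apply Nat.card_congr
        exact
          { toFun := fun x => ⟨((x : M) : Sz F m), x.2, (x : M).2⟩
            invFun := fun x => ⟨⟨x, x.2.2⟩, x.2.1⟩
            left_inv := fun _ => rfl
            right_inv := fun _ => rfl }
      rw [this]
      exact Subgroup.card_dvd_of_le inf_le_left
    exact h.trans h1
  have hthree := three_not_dvd hm hF (V.subgroupOf M)
  have hone : 1 < Nat.card (V.subgroupOf M) := by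
    rw [Finite.one_lt_card_iff_nontrivial]
    exact ⟨⟨x, hxV⟩, 1, fun h => hx (congrArg Subtype.val h)⟩
  refine ⟨n, ⟨V, c, hc, rfl⟩, hodd, hthree, by omega, hcount, ?_, hnorm⟩
  rcases hn with h | h | h
  · exact Or.inl h
  · exact Or.inr (Or.inl h)
  · exact Or.inr (Or.inr ⟨h, hfour h⟩)

theorem Cls.int {M : Subgroup (Sz F m)} {U : Subgroup M} {n : ℕ} (h : Cls M U n) :
    ((cl U).ncard : ℤ) * (n * Nat.card U) = Nat.card M * (Nat.card U - 1) := by
  have h1 := congrArg (Nat.cast : ℕ → ℤ) h.count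
  have h2 := h.five
  push_cast [Nat.cast_sub (show 1 ≤ Nat.card U by omega)] at h1
  exact h1

/-- lower bounds for the class sizes -/
theorem Cls.bound {M : Subgroup (Sz F m)} {U : Subgroup M} {n : ℕ} (h : Cls M U n) :
    4 * (Nat.card M : ℤ) ≤ 5 * n * (cl U).ncard ∧ (n : ℤ) * (cl U).ncard < Nat.card M := by
  have h1 := h.int
  have h2 : (5 : ℤ) ≤ Nat.card U := by exact_mod_cast h.five
  have h3 : (0 : ℤ) < Nat.card M := by exact_mod_cast Nat.card_pos
  have h4 : (n : ℤ) * (cl U).ncard * Nat.card U = Nat.card M * (Nat.card U - 1) := by linear_combination h1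
  constructor
  · have h5 : 4 * (Nat.card M : ℤ) * Nat.card U ≤ 5 * n * (cl U).ncard * Nat.card U := by
      have e : 5 * (n : ℤ) * (cl U).ncard * Nat.card U = 5 * (Nat.card M * (Nat.card U - 1)) := by linear_combination 5 * h4
      rw [e]
      nlinarith
    exact le_of_mul_le_mul_right h5 (by omega)
  · have h5 : (n : ℤ) * (cl U).ncard * Nat.card U < Nat.card M * Nat.card U := by
      rw [h4]; nlinarith
    exact lt_of_mul_lt_mul_right h5 (by omega)

/-- summation for a list of coprime classes -/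
theorem cls_coprime (hm : 1 ≤ m) (hF : Fintype.card F = 2 ^ (2 * m + 1)) {M : Subgroup (Sz F m)} {U : Subgroup M} {n : ℕ}
    (hU : Cls M U n) {V : Subgroup (Sz F m)} (hV : Comp hF V) {x : M} (hx : x ≠ 1) (hxV : x ∈ V.subgroupOf M)
    (hxU : x ∉ cl U) : Nat.Coprime (Nat.card U) (Nat.card (V.subgroupOf M)) := by
  obtain ⟨V', c', hV', rfl⟩ := hU.tor
  obtain ⟨c, hc⟩ := hV.isTorus hm hF
  exact coprime_sub hm hF hV' hc hxV hx hxU

theorem cls_coprime_SM (hF : Fintype.card F = 2 ^ (2 * m + 1)) {M : Subgroup (Sz F m)} {U : Subgroup M} {n : ℕ}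
    (hU : Cls M U n) : Nat.Coprime (Nat.card (SM hF M)) (Nat.card U) := by
  obtain ⟨V', c', hV', rfl⟩ := hU.tor
  exact coprime_SM hF hV'

section Sums

variable {G : Type*} [Group G] [Finite G] {A B C D E : Subgroup G}

theorem sum2_eq (ab : Nat.Coprime (Nat.card A) (Nat.card B))
    (hall : ∀ x : G, x ≠ 1 → x ∈ cl A ∨ x ∈ cl B) : 1 + (cl A).ncard + (cl B).ncard = Nat.card G := by
  have := sum_eq ![A, B] (by
    intro i j hij
    fin_cases i <;> fin_cases j
    · exact absurd rfl hij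
    · exact ab
    · exact ab.symm
    · exact absurd rfl hij) (by
    intro x hx
    rcases hall x hx with h | h
    · exact ⟨0, h⟩
    · exact ⟨1, h⟩)
  rw [Fin.sum_univ_two] at this
  change 1 + ((cl A).ncard + (cl B).ncard) = _ at this
  omega

theorem sum3_le (ab : Nat.Coprime (Nat.card A) (Nat.card B)) (ac : Nat.Coprime (Nat.card A) (Nat.card C))
    (bc : Nat.Coprime (Nat.card B) (Nat.card C)) : 1 + (cl A).ncard + (cl B).ncard + (cl C).ncard ≤ Nat.card G := by
  have := sum_le ![A, B, C] (by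
    intro i j hij
    fin_cases i <;> fin_cases j
    · exact absurd rfl hij
    · exact ab
    · exact ac
    · exact ab.symm
    · exact absurd rfl hij
    · exact bc
    · exact ac.symm
    · exact bc.symm
    · exact absurd rfl hij)
  rw [Fin.sum_univ_three] at this
  change 1 + ((cl A).ncard + (cl B).ncard + (cl C).ncard) ≤ _ at this
  omega

theorem sum3_eq (ab : Nat.Coprime (Nat.card A) (Nat.card B)) (ac : Nat.Coprime (Nat.card A) (Nat.card C))
    (bc : Nat.Coprime (Nat.card B) (Nat.card C)) (hall : ∀ x : G, x ≠ 1 → x ∈ cl A ∨ x ∈ cl B ∨ x ∈ cl C) :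
    1 + (cl A).ncard + (cl B).ncard + (cl C).ncard = Nat.card G := by
  have := sum_eq ![A, B, C] (by
    intro i j hij
    fin_cases i <;> fin_cases j
    · exact absurd rfl hij
    · exact ab
    · exact ac
    · exact ab.symm
    · exact absurd rfl hij
    · exact bc
    · exact ac.symm
    · exact bc.symm
    · exact absurd rfl hij) (by
    intro x hx
    rcases hall x hx with h | h | h
    · exact ⟨0, h⟩
    · exact ⟨1, h⟩
    · exact ⟨2, h⟩)
  rw [Fin.sum_univ_three] at this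
  change 1 + ((cl A).ncard + (cl B).ncard + (cl C).ncard) = _ at this
  omega

theorem sum4_le (ab : Nat.Coprime (Nat.card A) (Nat.card B)) (ac : Nat.Coprime (Nat.card A) (Nat.card C))
    (bc : Nat.Coprime (Nat.card B) (Nat.card C)) (ad : Nat.Coprime (Nat.card A) (Nat.card D))
    (bd : Nat.Coprime (Nat.card B) (Nat.card D)) (cd : Nat.Coprime (Nat.card C) (Nat.card D)) :
    1 + (cl A).ncard + (cl B).ncard + (cl C).ncard + (cl D).ncard ≤ Nat.card G := by
  have := sum_le ![A, B, C, D] (by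
    intro i j hij
    fin_cases i <;> fin_cases j
    · exact absurd rfl hij
    · exact ab
    · exact ac
    · exact ad
    · exact ab.symm
    · exact absurd rfl hij
    · exact bc
    · exact bd
    · exact ac.symm
    · exact bc.symm
    · exact absurd rfl hij
    · exact cd
    · exact ad.symm
    · exact bd.symm
    · exact cd.symm
    · exact absurd rfl hij)
  rw [Fin.sum_univ_four] at this
  change 1 + ((cl A).ncard + (cl B).ncard + (cl C).ncard + (cl D).ncard) ≤ _ at this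
  omega

theorem sum4_eq (ab : Nat.Coprime (Nat.card A) (Nat.card B)) (ac : Nat.Coprime (Nat.card A) (Nat.card C))
    (bc : Nat.Coprime (Nat.card B) (Nat.card C)) (ad : Nat.Coprime (Nat.card A) (Nat.card D))
    (bd : Nat.Coprime (Nat.card B) (Nat.card D)) (cd : Nat.Coprime (Nat.card C) (Nat.card D))
    (hall : ∀ x : G, x ≠ 1 → x ∈ cl A ∨ x ∈ cl B ∨ x ∈ cl C ∨ x ∈ cl D) :
    1 + (cl A).ncard + (cl B).ncard + (cl C).ncard + (cl D).ncard = Nat.card G := by
  have := sum_eq ![A, B, C, D] (by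
    intro i j hij
    fin_cases i <;> fin_cases j
    · exact absurd rfl hij
    · exact ab
    · exact ac
    · exact ad
    · exact ab.symm
    · exact absurd rfl hij
    · exact bc
    · exact bd
    · exact ac.symm
    · exact bc.symm
    · exact absurd rfl hij
    · exact cd
    · exact ad.symm
    · exact bd.symm
    · exact cd.symm
    · exact absurd rfl hij) (by
    intro x hx
    rcases hall x hx with h | h | h | h
    · exact ⟨0, h⟩
    · exact ⟨1, h⟩
    · exact ⟨2, h⟩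
    · exact ⟨3, h⟩)
  rw [Fin.sum_univ_four] at this
  change 1 + ((cl A).ncard + (cl B).ncard + (cl C).ncard + (cl D).ncard) = _ at this
  omega

theorem sum5_le (ab : Nat.Coprime (Nat.card A) (Nat.card B)) (ac : Nat.Coprime (Nat.card A) (Nat.card C))
    (bc : Nat.Coprime (Nat.card B) (Nat.card C)) (ad : Nat.Coprime (Nat.card A) (Nat.card D))
    (bd : Nat.Coprime (Nat.card B) (Nat.card D)) (ae : Nat.Coprime (Nat.card A) (Nat.card E))
    (be : Nat.Coprime (Nat.card B) (Nat.card E)) (cd : Nat.Coprime (Nat.card C) (Nat.card D))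
    (ce : Nat.Coprime (Nat.card C) (Nat.card E)) (de : Nat.Coprime (Nat.card D) (Nat.card E)) :
    1 + (cl A).ncard + (cl B).ncard + (cl C).ncard + (cl D).ncard + (cl E).ncard ≤ Nat.card G := by
  have := sum_le ![A, B, C, D, E] (by
    intro i j hij
    fin_cases i <;> fin_cases j
    · exact absurd rfl hij
    · exact ab
    · exact ac
    · exact ad
    · exact ae
    · exact ab.symm
    · exact absurd rfl hij
    · exact bc
    · exact bd
    · exact be
    · exact ac.symm
    · exact bc.symm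
    · exact absurd rfl hij
    · exact cd
    · exact ce
    · exact ad.symm
    · exact bd.symm
    · exact cd.symm
    · exact absurd rfl hij
    · exact de
    · exact ae.symm
    · exact be.symm
    · exact ce.symm
    · exact de.symm
    · exact absurd rfl hij)
  rw [Fin.sum_univ_five] at this
  change 1 + ((cl A).ncard + (cl B).ncard + (cl C).ncard + (cl D).ncard + (cl E).ncard) ≤ _ at this
  omega

end Sums

set_option maxHeartbeats 1000000 in
/-- the class equation -/
theorem class_eq (hm : 1 ≤ m) (hF : Fintype.card F = 2 ^ (2 * m + 1)) {M : Subgroup (Sz F m)} (hN : Nrm hF M)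
    {n1 : ℕ} (hH : Cls M (HM hF M) n1) (hn1 : n1 = 1 ∨ n1 = 2) {Q s f : ℕ} (hQ : 8 ≤ Q) (hHc : Nat.card (HM hF M) = Q - 1)
    (hs : Nat.card (SM hF M) = s) (hsQ : s = Q ∨ s = Q ^ 2) (hf : 1 ≤ f)
    (hM : Nat.card M = s * (Q - 1) * (1 + s * f)) (hcS : (cl (SM hF M)).ncard = (1 + s * f) * (s - 1)) :
    n1 = 2 ∧
    ((∃ U : Subgroup M, Cls M U 2 ∧ 1 + (cl (SM hF M)).ncard + (cl (HM hF M)).ncard + (cl U).ncard = Nat.card M) ∨
     (∃ U V : Subgroup M, Cls M U 4 ∧ Cls M V 4 ∧ Nat.Coprime (Nat.card U) (Nat.card V) ∧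
      Nat.Coprime (Nat.card (SM hF M)) (Nat.card U) ∧ Nat.Coprime (Nat.card (HM hF M)) (Nat.card U) ∧
      Nat.Coprime (Nat.card (SM hF M)) (Nat.card V) ∧ Nat.Coprime (Nat.card (HM hF M)) (Nat.card V) ∧
      1 + (cl (SM hF M)).ncard + (cl (HM hF M)).ncard + (cl U).ncard + (cl V).ncard = Nat.card M)) := by
  have hg : (Nat.card M : ℤ) = s * (Q - 1) * (1 + s * f) := by
    rw [hM]; push_cast [Nat.cast_sub (show 1 ≤ Q by omega)]; ring
  have hs8 : 8 ≤ s := by
    rcases hsQ with h | h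
    · omega
    · rw [h]; nlinarith
  have hcS' : ((cl (SM hF M)).ncard : ℤ) = (1 + s * f) * (s - 1) := by
    rw [hcS]; push_cast [Nat.cast_sub (show 1 ≤ s by omega)]; ring
  have hHi := hH.int
  rw [hHc, Nat.cast_sub (show 1 ≤ Q by omega), Nat.cast_one] at hHi
  have hQ' : (8 : ℤ) ≤ Q := by exact_mod_cast hQ
  have hs' : (8 : ℤ) ≤ s := by exact_mod_cast hs8
  have hf' : (1 : ℤ) ≤ f := by exact_mod_cast hf
  have hX : (9 : ℤ) ≤ 1 + s * f := by
    have : (8 : ℤ) * 1 ≤ s * f := mul_le_mul hs' hf' (by norm_num) (by omega)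
    linarith
  obtain ⟨X, hXdef⟩ : ∃ X : ℤ, X = 1 + s * f := ⟨_, rfl⟩
  rw [← hXdef] at hg hcS' hX
  have hgpos : (504 : ℤ) ≤ Nat.card M := by
    rw [hg]
    have h1 : (8 : ℤ) * 7 ≤ s * (Q - 1) := mul_le_mul hs' (by omega) (by norm_num) (by omega)
    have h2 : (8 : ℤ) * 7 * 9 ≤ s * (Q - 1) * X := mul_le_mul h1 hX (by norm_num) (by positivity)
    linarith
  -- the elements outside
  have hcov : ∀ x : M, x ≠ 1 → x ∈ cl (SM hF M) ∨ x ∈ cl (HM hF M) ∨ ∃ (V : Subgroup (Sz F m)) (n : ℕ), Comp hF V ∧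
      x ∈ V.subgroupOf M ∧ Cls M (V.subgroupOf M) n := by
    intro x hx
    rcases cases_sub hm hF hN hx with h | ⟨V, hV, hxV⟩
    · exact Or.inl h
    · obtain ⟨n, hn⟩ := exists_cls hm hF hV hx hxV
      exact Or.inr (Or.inr ⟨V, n, hV, hxV, hn⟩)
  have cSH : Nat.Coprime (Nat.card (SM hF M)) (Nat.card (HM hF M)) := cls_coprime_SM hF hH
  have hcovSH : (∀ x : M, x ≠ 1 → x ∈ cl (SM hF M) ∨ x ∈ cl (HM hF M)) →
      1 + (cl (SM hF M)).ncard + (cl (HM hF M)).ncard = Nat.card M := sum2_eq cSH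
  have h3le : ∀ (U : Subgroup M), Nat.Coprime (Nat.card (SM hF M)) (Nat.card U) → Nat.Coprime (Nat.card (HM hF M)) (Nat.card U) →
      1 + (cl (SM hF M)).ncard + (cl (HM hF M)).ncard + (cl U).ncard ≤ Nat.card M := fun U c1 c2 => sum3_le cSH c1 c2
  have h3eq : ∀ (U : Subgroup M), Nat.Coprime (Nat.card (SM hF M)) (Nat.card U) → Nat.Coprime (Nat.card (HM hF M)) (Nat.card U) →
      (∀ x : M, x ≠ 1 → x ∈ cl (SM hF M) ∨ x ∈ cl (HM hF M) ∨ x ∈ cl U) →
      1 + (cl (SM hF M)).ncard + (cl (HM hF M)).ncard + (cl U).ncard = Nat.card M := fun U c1 c2 => sum3_eq cSH c1 c2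
  have h4le : ∀ (U V : Subgroup M), Nat.Coprime (Nat.card (SM hF M)) (Nat.card U) → Nat.Coprime (Nat.card (HM hF M)) (Nat.card U) →
      Nat.Coprime (Nat.card (SM hF M)) (Nat.card V) → Nat.Coprime (Nat.card (HM hF M)) (Nat.card V) →
      Nat.Coprime (Nat.card U) (Nat.card V) →
      1 + (cl (SM hF M)).ncard + (cl (HM hF M)).ncard + (cl U).ncard + (cl V).ncard ≤ Nat.card M :=
    fun U V c1 c2 d1 d2 e => sum4_le cSH c1 c2 d1 d2 e
  have h4eq : ∀ (U V : Subgroup M), Nat.Coprime (Nat.card (SM hF M)) (Nat.card U) → Nat.Coprime (Nat.card (HM hF M)) (Nat.card U) →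
      Nat.Coprime (Nat.card (SM hF M)) (Nat.card V) → Nat.Coprime (Nat.card (HM hF M)) (Nat.card V) →
      Nat.Coprime (Nat.card U) (Nat.card V) →
      (∀ x : M, x ≠ 1 → x ∈ cl (SM hF M) ∨ x ∈ cl (HM hF M) ∨ x ∈ cl U ∨ x ∈ cl V) →
      1 + (cl (SM hF M)).ncard + (cl (HM hF M)).ncard + (cl U).ncard + (cl V).ncard = Nat.card M :=
    fun U V c1 c2 d1 d2 e => sum4_eq cSH c1 c2 d1 d2 e
  have h5le : ∀ (U V W : Subgroup M), Nat.Coprime (Nat.card (SM hF M)) (Nat.card U) → Nat.Coprime (Nat.card (HM hF M)) (Nat.card U) →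
      Nat.Coprime (Nat.card (SM hF M)) (Nat.card V) → Nat.Coprime (Nat.card (HM hF M)) (Nat.card V) →
      Nat.Coprime (Nat.card (SM hF M)) (Nat.card W) → Nat.Coprime (Nat.card (HM hF M)) (Nat.card W) →
      Nat.Coprime (Nat.card U) (Nat.card V) → Nat.Coprime (Nat.card U) (Nat.card W) → Nat.Coprime (Nat.card V) (Nat.card W) →
      1 + (cl (SM hF M)).ncard + (cl (HM hF M)).ncard + (cl U).ncard + (cl V).ncard + (cl W).ncard ≤ Nat.card M :=
    fun U V W c1 c2 d1 d2 e1 e2 uv uw vw => sum5_le cSH c1 c2 d1 d2 e1 e2 uv uw vw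
  -- pick the first class
  have hex1 : 1 + ((cl (SM hF M)).ncard : ℤ) + (cl (HM hF M)).ncard < Nat.card M →
      ∃ x : M, x ≠ 1 ∧ x ∉ cl (SM hF M) ∧ x ∉ cl (HM hF M) := by
    intro hlt
    by_contra hcon
    push Not at hcon
    have := hcovSH (fun x hx => by
      by_cases h : x ∈ cl (SM hF M)
      · exact Or.inl h
      · exact Or.inr (hcon x hx h))
    omega
  -- n1 = 1 impossible
  have hQs : (s : ℤ) * (Q - 1) * X = Nat.card M := hg.symm
  have hn12 : n1 = 2 := by
    rcases hn1 with h1 | h1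
    · exfalso
      rw [h1, Nat.cast_one, one_mul] at hHi
      have hcH : ((cl (HM hF M)).ncard : ℤ) = s * X * (Q - 2) := by
        have : ((cl (HM hF M)).ncard : ℤ) * (Q - 1) = (s * X * (Q - 2)) * (Q - 1) := by
          rw [hg] at hHi; linear_combination hHi
        exact mul_right_cancel₀ (by omega) this
      have hrest : 1 + ((cl (SM hF M)).ncard : ℤ) + (cl (HM hF M)).ncard = Nat.card M - (X - 1) := by
        rw [hcS', hcH, hg]; ring
      obtain ⟨x, hx1, hxS, hxH⟩ := hex1 (by omega)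
      rcases hcov x hx1 with h | h | ⟨V, n, hV, hxV, hcls⟩
      · exact hxS h
      · exact hxH h
      · have c1 := cls_coprime_SM hF hcls
        have c2 := cls_coprime hm hF hH hV hx1 hxV hxH
        have hle := h3le _ c1 c2
        have hb := hcls.bound
        have hle' : (cl (V.subgroupOf M)).ncard ≤ (X - 1 : ℤ) := by
          have : (1 : ℤ) + (cl (SM hF M)).ncard + (cl (HM hF M)).ncard + (cl (V.subgroupOf M)).ncard ≤ Nat.card M := by
            exact_mod_cast hle
          omega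
        have hn4 : (n : ℤ) ≤ 4 := by
          rcases hcls.cases with h | h | ⟨h, -⟩ <;> rw [h] <;> norm_num
        have hn0 : (0 : ℤ) ≤ n := by positivity
        have h5 : 5 * (n : ℤ) * (cl (V.subgroupOf M)).ncard ≤ 20 * (X - 1) := by
          have : (n : ℤ) * (cl (V.subgroupOf M)).ncard ≤ 4 * (X - 1) :=
            mul_le_mul hn4 hle' (by positivity) (by norm_num)
          linarith
        have h6 : 56 * X ≤ Nat.card M := by
          rw [hg]
          have h1 : (8 : ℤ) * 7 ≤ s * (Q - 1) := mul_le_mul hs' (by omega) (by norm_num) (by omega)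
          have h1 : (56 : ℤ) ≤ s * (Q - 1) := by linarith
          exact mul_le_mul_of_nonneg_right h1 (by omega)
        omega
    · exact h1
  refine ⟨hn12, ?_⟩
  subst hn12
  rw [Nat.cast_ofNat] at hHi
  have hcH : 2 * ((cl (HM hF M)).ncard : ℤ) = s * X * (Q - 2) := by
    have : (2 * ((cl (HM hF M)).ncard : ℤ)) * (Q - 1) = (s * X * (Q - 2)) * (Q - 1) := by
      rw [hg] at hHi; linear_combination hHi
    exact mul_right_cancel₀ (by omega) this
  have hhalf : (Nat.card M : ℤ) ≤ 2 * (cl (SM hF M)).ncard + 2 * (cl (HM hF M)).ncard := by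
    rw [hcH, hcS', hg]
    have h1 : 0 ≤ X * (s - 2) := mul_nonneg (by omega) (by omega)
    have e : 2 * (X * (s - 1)) + s * X * (Q - 2) - s * (Q - 1) * X = X * (s - 2) := by ring
    linarith
  have hSup : 64 * ((cl (SM hF M)).ncard : ℤ) ≤ 9 * Nat.card M := by
    rw [hcS', hg]
    rcases hsQ with h | h
    · have hsQ' : (s : ℤ) = Q := by exact_mod_cast h
      rw [hsQ']
      have h1 : 0 ≤ X * ((Q - 1) * (9 * Q - 64)) := mul_nonneg (by omega) (mul_nonneg (by omega) (by omega))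
      have e : 9 * (Q * (Q - 1) * X) - 64 * (X * (Q - 1)) = X * ((Q - 1) * (9 * Q - 64)) := by ring
      linarith
    · have hsQ' : (s : ℤ) = Q ^ 2 := by exact_mod_cast h
      rw [hsQ']
      have h0 : (0 : ℤ) ≤ 9 * Q ^ 2 - 64 * (Q + 1) := by
        have : (0 : ℤ) ≤ (Q - 8) * (9 * Q + 8) := mul_nonneg (by omega) (by omega)
        linarith
      have h1 : 0 ≤ X * ((Q - 1) * (9 * Q ^ 2 - 64 * (Q + 1))) := mul_nonneg (by omega) (mul_nonneg (by omega) h0)
      have e : 9 * ((Q : ℤ) ^ 2 * (Q - 1) * X) - 64 * (X * (Q ^ 2 - 1)) = X * ((Q - 1) * (9 * Q ^ 2 - 64 * (Q + 1))) := by ring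
      linarith
  have hHup : 2 * ((cl (HM hF M)).ncard : ℤ) < Nat.card M := by
    rw [hcH, hg]
    have h1 : 0 < (s : ℤ) * X := mul_pos (by omega) (by omega)
    have e : (s : ℤ) * (Q - 1) * X - s * X * (Q - 2) = s * X := by ring
    linarith
  obtain ⟨x, hx1, hxS, hxH⟩ := hex1 (by omega)
  rcases hcov x hx1 with h | h | ⟨V, n, hV, hxV, hcls⟩
  · exact absurd h hxS
  · exact absurd h hxH
  have c1 := cls_coprime_SM hF hcls
  have c2 := cls_coprime hm hF hH hV hx1 hxV hxH
  have hle := h3le _ c1 c2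
  obtain ⟨hb1, hb2⟩ := hcls.bound
  have hnval : n = 2 ∨ n = 4 := by
    rcases hcls.cases with h | h | ⟨h, -⟩
    · exfalso
      rw [h] at hb1
      push_cast at hb1
      omega
    · exact Or.inl h
    · exact Or.inr h
  -- second class
  have hsecond : ∀ y : M, y ≠ 1 → y ∉ cl (SM hF M) → y ∉ cl (HM hF M) → y ∉ cl (V.subgroupOf M) →
      ∃ (V' : Subgroup (Sz F m)) (n' : ℕ), Comp hF V' ∧ y ∈ V'.subgroupOf M ∧ Cls M (V'.subgroupOf M) n' ∧ n = 4 ∧ n' = 4 ∧
        Nat.Coprime (Nat.card (SM hF M)) (Nat.card (V'.subgroupOf M)) ∧ Nat.Coprime (Nat.card (HM hF M)) (Nat.card (V'.subgroupOf M)) ∧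
        Nat.Coprime (Nat.card (V.subgroupOf M)) (Nat.card (V'.subgroupOf M)) := by
    intro y hy1 hyS hyH hyV
    rcases hcov y hy1 with h | h | ⟨V', n', hV', hyV', hcls'⟩
    · exact absurd h hyS
    · exact absurd h hyH
    have d1 := cls_coprime_SM hF hcls'
    have d2 := cls_coprime hm hF hH hV' hy1 hyV' hyH
    have e := cls_coprime hm hF hcls hV' hy1 hyV' hyV
    have hle' := h4le _ _ c1 c2 d1 d2 e
    obtain ⟨hb1', hb2'⟩ := hcls'.bound
    have hn4 : n = 4 ∧ n' = 4 := by
      rcases hcls'.cases with h' | h' | ⟨h', -⟩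
      · exfalso
        rw [h'] at hb1'
        push_cast at hb1'
        omega
      · exfalso
        rw [h'] at hb1'
        push_cast at hb1'
        rcases hnval with h | h <;> rw [h] at hb1 <;> push_cast at hb1 <;> omega
      · rcases hnval with h | h
        · exfalso
          rw [h] at hb1
          rw [h'] at hb1'
          push_cast at hb1 hb1'
          omega
        · exact ⟨h, h'⟩
    exact ⟨V', n', hV', hyV', hcls', hn4.1, hn4.2, d1, d2, e⟩
  rcases hnval with h | h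
  · left
    subst h
    refine ⟨V.subgroupOf M, hcls, h3eq _ c1 c2 ?_⟩
    intro y hy1
    by_contra hcon
    push Not at hcon
    obtain ⟨V', n', -, -, -, h24, -⟩ := hsecond y hy1 hcon.1 hcon.2.1 hcon.2.2
    omega
  · right
    subst h
    push_cast at hb1 hb2
    -- there is another element
    have hex2 : ∃ y : M, y ≠ 1 ∧ y ∉ cl (SM hF M) ∧ y ∉ cl (HM hF M) ∧ y ∉ cl (V.subgroupOf M) := by
      by_contra hcon
      push Not at hcon
      have := h3eq _ c1 c2 (fun y hy1 => by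
        by_cases h1 : y ∈ cl (SM hF M)
        · exact Or.inl h1
        · by_cases h2 : y ∈ cl (HM hF M)
          · exact Or.inr (Or.inl h2)
          · exact Or.inr (Or.inr (hcon y hy1 h1 h2)))
      omega
    obtain ⟨y, hy1, hyS, hyH, hyV⟩ := hex2
    obtain ⟨V', n', hV', hyV', hcls', -, hn', d1, d2, e⟩ := hsecond y hy1 hyS hyH hyV
    subst hn'
    obtain ⟨hb1', hb2'⟩ := hcls'.bound
    push_cast at hb1' hb2'
    refine ⟨V.subgroupOf M, V'.subgroupOf M, hcls, hcls', e, c1, c2, d1, d2, h4eq _ _ c1 c2 d1 d2 e ?_⟩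
    intro w hw1
    by_contra hcon
    push Not at hcon
    obtain ⟨hwS, hwH, hwV, hwV'⟩ := hcon
    obtain ⟨V'', n'', hV'', hwV'', hcls'', -, hn'', f1, f2, e'⟩ := hsecond w hw1 hwS hwH hwV
    subst hn''
    have e'' := cls_coprime hm hF hcls' hV'' hw1 hwV'' hwV'
    have hle'' := h5le _ _ _ c1 c2 d1 d2 f1 f2 e e' e''
    obtain ⟨hb1'', hb2''⟩ := hcls''.bound
    push_cast at hb1'' hb2''
    omega

end H42.SuzMax
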