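import Cfsg.Agent.Lib.H42.SuzMax6

set_option autoImplicit false

/-! Subgroups of the Suzuki groups: the theorem. -/

namespace H42.SuzMax

open Cfsg H8.SuzOvoid H8.SuzField H8.SuzMat H8.SuzStab H8.SuzGroup H8.SuzSylow H8.SuzCent H8.SuzSimple H8.TICount H8.SuzTorus
open H42.SuzPart H42.SolCount H42.SuzSol H42.SuzSub H42.SubF H42.SuzArith
open scoped Pointwise

variable {F : Type*} [Field F] [Fintype F] {m : ℕ}

theorem no_order_four (hm : 1 ≤ m) (hF : Fintype.card F = 2 ^ (2 * m + 1)) {M : Subgroup (Sz F m)} (hN : Nrm hF M)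
    (h0 : ∀ a b, tG hF a b ∈ M → a = 0) : ∀ y ∈ M, orderOf y ≠ 4 := by
  intro y hy h4
  have hy1 : (⟨y, hy⟩ : M) ≠ 1 := by
    intro h
    have : y = 1 := congrArg Subtype.val h
    rw [this, orderOf_one] at h4
    norm_num at h4
  rcases cases_sub hm hF hN hy1 with h | ⟨V, hV, hyV⟩
  · obtain ⟨-, g, hg⟩ := h
    obtain ⟨a, b, hab⟩ := Subgroup.mem_subgroupOf.1 hg
    have h1 : (g : Sz F m) * y * (g : Sz F m)⁻¹ = tG hF a b := hab
    have hM : tG hF a b ∈ M := by
      rw [← h1]; exact M.mul_mem (M.mul_mem g.2 hy) (M.inv_mem g.2)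
    have ha := h0 a b hM
    subst ha
    have h2 := orderOf_conj' (g : Sz F m) y
    rw [h1, h4] at h2
    have h3 : orderOf (tG hF 0 b : Sz F m) ∣ 2 := orderOf_dvd_of_pow_eq_one (by rw [pow_two, central_sq])
    rw [h2] at h3
    norm_num at h3
  · obtain ⟨c, hc⟩ := hV.isTorus hm hF
    have hyV' : y ∈ V := hyV
    have h1 := orderOf_dvd_natCard (⟨y, hyV'⟩ : V)
    rw [← Subgroup.orderOf_coe] at h1
    change orderOf y ∣ _ at h1
    rw [h4] at h1
    apply hc.odd
    exact (show 2 ∣ 4 by norm_num).trans h1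

/-- an involution normalising the diagonal subgroup swaps the two points -/
theorem swap_form (hm : 1 ≤ m) (hF : Fintype.card F = 2 ^ (2 * m + 1)) {u : Sz F m} (hu2 : orderOf u = 2) {l : Fˣ}
    (hl : l ≠ 1) (hu' : u⁻¹ * dG hF l * u ∈ HH (m := m) hF) :
    ∃ μ : Fˣ, u = wG hF * dG hF μ := by
  obtain ⟨l', hl'⟩ := hu'
  have hl1 : l' ≠ 1 := by
    rintro rfl
    rw [map_one] at hl'
    apply hl
    apply dG_inj (m := m) hF
    rw [map_one]
    have : dG hF l = u * (u⁻¹ * dG hF l * u) * u⁻¹ := by group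
    rw [this, ← hl']; group
  have e1 : (dG hF l : Sz F m) * u = u * dG hF l' := by rw [hl']; group
  have e1' : D m l * (u : SL F) = (u : SL F) * D m l' := congrArg Subtype.val e1
  have hz : ∀ k : Fˣ, D m k • pnt m (0 : F) 0 = pnt m 0 0 := by
    intro k
    rw [D_smul_pnt hF]; simp
  have hfix : ∀ p ∈ suzukiOvoid F m, (D m l' • p = p) → (u : SL F) • p = suzukiPointInfinity F ∨ (u : SL F) • p = pnt m 0 0 := by
    intro p hp h
    apply eq_of_D_fix hF hl (smul_mem u.2 hp)
    rw [← mul_smul, e1', mul_smul, h]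
  have huu : (u : SL F) * (u : SL F) = 1 := by
    have : u * u = 1 := by rw [← pow_two, ← hu2, pow_orderOf_eq_one]
    exact congrArg Subtype.val this
  have hswap : (u : SL F) • suzukiPointInfinity F = pnt m 0 0 := by
    rcases hfix _ (inf_mem m) (D_smul_inf _) with h | h
    · exfalso
      rcases hfix _ (pnt_mem m 0 0) (hz l') with h' | h'
      · exact pnt_ne_inf (m := m) (0 : F) 0 (MulAction.injective (u : SL F) (h'.trans h.symm))
      · obtain ⟨ν, hν⟩ := eq_D_of_fix hF hm u.2 h h'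
        have hT := HH_isTorus hm hF
        exact hT.not_mem hu2 ⟨ν, Subtype.ext hν.symm⟩
    · exact h
  have hswap2 : (u : SL F) • pnt m (0 : F) 0 = suzukiPointInfinity F := by
    rw [← hswap, ← mul_smul, huu, one_smul]
  obtain ⟨ν, hν⟩ := eq_D_of_fix hF hm (wG hF * u).2 (by
    change (W F * (u : SL F)) • suzukiPointInfinity F = _
    rw [mul_smul, hswap, W_smul_zero]) (by
    change (W F * (u : SL F)) • pnt m (0 : F) 0 = _
    rw [mul_smul, hswap2, W_smul_inf (m := m)])
  refine ⟨ν, ?_⟩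
  have : wG hF * u = dG hF ν := Subtype.ext hν
  rw [← this, ← mul_assoc, wG_mul, one_mul]

/-- the final identification -/
theorem good_of_count (hm : 1 ≤ m) (hF : Fintype.card F = 2 ^ (2 * m + 1)) [CharP F 2] [Fact (Nat.Prime 2)]
    {M : Subgroup (Sz F m)} (hT : M ≠ ⊤) {n : ℕ} (hn : 3 ≤ n) (hdvd : n ∣ 2 * m + 1)
    (hTr : ∀ a b, tG hF a b ∈ M ↔ a ∈ subF F 2 n ∧ b ∈ subF F 2 n) (hL : ∀ l : Fˣ, dG hF l ∈ M ↔ (l : F) ∈ subF F 2 n)
    (hw : wG hF ∈ M) (hcard : Nat.card M = (2 ^ n) ^ 2 * (2 ^ n - 1) * (1 + (2 ^ n) ^ 2)) : Good hF M := by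
  right; right
  obtain ⟨k, rfl⟩ : ∃ k, n = 2 * k + 1 := by
    rcases Nat.even_or_odd' n with ⟨k, hk | hk⟩
    · exfalso
      obtain ⟨c, hc⟩ := hdvd
      rw [hk] at hc
      have : 2 * k * c = 2 * (k * c) := by ring
      omega
    · exact ⟨k, hk⟩
  have hk1 : 1 ≤ k := by omega
  have hkm : k ≤ m := by
    have := Nat.le_of_dvd (by omega) hdvd
    omega
  let K := GaloisField 2 (2 * k + 1)
  have hKfin : Fintype K := Fintype.ofFinite K
  have hK : Fintype.card K = 2 ^ (2 * k + 1) := by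
    rw [← Nat.card_eq_fintype_card]
    exact GaloisField.card 2 _ (by omega)
  have hι : Nonempty (K →+* F) := by
    classical
    have h1 : Nat.card (subF F 2 (2 * k + 1)) = 2 ^ (2 * k + 1) := card_subF hF (by omega) hdvd
    have h2 : Fintype.card K = Fintype.card (subF F 2 (2 * k + 1)) := by
      rw [hK, ← h1, Nat.card_eq_fintype_card]
    exact ⟨(subF F 2 (2 * k + 1)).subtype.comp (FiniteField.ringEquivOfCardEq h2 : K ≃+* _).toRingHom⟩
  obtain ⟨ι⟩ := hι
  have hιm : ∀ x : K, ι x ∈ subF F 2 (2 * k + 1) := by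
    intro x
    rw [mem_subF, ← map_pow, ← hK, FiniteField.pow_card]
  have hle : (mapSz hk1 hF hK hdvd ι).range ≤ M := by
    rintro _ ⟨g, rfl⟩
    have hTm : ∀ a b, mapSz hk1 hF hK hdvd ι (tG hK a b) ∈ M := by
      intro a b
      rw [mapSz_tG, hTr]
      exact ⟨hιm a, hιm b⟩
    have hDm : ∀ l, mapSz hk1 hF hK hdvd ι (dG hK l) ∈ M := by
      intro l
      rw [mapSz_dG, hL]
      exact hιm l
    have hWm : mapSz hk1 hF hK hdvd ι (wG hK) ∈ M := by
      rw [mapSz_wG]; exact hw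
    rcases bruhat hK hk1 g.2 with ⟨a, b, l, h⟩ | ⟨x, y, a, b, l, h⟩
    · have h1 : g = tG hK a b * dG hK l := Subtype.ext h
      rw [h1, map_mul]
      exact M.mul_mem (hTm _ _) (hDm _)
    · have h1 : g = tG hK x y * wG hK * (tG hK a b * dG hK l) := Subtype.ext h
      rw [h1, map_mul, map_mul, map_mul]
      exact M.mul_mem (M.mul_mem (hTm _ _) hWm) (M.mul_mem (hTm _ _) (hDm _))
  have hcr : Nat.card (mapSz hk1 hF hK hdvd ι).range = Nat.card (Sz K k) :=
    Nat.card_congr (MonoidHom.ofInjective (mapSz_inj hk1 hF hK hdvd ι)).toEquiv.symm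
  have heq : (mapSz hk1 hF hK hdvd ι).range = M := by
    apply Subgroup.eq_of_le_of_card_ge hle
    rw [hcr, card_Sz hk1 hK, hcard]
    apply le_of_eq
    ring
  refine ⟨k, hk1, ?_, hdvd, M, ⟨?_⟩, le_refl _⟩
  · rcases Nat.lt_or_ge k m with h | h
    · exact h
    · exfalso
      have hkm' : k = m := by omega
      subst hkm'
      apply hT
      apply Subgroup.eq_top_of_card_eq
      rw [hcard, card_Sz hm hF]
      ring
  · rw [← heq]
    exact (MonoidHom.ofInjective (mapSz_inj hk1 hF hK hdvd ι)).symm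

theorem good_main (hm : 1 ≤ m) (hF : Fintype.card F = 2 ^ (2 * m + 1)) {M : Subgroup (Sz F m)} (hN : Nrm hF M)
    (hI : ¬ M ≤ Ginf F m) (hT : M ≠ ⊤) : Good hF M := by
  classical
  have hfact : Fact (Nat.Prime 2) := ⟨Nat.prime_two⟩
  have hchar := charP_two hF
  obtain ⟨n, hn1, hdvd, hE, hL⟩ := field_struct hm hF hN hI
  by_cases hn : n = 1
  · subst hn
    exact good_of_solvable hm hF (solvable_of_one hm hF hN hE)
  have hn3 : 3 ≤ n := by
    have h2 : n ≠ 2 := by
      rintro rfl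
      omega
    omega
  -- Q
  obtain ⟨Q, hQdef⟩ : ∃ Q, Q = 2 ^ n := ⟨_, rfl⟩
  have hQ8 : 8 ≤ Q := by
    rw [hQdef]
    calc 8 = 2 ^ 3 := by norm_num
      _ ≤ 2 ^ n := Nat.pow_le_pow_right (by norm_num) hn3
  have hcK : Nat.card (subF F 2 n) = Q := by rw [hQdef]; exact card_subF hF hn1 hdvd
  have hex : ∃ t ∈ subF F 2 n, t ≠ 0 ∧ t ≠ 1 := by
    by_contra hcon
    push Not at hcon
    have hsub : ((subF F 2 n : Subfield F) : Set F) ⊆ {0, 1} := by
      intro t ht
      by_cases h0 : t = 0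
      · exact Or.inl h0
      · exact Or.inr (hcon t ht h0)
    have h1 := Set.ncard_le_ncard hsub (Set.toFinite _)
    have h2 : ({0, 1} : Set F).ncard ≤ 2 := by
      rw [Set.ncard_pair zero_ne_one]
    have h3 : ((subF F 2 n : Subfield F) : Set F).ncard = Q := by
      rw [← Nat.card_coe_set_eq]; exact hcK
    omega
  obtain ⟨t, htK, ht0, ht1⟩ := hex
  have htt : t + th m t ≠ 0 := by
    intro h
    have two := two_eq_zero hF
    rcases fix_th hF (m := m) (t := t) (by linear_combination h - t * two) with h1 | h1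
    · exact ht0 h1
    · exact ht1 h1
  -- HM class
  have hl1 : (Units.mk0 t ht0 : Fˣ) ≠ 1 := fun h => ht1 (congrArg Units.val h)
  have hlM : (dG hF (Units.mk0 t ht0) : Sz F m) ∈ M := (hL _).2 htK
  have hlne : (⟨dG hF (Units.mk0 t ht0), hlM⟩ : M) ≠ 1 := by
    intro h
    apply hl1
    apply dG_inj (m := m) hF
    rw [map_one]
    exact congrArg Subtype.val h
  have hcompH : Comp hF (HH (m := m) hF) := Or.inl ⟨1, cj_one.symm⟩
  obtain ⟨n1, hcls⟩ := exists_cls hm hF hcompH hlne ⟨_, rfl⟩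
  have hn12 : n1 = 1 ∨ n1 = 2 := by
    obtain ⟨n', -, hn'd, -, -, hnorm⟩ := tor_data (M := M) (HH_isTorus hm hF)
      ⟨dG hF (Units.mk0 t ht0), ⟨_, rfl⟩, hlM, fun h => hlne (Subtype.ext h)⟩
    have h1 := hcls.norm
    rw [hnorm] at h1
    have h2 := Nat.eq_of_mul_eq_mul_right (Nat.card_pos (α := (HH (m := m) hF).subgroupOf M)) h1
    rw [h2] at hn'd
    exact (Nat.dvd_prime Nat.prime_two).1 hn'd
  have hHc : Nat.card (HM hF M) = Q - 1 := by rw [hQdef]; exact card_HM hF hn1 hdvd hL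
  obtain ⟨f, hf1, hMcard, hoff⟩ := index_B hF hI
  have hBc := card_B hF hN
  have hclS := card_cl_SM hm hF hN
  -- common numbers
  have key : ∀ s, Nat.card (SM hF M) = s → 1 ≤ s → Nat.card M = s * (Q - 1) * (1 + s * f) ∧
      (cl (SM hF M)).ncard = (1 + s * f) * (s - 1) := by
    intro s hs hs1
    rw [hs, hHc] at hBc
    rw [hs] at hMcard hclS
    rw [hBc] at hMcard hclS
    refine ⟨hMcard, ?_⟩
    rw [hMcard] at hclS
    have hpos : 0 < s * (Q - 1) := Nat.mul_pos (by omega) (by omega)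
    have : (cl (SM hF M)).ncard * (s * (Q - 1)) = ((1 + s * f) * (s - 1)) * (s * (Q - 1)) := by
      rw [hclS]; ring
    exact Nat.eq_of_mul_eq_mul_right hpos this
  have hQi : (8 : ℤ) ≤ Q := by exact_mod_cast hQ8
  rcases trans_cases hF hE hL ⟨t, htK, htt⟩ with hTr | hTr
  · -- case I
    exfalso
    have hsc : Nat.card (SM hF M) = Q := by
      rw [← hcK]
      symm
      apply Nat.card_congr
      refine Equiv.ofBijective (fun b : subF F 2 n => (⟨⟨tG hF 0 b, (hTr _ _).2 ⟨rfl, b.2⟩⟩, ⟨0, b, rfl⟩⟩ : SM hF M)) ⟨?_, ?_⟩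
      · intro b b' h
        have h1 := congrArg (fun w : SM hF M => ((w : M) : Sz F m)) h
        exact Subtype.ext (tG_inj hF h1).2
      · rintro ⟨⟨g, hg⟩, hg2⟩
        obtain ⟨a, b, rfl⟩ := Subgroup.mem_subgroupOf.1 hg2
        obtain ⟨ha, hb⟩ := (hTr _ _).1 hg
        subst ha
        exact ⟨⟨b, hb⟩, rfl⟩
    obtain ⟨hMc, hcS⟩ := key Q hsc (by omega)
    obtain ⟨hn1', halt⟩ := class_eq hm hF hN hcls hn12 hQ8 hHc hsc (Or.inl rfl) hf1 hMc hcS
    subst hn1'
    have hHi := hcls.int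
    rw [show Nat.card ((HH (m := m) hF).subgroupOf M) = Q - 1 from hHc, Nat.cast_sub (show 1 ≤ Q by omega), Nat.cast_one] at hHi
    push_cast at hHi
    have hgz : (Nat.card M : ℤ) = Q * (Q - 1) * (1 + Q * f) := by
      rw [hMc]; push_cast [Nat.cast_sub (show 1 ≤ Q by omega)]; ring
    have hSz : ((cl (SM hF M)).ncard : ℤ) = (1 + Q * f) * (Q - 1) := by
      rw [hcS]; push_cast [Nat.cast_sub (show 1 ≤ Q by omega)]; ring
    rcases halt with ⟨U, hU, hsum⟩ | ⟨U, V, hU, hV, -⟩
    · have hUi := hU.int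
      push_cast at hUi
      have hsum' : 1 + ((cl (SM hF M)).ncard : ℤ) + (cl (HM hF M)).ncard + (cl U).ncard = Nat.card M := by exact_mod_cast hsum
      have hQe : (2 : ℤ) ∣ Q := by
        have : 2 ∣ Q := by rw [hQdef]; exact dvd_pow_self 2 (by omega)
        exact_mod_cast this
      have hX : (Q : ℤ) + 1 ≤ 1 + Q * f := by
        have : (Q : ℤ) * 1 ≤ Q * f := mul_le_mul_of_nonneg_left (by exact_mod_cast hf1) (by omega)
        omega
      have ha := caseA (Q := Q) (X := 1 + Q * f) (a := Nat.card U) (cS := (cl (SM hF M)).ncard) (cH := (cl (HM hF M)).ncard)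
        (c := (cl U).ncard) (g := Nat.card M) hQi hQe hX (by exact_mod_cast hU.five) hgz hSz (by linear_combination hHi) (by linear_combination hUi) hsum'
      have ha' : Nat.card U = Q + 1 := by exact_mod_cast ha
      apply hU.three
      rw [ha', hQdef]
      obtain ⟨j, hj⟩ : ∃ j, n = 2 * j + 1 := by
        rcases Nat.even_or_odd' n with ⟨j, hj | hj⟩
        · exfalso
          obtain ⟨c, hc⟩ := hdvd
          rw [hj] at hc
          have : 2 * j * c = 2 * (j * c) := by ring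
          omega
        · exact ⟨j, hj⟩
      rw [hj]
      have : (2 ^ (2 * j + 1) + 1) % 3 = 0 := by
        rw [pow_succ, pow_mul, Nat.add_mod, Nat.mul_mod, Nat.pow_mod]
        norm_num
      omega
    · rcases hU.cases with h | h | ⟨-, y, hy, hy4⟩
      · omega
      · omega
      · exact no_order_four hm hF hN (fun a b h => ((hTr a b).1 h).1) y hy hy4
  · -- case II
    have hsc : Nat.card (SM hF M) = Q ^ 2 := by
      rw [pow_two]
      nth_rewrite 1 [← hcK]
      rw [← hcK, ← Nat.card_prod]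
      symm
      apply Nat.card_congr
      refine Equiv.ofBijective (fun w : subF F 2 n × subF F 2 n =>
        (⟨⟨tG hF w.1 w.2, (hTr _ _).2 ⟨w.1.2, w.2.2⟩⟩, ⟨w.1, w.2, rfl⟩⟩ : SM hF M)) ⟨?_, ?_⟩
      · intro b b' h
        have h1 := congrArg (fun w : SM hF M => ((w : M) : Sz F m)) h
        have h2 := tG_inj hF h1
        exact Prod.ext (Subtype.ext h2.1) (Subtype.ext h2.2)
      · rintro ⟨⟨g, hg⟩, hg2⟩
        obtain ⟨a, b, rfl⟩ := Subgroup.mem_subgroupOf.1 hg2
        obtain ⟨ha, hb⟩ := (hTr _ _).1 hg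
        exact ⟨(⟨a, ha⟩, ⟨b, hb⟩), rfl⟩
    have hQ21 : 1 ≤ Q ^ 2 := Nat.one_le_pow _ _ (by omega)
    obtain ⟨hMc, hcS⟩ := key (Q ^ 2) hsc hQ21
    obtain ⟨hn1', halt⟩ := class_eq hm hF hN hcls hn12 hQ8 hHc hsc (Or.inr rfl) hf1 hMc hcS
    subst hn1'
    have hHi := hcls.int
    rw [show Nat.card ((HH (m := m) hF).subgroupOf M) = Q - 1 from hHc, Nat.cast_sub (show 1 ≤ Q by omega), Nat.cast_one] at hHi
    push_cast at hHi
    have hgz : (Nat.card M : ℤ) = Q ^ 2 * (Q - 1) * (1 + Q ^ 2 * f) := by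
      rw [hMc]; push_cast [Nat.cast_sub (show 1 ≤ Q by omega)]; ring
    have hSz : ((cl (SM hF M)).ncard : ℤ) = (1 + Q ^ 2 * f) * (Q ^ 2 - 1) := by
      rw [hcS]; push_cast [Nat.cast_sub hQ21]; ring
    have hX : (Q : ℤ) ^ 2 + 1 ≤ 1 + Q ^ 2 * f := by
      have : (Q : ℤ) ^ 2 * 1 ≤ Q ^ 2 * f := mul_le_mul_of_nonneg_left (by exact_mod_cast hf1) (by positivity)
      linarith
    rcases halt with ⟨U, hU, hsum⟩ | ⟨U, V, hU, hV, cUV, cSU, cHU, cSV, cHV, hsum⟩
    · exfalso
      have hUi := hU.int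
      push_cast at hUi
      have hsum' : 1 + ((cl (SM hF M)).ncard : ℤ) + (cl (HM hF M)).ncard + (cl U).ncard = Nat.card M := by exact_mod_cast hsum
      exact caseB (Q := Q) (X := 1 + Q ^ 2 * f) (a := Nat.card U) (cS := (cl (SM hF M)).ncard) (cH := (cl (HM hF M)).ncard)
        (c := (cl U).ncard) (g := Nat.card M) hQi hX (by exact_mod_cast hU.five) hgz hSz (by linear_combination hHi) (by linear_combination hUi) hsum'
    · have hUi := hU.int
      have hVi := hV.int
      push_cast at hUi hVi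
      have hsum' : 1 + ((cl (SM hF M)).ncard : ℤ) + (cl (HM hF M)).ncard + (cl U).ncard + (cl V).ncard = Nat.card M := by
        exact_mod_cast hsum
      -- divisibility
      have hdv : Nat.card U * Nat.card V ∣ 1 + Q ^ 2 * f := by
        have h1 : ∀ W : Subgroup M, Nat.Coprime (Nat.card (SM hF M)) (Nat.card W) → Nat.Coprime (Nat.card (HM hF M)) (Nat.card W) →
            Nat.card W ∣ 1 + Q ^ 2 * f := by
          intro W h1 h2
          have h3 := Subgroup.card_subgroup_dvd_card W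
          rw [hMc] at h3
          have h4 : Nat.Coprime (Nat.card W) (Q ^ 2 * (Q - 1)) := by
            rw [← hsc, ← hHc]
            exact (Nat.Coprime.mul_left h1 h2).symm
          exact h4.dvd_of_dvd_mul_left h3
        exact Nat.Coprime.mul_dvd_of_dvd_of_dvd cUV (h1 U cSU cHU) (h1 V cSV cHV)
      obtain ⟨k, hk⟩ := hdv
      have hQ8' : (8 : ℤ) ∣ Q ^ 2 := by
        have : 8 ∣ Q ^ 2 := by
          rw [hQdef, ← pow_mul, show 8 = 2 ^ 3 by norm_num]
          exact pow_dvd_pow 2 (by omega)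
        exact_mod_cast this
      have hQo : IsCoprime ((Q : ℤ) - 1) 2 := by
        obtain ⟨r, hr⟩ : (2 : ℤ) ∣ Q := by
          have : 2 ∣ Q := by rw [hQdef]; exact dvd_pow_self 2 (by omega)
          exact_mod_cast this
        exact ⟨-1, r, by rw [hr]; ring⟩
      have hf := caseD (Q := Q) (X := 1 + Q ^ 2 * f) (a := Nat.card U) (b := Nat.card V) (k := (k : ℤ)) (f := f)
        (cS := (cl (SM hF M)).ncard) (cH := (cl (HM hF M)).ncard) (c := (cl U).ncard) (d := (cl V).ncard) (g := Nat.card M) hQi hQ8' hQo (by exact_mod_cast hf1) rfl (by exact_mod_cast hU.five) (by exact_mod_cast hV.five)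
        (by intro h; exact hU.odd (by exact_mod_cast h)) (by intro h; exact hV.odd (by exact_mod_cast h))
        (by exact_mod_cast hk) hgz hSz (by linear_combination hHi) (by linear_combination hUi) (by linear_combination hVi) hsum'
      have hf' : f = 1 := by exact_mod_cast hf
      subst hf'
      rw [mul_one] at hMc hoff
      -- the involution
      obtain ⟨u0, hu0⟩ := exists_prime_orderOf_dvd_card' (G := Subgroup.normalizer ((((HH (m := m) hF).subgroupOf M) : Subgroup M) : Set M)) 2 (by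
        rw [hcls.norm]; exact dvd_mul_right 2 _)
      rw [← Subgroup.orderOf_coe, ← Subgroup.orderOf_coe] at hu0
      set u : Sz F m := ((u0 : M) : Sz F m) with hu
      have huM : u ∈ M := (u0 : M).2
      have hconj2 : u⁻¹ * dG hF (Units.mk0 t ht0) * u ∈ HH (m := m) hF := by
        have h1 := (Subgroup.mem_normalizer_iff.1 (Subgroup.inv_mem _ u0.2) ⟨dG hF (Units.mk0 t ht0), hlM⟩).1 ⟨_, rfl⟩
        have h2 : (u0 : M)⁻¹ * ⟨dG hF (Units.mk0 t ht0), hlM⟩ * (u0 : M)⁻¹⁻¹ ∈ (HH (m := m) hF).subgroupOf M := h1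
        rw [inv_inv] at h2
        exact h2
      obtain ⟨μ, hμ⟩ := swap_form hm hF hu0 hl1 hconj2
      have hu' : (u : SL F) = W F * D m μ := by rw [hμ]; rfl
      have huinf : (u : SL F) • suzukiPointInfinity F = pnt m 0 0 := by
        rw [hu', mul_smul, D_smul_inf, W_smul_inf (m := m)]
      have hu0' : (u : SL F) • pnt m (0 : F) 0 = suzukiPointInfinity F := by
        rw [hu', mul_smul, D_smul_pnt hF, mul_zero, mul_zero, W_smul_zero]
      -- the orbit
      let x0 : offInf hF M := ⟨pnt m 0 0, ⟨⟨u, huM⟩, huinf⟩, pnt_ne_inf 0 0⟩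
      have h01 : tG hF 0 1 ∈ M := hN.one
      have hpu : (u : SL F) • pnt m (0 : F) 1 = pnt m ((μ : F)⁻¹) 0 := by
        rw [hu', mul_smul, D_smul_pnt hF, mul_zero, mul_one]
        have f1 : f (F := F) m 0 (μ * th m (μ : F)) = th m (μ : F) * (μ : F) ^ 2 := by
          rw [f_eq, th_zero, th_mul, th_th hF]; ring
        have hμ0 : (μ : F) ≠ 0 := μ.ne_zero
        have hθ : th m (μ : F) ≠ 0 := fun h => hμ0 (th_eq_zero.1 h)
        have f2 : H8.SuzOvoid.f (F := F) m 0 (μ * th m (μ : F)) ≠ 0 := by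
          rw [f1]
          exact mul_ne_zero hθ (pow_ne_zero _ hμ0)
        rw [W_smul_pnt hF f2, f1]
        congr 1
        · field_simp
        · rw [zero_div]
      let x1 : offInf hF M := ⟨pnt m ((μ : F)⁻¹) 0, ⟨⟨u * tG hF 0 1 * u, M.mul_mem (M.mul_mem huM h01) huM⟩, by
        change ((u : SL F) * T m 0 1 * (u : SL F)) • suzukiPointInfinity F = _
        rw [mul_smul, mul_smul, huinf, T_smul_zero hF, hpu]⟩, pnt_ne_inf _ _⟩
      have hsurj : Function.Surjective (fun s : SM hF M => s • x0) := by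
        have hfin : Finite (offInf hF M) := by
          apply Nat.finite_of_card_ne_zero
          rw [hoff, hsc]
          positivity
        have hinj : Function.Injective (fun s : SM hF M => s • x0) := by
          intro s s' h
          have h1 : s'⁻¹ * s ∈ MulAction.stabilizer (SM hF M) x0 := by
            rw [MulAction.mem_stabilizer_iff, mul_smul, inv_smul_eq_iff]
            exact h
          rw [offInf_free, Subgroup.mem_bot, inv_mul_eq_one] at h1
          exact h1.symm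
        exact (Nat.bijective_iff_injective_and_card _).2 ⟨hinj, hoff.symm⟩ |>.2
      obtain ⟨s, hs⟩ := hsurj x1
      have hμK : (μ : F) ∈ subF F 2 n := by
        obtain ⟨⟨g, hg⟩, hg2⟩ := s
        obtain ⟨a, b, rfl⟩ := Subgroup.mem_subgroupOf.1 hg2
        have h1 : T m a b • pnt m (0 : F) 0 = pnt m ((μ : F)⁻¹) 0 := congrArg Subtype.val hs
        rw [T_smul_zero hF] at h1
        have h2 := (pnt_inj h1).1
        have h3 := ((hTr a b).1 hg).1
        rw [h2] at h3
        have := inv_mem h3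
        rwa [inv_inv] at this
      have hwM : wG hF ∈ M := by
        have h1 : wG hF = u * (dG hF μ)⁻¹ := by rw [hμ]; group
        rw [h1]
        exact M.mul_mem huM (M.inv_mem ((hL μ).2 hμK))
      apply good_of_count hm hF hT hn3 hdvd hTr hL hwM
      rw [← hQdef]
      exact hMc

/-- the subgroup theorem -/
theorem good_all (hm : 1 ≤ m) (hF : Fintype.card F = 2 ^ (2 * m + 1)) (M : Subgroup (Sz F m)) (hT : M ≠ ⊤) :
    Good hF M := by
  by_cases h2 : 2 ∣ Nat.card M
  · obtain ⟨g, hg⟩ := exists_nrm hm hF M h2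
    apply Good.of_conj hm hF (g := g)
    by_cases hI : M.map (MulAut.conj g).toMonoidHom ≤ Ginf F m
    · left
      exact ⟨1, by rw [cj_one]; exact hI⟩
    · apply good_main hm hF hg hI
      intro h
      apply hT
      rw [eq_top_iff]
      intro x _
      have h1 : g * x * g⁻¹ ∈ M.map (MulAut.conj g).toMonoidHom := by rw [h]; exact Subgroup.mem_top _
      have h2 := mem_cj.1 h1
      rwa [show g⁻¹ * (g * x * g⁻¹) * g = x by group] at h2
  · exact good_of_solvable hm hF (solvable_of_odd hm hF h2)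

end H42.SuzMax
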