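import Cfsg.Agent.Lib.H42.SuzPart
import Cfsg.Agent.Lib.H42.SolCount

set_option autoImplicit false

/-! Solubilisers in the Suzuki groups. -/

namespace H42.SuzSol

open Cfsg H8.SuzOvoid H8.SuzField H8.SuzMat H8.SuzStab H8.SuzGroup H8.SuzSylow H8.SuzCent H8.SuzSimple H8.TICount H8.SuzTorus
open H42.SuzPart H42.SolCount
open scoped Pointwise

variable {F : Type*} [Field F] [Fintype F] {m : ℕ}

theorem HH_isTorus (hm : 1 ≤ m) (hF : Fintype.card F = 2 ^ (2 * m + 1)) : IsTorus (HH (m := m) hF) 2 where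
  cent := fun _ hu hu1 => centralizer_HH hm hF hu hu1
  odd := by
    rw [card_HH]
    have e1 : 2 ^ (2 * m + 1) = 2 * 2 ^ (2 * m) := by ring
    have e4 : 0 < 2 ^ (2 * m) := by positivity
    omega
  one_lt := by
    rw [card_HH]
    have := q_ge hm
    omega
  hc := Or.inl rfl
  card := by
    have h1 := card_mul_rel (Subgroup.le_normalizer (H := HH (m := m) hF))
    rw [relIndex_HH hm hF] at h1
    rw [← h1, mul_comm]

theorem Tor.conj_of_card (hm : 1 ≤ m) (hF : Fintype.card F = 2 ^ (2 * m + 1)) {U V : Subgroup (Sz F m)} (hU : Tor U)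
    (hV : Tor V) (hcard : Nat.card U = Nat.card V) : ∃ y : Sz F m, U = V.map (MulAut.conj y).toMonoidHom := by
  have hone : Nat.card V ≠ 1 := by
    have := hV.five_le_card
    omega
  obtain ⟨r, hr, hrd⟩ := Nat.exists_prime_and_dvd hone
  have hfact : Fact r.Prime := ⟨hr⟩
  obtain ⟨⟨v, hvV⟩, hv⟩ := exists_prime_orderOf_dvd_card' (G := V) r hrd
  rw [← Subgroup.orderOf_coe] at hv
  replace hv : orderOf v = r := hv
  obtain ⟨hv1, y, hy⟩ := hU.mem_cl hm hF hr (by rw [hcard]; exact hrd) (g := (v : Sz F m)) (by rw [hv])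
  have hc1 := hV.centralizer hm hF hvV hv1
  have hy1 : y * v * y⁻¹ ≠ 1 := by
    intro h
    apply hv1
    have : (v : Sz F m) = y⁻¹ * (y * v * y⁻¹) * y := by group
    rw [this, h]; group
  have hc2 := hU.centralizer hm hF hy hy1
  refine ⟨y, ?_⟩
  have h1 := centralizer_conj (fun u hu hu1 => hV.centralizer hm hF hu hu1) y (y * v * y⁻¹)
    (Subgroup.mem_map.2 ⟨v, hvV, rfl⟩) hy1
  rw [← hc2, ← h1]

theorem isTorus_of_reps (hm : 1 ≤ m) (hF : Fintype.card F = 2 ^ (2 * m + 1)) {A : Subgroup (Sz F m)} (hA : Tor A)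
    (hN : Nat.card (Subgroup.normalizer (A : Set (Sz F m))) = 4 * Nat.card A) : IsTorus A 4 where
  cent := fun u hu hu1 => hA.centralizer hm hF hu hu1
  odd := fun h => ne_two (m := m) Nat.prime_two (hA.dvd_of_prime hm hF Nat.prime_two h) rfl
  one_lt := by
    have := hA.five_le_card
    omega
  hc := Or.inr rfl
  card := hN

theorem Tor.isTorus (hm : 1 ≤ m) (hF : Fintype.card F = 2 ^ (2 * m + 1)) {U : Subgroup (Sz F m)} (hU : Tor U) :
    IsTorus U 4 := by
  obtain ⟨A, B, hA, hB, h1, h2, h3, h4⟩ := exists_tori hm hF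
  rcases H42.SuzPart.Tor.card_cases hm hF hU with h | h
  · obtain ⟨y, rfl⟩ := Tor.conj_of_card hm hF hU hA (by rw [h, h1])
    exact (isTorus_of_reps hm hF hA h3).map_conj y
  · obtain ⟨y, rfl⟩ := Tor.conj_of_card hm hF hU hB (by rw [h, h2])
    exact (isTorus_of_reps hm hF hB h4).map_conj y

theorem isSolvable_stab (hm : 1 ≤ m) (hF : Fintype.card F = 2 ^ (2 * m + 1)) :
    Group.IsSolvable (MulAction.stabilizer (Sz F m) (suzukiPointInfinity F)) := by
  have hfact : Fact (Nat.Prime 2) := ⟨Nat.prime_two⟩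
  have h1 : Group.IsSolvable (TT (m := m) hF) := by
    have := (isPGroup_TT (m := m) hF).isNilpotent
    infer_instance
  apply isSolvable_of_commutator_mem h1
  intro a ha b hb
  obtain ⟨a1, b1, k, hk⟩ := eq_TD_of_fix_inf hF hm a.2 ha
  obtain ⟨a2, b2, l, hl⟩ := eq_TD_of_fix_inf hF hm b.2 hb
  have hh : a = tG hF a1 b1 * dG hF k := Subtype.ext hk
  have hh' : b = tG hF a2 b2 * dG hF l := Subtype.ext hl
  have hconj : ∀ (c d : F) (k : Fˣ), dG (m := m) hF k * tG hF c d * (dG hF k)⁻¹ ∈ TT (m := m) hF := by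
    intro c d k
    rw [dG_conj]; exact ⟨_, _, rfl⟩
  have hinv : ∀ (c d : F) (k : Fˣ), dG (m := m) hF k * (tG hF c d)⁻¹ * (dG hF k)⁻¹ ∈ TT (m := m) hF := by
    intro c d k
    have := (TT (m := m) hF).inv_mem (hconj c d k)
    rwa [show (dG (m := m) hF k * tG hF c d * (dG hF k)⁻¹)⁻¹ = dG (m := m) hF k * (tG hF c d)⁻¹ * (dG hF k)⁻¹ by group] at this
  have hcomm : dG (m := m) hF k * dG hF l = dG hF l * dG hF k := by rw [← map_mul, ← map_mul, mul_comm]
  have e : a * b * a⁻¹ * b⁻¹ = tG hF a1 b1 * (dG hF k * tG hF a2 b2 * (dG hF k)⁻¹) *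
      (dG hF l * (tG hF a1 b1)⁻¹ * (dG hF l)⁻¹) * (tG hF a2 b2)⁻¹ := by
    rw [hh, hh']
    have e1 : dG (m := m) hF k * dG hF l * (dG hF k)⁻¹ = dG hF l := by rw [hcomm]; group
    calc tG hF a1 b1 * dG hF k * (tG hF a2 b2 * dG hF l) * (tG hF a1 b1 * dG hF k)⁻¹ * (tG hF a2 b2 * dG hF l)⁻¹
        = tG hF a1 b1 * (dG hF k * tG hF a2 b2 * (dG hF k)⁻¹) * (dG (m := m) hF k * dG hF l * (dG hF k)⁻¹) *
          (tG hF a1 b1)⁻¹ * (dG hF l)⁻¹ * (tG hF a2 b2)⁻¹ := by group
      _ = _ := by rw [e1]; group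
  rw [e]
  exact Subgroup.mul_mem _ (Subgroup.mul_mem _ (Subgroup.mul_mem _ ⟨_, _, rfl⟩ (hconj _ _ _)) (hinv _ _ _))
    (Subgroup.inv_mem _ ⟨_, _, rfl⟩)

/-- the torus components -/
def Comp (hF : Fintype.card F = 2 ^ (2 * m + 1)) (V : Subgroup (Sz F m)) : Prop :=
  (∃ g : Sz F m, V = (HH (m := m) hF).map (MulAut.conj g).toMonoidHom) ∨ Tor V

theorem Comp.isTorus (hm : 1 ≤ m) (hF : Fintype.card F = 2 ^ (2 * m + 1)) {V : Subgroup (Sz F m)} (hV : Comp hF V) :
    ∃ c, IsTorus V c := by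
  rcases hV with ⟨g, rfl⟩ | hV
  · exact ⟨2, (HH_isTorus hm hF).map_conj g⟩
  · exact ⟨4, Tor.isTorus hm hF hV⟩

theorem sol_iff (hm : 1 ≤ m) (hF : Fintype.card F = 2 ^ (2 * m + 1)) {x y : Sz F m} (hx : x ≠ 1) :
    Group.IsSolvable (Subgroup.closure ({x, y} : Set (Sz F m))) ↔
      (∃ p ∈ suzukiOvoid F m, (x : SL F) • p = p ∧ (y : SL F) • p = p) ∨
      ∃ V : Subgroup (Sz F m), Comp hF V ∧ x ∈ Subgroup.normalizer (V : Set (Sz F m)) ∧
        y ∈ Subgroup.normalizer (V : Set (Sz F m)) := by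
  constructor
  · intro hs
    have hxH : x ∈ Subgroup.closure ({x, y} : Set (Sz F m)) := Subgroup.subset_closure (Or.inl rfl)
    have hyH : y ∈ Subgroup.closure ({x, y} : Set (Sz F m)) := Subgroup.subset_closure (Or.inr rfl)
    obtain ⟨a, haH, ha1, hcomm⟩ := exists_abelian_elem hs ⟨x, hxH, hx⟩
    rcases cases_elem hm hF ha1 with h | h | ⟨r, hr, hd, hrq⟩
    · obtain ⟨-, g, hg⟩ := h
      left
      have key : ∀ h ∈ Subgroup.closure ({x, y} : Set (Sz F m)),
          (h : SL F) • ((g⁻¹ : Sz F m) : SL F) • suzukiPointInfinity F = ((g⁻¹ : Sz F m) : SL F) • suzukiPointInfinity F := by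
        intro h hh
        have hne : g * a * g⁻¹ ≠ 1 := by
          intro h1
          apply ha1
          have : a = g⁻¹ * (g * a * g⁻¹) * g := by group
          rw [this, h1]; group
        obtain ⟨c, d, hcd⟩ := hg
        have h1 : g * (h * a * h⁻¹) * g⁻¹ ∈ TT (m := m) hF := by
          apply mem_TT_of_commute (a := c) (b := d) hm hF
          · rw [← hcd]; exact hne
          · rw [← hcd]
            calc g * (h * a * h⁻¹) * g⁻¹ * (g * a * g⁻¹) = g * (h * a * h⁻¹ * a) * g⁻¹ := by group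
              _ = g * (a * (h * a * h⁻¹)) * g⁻¹ := by rw [hcomm h hh]
              _ = _ := by group
        have h2 := fix_inf_of_conj hF (g := g * h * g⁻¹) (x := g * a * g⁻¹) ⟨c, d, hcd⟩ hne (by
          rw [show g * h * g⁻¹ * (g * a * g⁻¹) * (g * h * g⁻¹)⁻¹ = g * (h * a * h⁻¹) * g⁻¹ by group]
          exact h1)
        have h3 : ((g : SL F) * (h : SL F) * (g : SL F)⁻¹) • suzukiPointInfinity F = suzukiPointInfinity F := h2
        rw [mul_smul, mul_smul] at h3
        have h4 : (h : SL F) • (g : SL F)⁻¹ • suzukiPointInfinity F = (g : SL F)⁻¹ • suzukiPointInfinity F := by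
          rw [eq_inv_smul_iff]; exact h3
        exact h4
      exact ⟨_, smul_mem (g⁻¹).2 (inf_mem m), key x hxH, key y hyH⟩
    · obtain ⟨-, g, hg⟩ := h
      right
      have hV : Comp hF ((HH (m := m) hF).map (MulAut.conj g⁻¹).toMonoidHom) := Or.inl ⟨g⁻¹, rfl⟩
      obtain ⟨c, hc⟩ := hV.isTorus hm hF
      have haV : a ∈ (HH (m := m) hF).map (MulAut.conj g⁻¹).toMonoidHom := Subgroup.mem_map.2 ⟨_, hg, by
          change g⁻¹ * (g * a * g⁻¹) * g⁻¹⁻¹ = a
          group⟩
      have key : ∀ h ∈ Subgroup.closure ({x, y} : Set (Sz F m)),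
          h ∈ Subgroup.normalizer (((HH (m := m) hF).map (MulAut.conj g⁻¹).toMonoidHom : Subgroup (Sz F m)) : Set (Sz F m)) := by
        intro h hh
        apply hc.conj_centralizer_eq haV ha1
        rw [← hc.cent a haV ha1, Subgroup.mem_centralizer_singleton_iff]
        exact hcomm h hh
      exact ⟨_, hV, key x hxH, key y hyH⟩
    · right
      obtain ⟨c, hc⟩ := exists_pow_prime hr hd
      have hT : Tor (Subgroup.centralizer ({a ^ c} : Set (Sz F m))) := ⟨r, hr, hrq, _, hc, rfl⟩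
      have hV : Comp hF (Subgroup.centralizer ({a ^ c} : Set (Sz F m))) := Or.inr hT
      have haV : a ∈ (Subgroup.centralizer ({a ^ c} : Set (Sz F m))) :=
        Subgroup.mem_centralizer_singleton_iff.2 (Commute.self_pow a c).eq
      have hc' := Tor.isTorus hm hF hT
      have key : ∀ h ∈ Subgroup.closure ({x, y} : Set (Sz F m)),
          h ∈ Subgroup.normalizer (((Subgroup.centralizer ({a ^ c} : Set (Sz F m))) : Subgroup (Sz F m)) : Set (Sz F m)) := by
        intro h hh
        apply hc'.conj_centralizer_eq haV ha1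
        rw [← hc'.cent a haV ha1, Subgroup.mem_centralizer_singleton_iff]
        exact hcomm h hh
      exact ⟨_, hV, key x hxH, key y hyH⟩
  · rintro (⟨p, hp, hxp, hyp⟩ | ⟨V, hV, hxV, hyV⟩)
    · rw [← orbit_inf hF] at hp
      obtain ⟨g, rfl⟩ := hp
      have h1 : Subgroup.closure ({x, y} : Set (Sz F m)) ≤
          (MulAction.stabilizer (Sz F m) (suzukiPointInfinity F)).map (MulAut.conj g).toMonoidHom := by
        rw [← MulAction.stabilizer_smul_eq_stabilizer_map_conj, Subgroup.closure_le]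
        rintro w (rfl | rfl)
        · exact hxp
        · exact hyp
      have h2 := isSolvable_stab hm hF
      have h3 : Group.IsSolvable ((MulAction.stabilizer (Sz F m) (suzukiPointInfinity F)).map (MulAut.conj g).toMonoidHom) :=
        Group.isSolvable_of_surjective (f := (Subgroup.equivMapOfInjective (MulAction.stabilizer (Sz F m) (suzukiPointInfinity F)) (MulAut.conj g).toMonoidHom
          (MulAut.conj g).injective).toMonoidHom) (MulEquiv.surjective _)
      exact Group.isSolvable_of_isSolvable_injective (Subgroup.inclusion_injective h1)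
    · obtain ⟨c, hc⟩ := hV.isTorus hm hF
      have h1 : Subgroup.closure ({x, y} : Set (Sz F m)) ≤ Subgroup.normalizer (V : Set (Sz F m)) := by
        rw [Subgroup.closure_le]
        rintro w (rfl | rfl)
        · exact hxV
        · exact hyV
      have h2 := hc.isSolvable
      exact Group.isSolvable_of_isSolvable_injective (Subgroup.inclusion_injective h1)

end H42.SuzSol
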