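import Cfsg.Agent.Lib.H42.SuzSol

set_option autoImplicit false

/-! Solubilisers of 2-elements in the Suzuki groups. -/

namespace H42.SuzSol

open Cfsg H8.SuzOvoid H8.SuzField H8.SuzMat H8.SuzStab H8.SuzGroup H8.SuzSylow H8.SuzCent H8.SuzSimple H8.TICount H8.SuzTorus
open H42.SuzPart H42.SolCount
open scoped Pointwise

variable {F : Type*} [Field F] [Fintype F] {m : ℕ}

/-- the stabiliser of the infinite point -/
abbrev Ginf (F : Type*) [Field F] [Fintype F] (m : ℕ) : Subgroup (Sz F m) :=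
  MulAction.stabilizer (Sz F m) (suzukiPointInfinity F)

theorem TT_le (hm : 1 ≤ m) (hF : Fintype.card F = 2 ^ (2 * m + 1)) : TT (m := m) hF ≤ Ginf F m := by
  rw [Ginf, ← normalizer_TT hm hF]
  exact Subgroup.le_normalizer

theorem cap (hm : 1 ≤ m) (hF : Fintype.card F = 2 ^ (2 * m + 1)) {V : Subgroup (Sz F m)} {c : ℕ} (hV : IsTorus V c)
    {z : Sz F m} (hz : z ∈ TT (m := m) hF) (hz2 : orderOf z = 2) (hzV : z ∈ Subgroup.normalizer (V : Set (Sz F m))) :
    Nat.card (Subgroup.normalizer (V : Set (Sz F m)) ⊓ Ginf F m : Subgroup (Sz F m)) = c := by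
  rw [← hV.card_centralizer hzV hz2]
  congr 2
  have hz1 : z ≠ 1 := by
    rintro rfl
    rw [orderOf_one] at hz2
    omega
  ext g
  rw [Subgroup.mem_inf, Subgroup.mem_inf]
  constructor
  · rintro ⟨hg, hgA⟩
    refine ⟨?_, hg⟩
    have h1 := hV.commutator_mem hzV hg
    have h2 : z * g * z⁻¹ * g⁻¹ ∈ TT (m := m) hF := by
      rw [Ginf, ← normalizer_TT hm hF] at hgA
      have h3 := (Subgroup.mem_normalizer_iff.1 hgA _).1 ((TT (m := m) hF).inv_mem hz)
      have h4 := (TT (m := m) hF).mul_mem hz h3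
      rwa [show z * (g * z⁻¹ * g⁻¹) = z * g * z⁻¹ * g⁻¹ by group] at h4
    have h3 : z * g * z⁻¹ * g⁻¹ = 1 := by
      have e1 := orderOf_dvd_natCard (⟨_, h1⟩ : V)
      have e2 := orderOf_dvd_natCard (⟨_, h2⟩ : TT (m := m) hF)
      rw [← Subgroup.orderOf_coe] at e1 e2
      have e3 : Nat.Coprime (Nat.card V) (Nat.card (TT (m := m) hF)) := by
        rw [card_TT, ← pow_mul]
        exact Nat.Coprime.pow_right _ ((Nat.Prime.coprime_iff_not_dvd Nat.prime_two).2 hV.odd).symm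
      exact orderOf_eq_one_iff.1 (Nat.eq_one_of_dvd_coprimes e3 e1 e2)
    rw [Subgroup.mem_centralizer_singleton_iff]
    rw [mul_inv_eq_one, mul_inv_eq_iff_eq_mul] at h3
    exact h3.symm
  · rintro ⟨hg, hgN⟩
    refine ⟨hgN, ?_⟩
    obtain ⟨a, b, rfl⟩ := hz
    exact TT_le hm hF (mem_TT_of_commute hm hF hz1 (Subgroup.mem_centralizer_singleton_iff.1 hg))

/-- the representatives of the classes of tori -/
theorem exists_reps (hm : 1 ≤ m) (hF : Fintype.card F = 2 ^ (2 * m + 1)) :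
    ∃ R : Fin 3 → Subgroup (Sz F m), (∀ i, IsTorus (R i) (![2, 4, 4] i)) ∧
      (Nat.card (R 0) = 2 ^ (2 * m + 1) - 1 ∧ Nat.card (R 1) = 2 ^ (2 * m + 1) + 2 ^ (m + 1) + 1 ∧
        Nat.card (R 2) = 2 ^ (2 * m + 1) - 2 ^ (m + 1) + 1) ∧
      (∀ i j, Nat.card (R i) = Nat.card (R j) → i = j) ∧
      ∀ V : Subgroup (Sz F m), Comp hF V ↔ ∃ i, ∃ g : Sz F m, V = (R i).map (MulAut.conj g).toMonoidHom := by
  obtain ⟨A, B, hA, hB, h1, h2, h3, h4⟩ := exists_tori hm hF
  have hr := r_lt hm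
  have hq := q_ge hm
  have hr4 : 4 ≤ 2 ^ (m + 1) := by
    calc 4 = 2 ^ 2 := by norm_num
      _ ≤ 2 ^ (m + 1) := Nat.pow_le_pow_right (by norm_num) (by omega)
  refine ⟨![HH (m := m) hF, A, B], ?_, ⟨card_HH hF, h1, h2⟩, ?_, ?_⟩
  · intro i
    fin_cases i
    · exact HH_isTorus hm hF
    · exact isTorus_of_reps hm hF hA h3
    · exact isTorus_of_reps hm hF hB h4
  · have e0 : Nat.card ((![HH (m := m) hF, A, B] : Fin 3 → Subgroup (Sz F m)) 0) = 2 ^ (2 * m + 1) - 1 := card_HH hF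
    have e1 : Nat.card ((![HH (m := m) hF, A, B] : Fin 3 → Subgroup (Sz F m)) 1) = 2 ^ (2 * m + 1) + 2 ^ (m + 1) + 1 := h1
    have e2 : Nat.card ((![HH (m := m) hF, A, B] : Fin 3 → Subgroup (Sz F m)) 2) = 2 ^ (2 * m + 1) - 2 ^ (m + 1) + 1 := h2
    intro i j h
    fin_cases i <;> fin_cases j
    · rfl
    · exfalso
      change Nat.card ((![HH (m := m) hF, A, B] : Fin 3 → Subgroup (Sz F m)) 0) = Nat.card ((![HH (m := m) hF, A, B] : Fin 3 → Subgroup (Sz F m)) 1) at h
      rw [e0, e1] at h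
      omega
    · exfalso
      change Nat.card ((![HH (m := m) hF, A, B] : Fin 3 → Subgroup (Sz F m)) 0) = Nat.card ((![HH (m := m) hF, A, B] : Fin 3 → Subgroup (Sz F m)) 2) at h
      rw [e0, e2] at h
      omega
    · exfalso
      change Nat.card ((![HH (m := m) hF, A, B] : Fin 3 → Subgroup (Sz F m)) 1) = Nat.card ((![HH (m := m) hF, A, B] : Fin 3 → Subgroup (Sz F m)) 0) at h
      rw [e0, e1] at h
      omega
    · rfl
    · exfalso
      change Nat.card ((![HH (m := m) hF, A, B] : Fin 3 → Subgroup (Sz F m)) 1) = Nat.card ((![HH (m := m) hF, A, B] : Fin 3 → Subgroup (Sz F m)) 2) at h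
      rw [e1, e2] at h
      omega
    · exfalso
      change Nat.card ((![HH (m := m) hF, A, B] : Fin 3 → Subgroup (Sz F m)) 2) = Nat.card ((![HH (m := m) hF, A, B] : Fin 3 → Subgroup (Sz F m)) 0) at h
      rw [e0, e2] at h
      omega
    · exfalso
      change Nat.card ((![HH (m := m) hF, A, B] : Fin 3 → Subgroup (Sz F m)) 2) = Nat.card ((![HH (m := m) hF, A, B] : Fin 3 → Subgroup (Sz F m)) 1) at h
      rw [e1, e2] at h
      omega
    · rfl
  · intro V
    constructor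
    · rintro (⟨g, rfl⟩ | hT)
      · exact ⟨0, g, rfl⟩
      · rcases H42.SuzPart.Tor.card_cases hm hF hT with h | h
        · obtain ⟨y, hy⟩ := Tor.conj_of_card hm hF hT hA (by rw [h, h1])
          exact ⟨1, y, hy⟩
        · obtain ⟨y, hy⟩ := Tor.conj_of_card hm hF hT hB (by rw [h, h2])
          exact ⟨2, y, hy⟩
    · have key : ∀ {A : Subgroup (Sz F m)}, Tor A → ∀ g : Sz F m, Tor (A.map (MulAut.conj g).toMonoidHom) := by
        rintro A ⟨p, hp, hpq, x, hx, rfl⟩ g
        refine ⟨p, hp, hpq, g * x * g⁻¹, by rw [orderOf_conj', hx], ?_⟩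
        ext w
        rw [Subgroup.mem_map, Subgroup.mem_centralizer_singleton_iff]
        constructor
        · rintro ⟨v, hv, rfl⟩
          rw [Subgroup.mem_centralizer_singleton_iff] at hv
          change g * v * g⁻¹ * (g * x * g⁻¹) = g * x * g⁻¹ * (g * v * g⁻¹)
          calc g * v * g⁻¹ * (g * x * g⁻¹) = g * (v * x) * g⁻¹ := by group
            _ = g * (x * v) * g⁻¹ := by rw [hv]
            _ = _ := by group
        · intro h
          refine ⟨g⁻¹ * w * g, ?_, ?_⟩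
          · rw [Subgroup.mem_centralizer_singleton_iff]
            calc g⁻¹ * w * g * x = g⁻¹ * (w * (g * x * g⁻¹)) * g := by group
              _ = g⁻¹ * (g * x * g⁻¹ * w) * g := by rw [h]
              _ = _ := by group
          · change g * (g⁻¹ * w * g) * g⁻¹ = w
            group
      rintro ⟨i, g, rfl⟩
      fin_cases i
      · exact Or.inl ⟨g, rfl⟩
      · exact Or.inr (key hA g)
      · exact Or.inr (key hB g)

/-- the count for a non-trivial element of `TT` -/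
theorem card_sol_TT (hm : 1 ≤ m) (hF : Fintype.card F = 2 ^ (2 * m + 1)) {R : Fin 3 → Subgroup (Sz F m)}
    (hR : ∀ i, IsTorus (R i) (![2, 4, 4] i)) (hne : ∀ i j, Nat.card (R i) = Nat.card (R j) → i = j)
    (hComp : ∀ V : Subgroup (Sz F m), Comp hF V ↔ ∃ i, ∃ g : Sz F m, V = (R i).map (MulAut.conj g).toMonoidHom)
    {x : Sz F m} (hx : x ∈ TT (m := m) hF) (hx1 : x ≠ 1) (hz : ∃ k : ℕ, orderOf (x ^ k) = 2) :
    Nat.card {y : Sz F m // Group.IsSolvable (Subgroup.closure ({x, y} : Set (Sz F m)))} =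
      (2 ^ (2 * m + 1)) ^ 2 * (2 ^ (2 * m + 1) - 1) +
      ∑ i, Nat.card {V : Subgroup (Sz F m) // (∃ g, V = (R i).map (MulAut.conj g).toMonoidHom) ∧
        x ∈ Subgroup.normalizer (V : Set (Sz F m))} * (![2, 4, 4] i * (Nat.card (R i) - 1)) := by
  have hcx : ∀ y, x * y = y * x → y ∈ Ginf F m := by
    intro y hy
    obtain ⟨a, b, rfl⟩ := hx
    exact TT_le hm hF (mem_TT_of_commute hm hF hx1 hy.symm)
  have h1 := card_union R ![2, 4, 4] hR hne (Ginf F m) x hcx (by
    intro i V hV hxV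
    obtain ⟨k, hk⟩ := hz
    have hT : IsTorus V (![2, 4, 4] i) := by
      obtain ⟨g, rfl⟩ := hV
      exact (hR i).map_conj g
    exact cap hm hF hT (Subgroup.pow_mem _ hx k) hk (Subgroup.pow_mem _ hxV k))
  rw [card_stab hm hF] at h1
  rw [← h1]
  apply Nat.card_congr
  refine Equiv.subtypeEquivRight ?_
  intro y
  rw [sol_iff hm hF hx1]
  constructor
  · rintro (⟨p, hp, hxp, hyp⟩ | ⟨V, hV, hxV, hyV⟩)
    · left
      obtain ⟨a, b, rfl⟩ := hx
      have hp2 := eq_inf_of_T_fix hF hx1 hp hxp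
      rw [hp2] at hyp
      exact hyp
    · right
      obtain ⟨i, hi⟩ := (hComp V).1 hV
      exact ⟨i, V, hi, hxV, hyV⟩
  · rintro (hy | ⟨i, V, hV, hxV, hyV⟩)
    · left
      exact ⟨_, inf_mem m, TT_le hm hF hx, hy⟩
    · right
      exact ⟨V, (hComp V).2 ⟨i, hV⟩, hxV, hyV⟩

/-- involutions -/
theorem card_sol_involution (hm : 1 ≤ m) (hF : Fintype.card F = 2 ^ (2 * m + 1)) {x : Sz F m} (hx : x ∈ TT (m := m) hF)
    (hx2 : orderOf x = 2) :
    Nat.card {y : Sz F m // Group.IsSolvable (Subgroup.closure ({x, y} : Set (Sz F m)))} =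
      (2 ^ (2 * m + 1)) ^ 2 * (4 * 2 ^ (2 * m + 1) - 3) := by
  obtain ⟨R, hR, ⟨c0, c1, c2⟩, hne, hComp⟩ := exists_reps hm hF
  have hx1 : x ≠ 1 := by
    rintro rfl
    rw [orderOf_one] at hx2
    omega
  rw [card_sol_TT hm hF hR hne hComp hx hx1 ⟨1, by rw [pow_one, hx2]⟩]
  -- centraliser
  have hcent : Subgroup.centralizer ({x} : Set (Sz F m)) = TT (m := m) hF := by
    obtain ⟨a, b, rfl⟩ := hx
    have h1 : (tG hF a b : Sz F m) ^ 2 = 1 := by rw [← hx2, pow_orderOf_eq_one]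
    rw [tG_sq, ← tG_one hF] at h1
    have h2 := (tG_inj hF h1).2
    have ha : a = 0 := by
      rcases mul_eq_zero.1 h2 with h | h
      · exact th_eq_zero.1 h
      · exact h
    subst ha
    ext g
    rw [Subgroup.mem_centralizer_singleton_iff]
    constructor
    · intro h
      exact mem_TT_of_commute hm hF hx1 h
    · rintro ⟨c, d, rfl⟩
      rw [tG_mul, tG_mul, th_zero]
      congr 1
      · ring
      · ring
  have hn : ∀ i, Nat.card {V : Subgroup (Sz F m) // (∃ g, V = (R i).map (MulAut.conj g).toMonoidHom) ∧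
        x ∈ Subgroup.normalizer (V : Set (Sz F m))} * (![2, 4, 4] i) = (2 ^ (2 * m + 1)) ^ 2 := by
    intro i
    have h1 := count_normalizers (R i) x
    rw [hcent, card_TT, (hR i).card] at h1
    obtain ⟨z, hz, hz2⟩ := (hR i).exists_involution
    have h2 : Nat.card {y : Sz F m // IsConj x y ∧ y ∈ Subgroup.normalizer ((R i : Subgroup (Sz F m)) : Set (Sz F m))} = Nat.card (R i) := by
      rw [← (hR i).card_involutions hz hz2]
      apply Nat.card_congr
      refine Equiv.subtypeEquivRight ?_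
      intro y
      constructor
      · rintro ⟨h3, h4⟩
        refine ⟨h4, ?_⟩
        obtain ⟨d, hd⟩ := isConj_iff.1 h3
        rw [← hd, orderOf_conj', hx2]
      · rintro ⟨h3, h4⟩
        exact ⟨isConj_involutions hm hF hx2 h4, h3⟩
    rw [h2, ← mul_assoc] at h1
    exact Nat.eq_of_mul_eq_mul_right (Nat.card_pos (α := R i)) h1
  have hs : ∀ i, Nat.card {V : Subgroup (Sz F m) // (∃ g, V = (R i).map (MulAut.conj g).toMonoidHom) ∧
        x ∈ Subgroup.normalizer (V : Set (Sz F m))} * (![2, 4, 4] i * (Nat.card (R i) - 1)) =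
        (2 ^ (2 * m + 1)) ^ 2 * (Nat.card (R i) - 1) := by
    intro i
    rw [← mul_assoc, hn]
  rw [Finset.sum_congr rfl (fun i _ => hs i), Fin.sum_univ_three, c0, c1, c2, ← mul_add, ← mul_add, ← mul_add]
  congr 1
  have hr := r_lt hm
  have hq := q_ge hm
  omega

end H42.SuzSol
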