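import Cfsg.Agent.Lib.H42.SuzPart
import Cfsg.Agent.Lib.H42.SubF

set_option autoImplicit false

/-! Subfield subgroups of the Suzuki groups. -/

namespace H42.SuzSub

open Cfsg H8.SuzOvoid H8.SuzField H8.SuzMat H8.SuzStab H8.SuzGroup H8.SuzSylow H8.SuzCent H8.SuzSimple H8.TICount H8.SuzTorus
open H42.SuzPart
open scoped Pointwise

variable {F : Type*} [Field F] [Fintype F] {m : ℕ} {K : Type*} [Field K] [Fintype K] {k : ℕ}

theorem pow_compat (hK : Fintype.card K = 2 ^ (2 * k + 1)) (hdiv : 2 * k + 1 ∣ 2 * m + 1) (x : K) :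
    x ^ 2 ^ m = x ^ 2 ^ k := by
  obtain ⟨c, hc⟩ := hdiv
  obtain ⟨j, rfl⟩ : ∃ j, c = 2 * j + 1 := by
    rcases Nat.even_or_odd' c with ⟨j, hj | hj⟩
    · exfalso
      rw [hj] at hc
      have : (2 * k + 1) * (2 * j) = 2 * ((2 * k + 1) * j) := by ring
      omega
    · exact ⟨j, hj⟩
  have h1 : m = k + (2 * k + 1) * j := by
    have : (2 * k + 1) * (2 * j + 1) = 2 * ((2 * k + 1) * j) + (2 * k + 1) := by ring
    omega
  rw [h1, pow_add, pow_mul 2, ← hK, pow_mul, FiniteField.pow_card_pow]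

theorem pow_compat' (hK : Fintype.card K = 2 ^ (2 * k + 1)) (hdiv : 2 * k + 1 ∣ 2 * m + 1) (x : K) :
    x ^ 2 ^ (m + 1) = x ^ 2 ^ (k + 1) := by
  rw [pow_succ, pow_mul, pow_compat hK hdiv, ← pow_mul, ← pow_succ]

theorem map_th (hK : Fintype.card K = 2 ^ (2 * k + 1)) (hdiv : 2 * k + 1 ∣ 2 * m + 1) (ι : K →+* F) (x : K) :
    ι (th k x) = th m (ι x) := by
  rw [th, th, ← map_pow, pow_compat' hK hdiv]

theorem map_f (hK : Fintype.card K = 2 ^ (2 * k + 1)) (hdiv : 2 * k + 1 ∣ 2 * m + 1) (ι : K →+* F) (x y : K) :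
    ι (f k x y) = f m (ι x) (ι y) := by
  rw [f_eq, f_eq, map_add, map_add, map_mul, map_mul, map_pow, map_th hK hdiv, map_th hK hdiv]

/-- the map on special linear groups -/
abbrev mapSL (ι : K →+* F) : SL K →* SL F := Matrix.SpecialLinearGroup.map ι

theorem map_T (hK : Fintype.card K = 2 ^ (2 * k + 1)) (hdiv : 2 * k + 1 ∣ 2 * m + 1) (ι : K →+* F) (a b : K) :
    mapSL ι (T k a b) = T m (ι a) (ι b) := by
  apply Subtype.ext
  change (Tm k a b).map ι = Tm m (ι a) (ι b)
  ext i j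
  fin_cases i <;> fin_cases j <;> simp [Tm, map_th hK hdiv, map_f hK hdiv]

theorem map_D (hK : Fintype.card K = 2 ^ (2 * k + 1)) (hdiv : 2 * k + 1 ∣ 2 * m + 1) (ι : K →+* F) (l : Kˣ) :
    mapSL ι (D k l) = D m (Units.map (ι : K →* F) l) := by
  apply Subtype.ext
  change (Dm k (l : K)).map ι = Dm m (ι l)
  have h1 : ι (l : K) ^ 2 ^ m = ι ((l : K) ^ 2 ^ k) := by rw [← map_pow, pow_compat hK hdiv]
  have h2 : ι (l : K) ^ (2 ^ m + 1) = ι ((l : K) ^ (2 ^ k + 1)) := by rw [pow_succ, h1, pow_succ, map_mul]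
  ext i j
  fin_cases i <;> fin_cases j <;> simp [Dm, h1, h2]

theorem map_W (ι : K →+* F) : mapSL ι (W K) = W F := by
  apply Subtype.ext
  change (Wm K).map ι = Wm F
  ext i j
  fin_cases i <;> fin_cases j <;> simp [Wm, suzukiForm]

theorem map_mem (hk : 1 ≤ k) (hF : Fintype.card F = 2 ^ (2 * m + 1)) (hK : Fintype.card K = 2 ^ (2 * k + 1))
    (hdiv : 2 * k + 1 ∣ 2 * m + 1) (ι : K →+* F) {g : SL K} (hg : g ∈ Sz K k) : mapSL ι g ∈ Sz F m := by
  rcases bruhat hK hk hg with ⟨a, b, l, rfl⟩ | ⟨x, y, a, b, l, rfl⟩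
  · rw [map_mul, map_T hK hdiv, map_D hK hdiv]
    exact (Sz F m).mul_mem (T_mem hF _ _) (D_mem hF _)
  · rw [map_mul, map_mul, map_mul, map_T hK hdiv, map_T hK hdiv, map_D hK hdiv, map_W]
    exact (Sz F m).mul_mem ((Sz F m).mul_mem (T_mem hF _ _) (W_mem hF)) ((Sz F m).mul_mem (T_mem hF _ _) (D_mem hF _))

/-- the embedding of Suzuki groups -/
def mapSz (hk : 1 ≤ k) (hF : Fintype.card F = 2 ^ (2 * m + 1)) (hK : Fintype.card K = 2 ^ (2 * k + 1))
    (hdiv : 2 * k + 1 ∣ 2 * m + 1) (ι : K →+* F) : Sz K k →* Sz F m where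
  toFun g := ⟨mapSL ι g, map_mem hk hF hK hdiv ι g.2⟩
  map_one' := Subtype.ext (map_one _)
  map_mul' g h := Subtype.ext (map_mul _ _ _)

theorem mapSL_inj (ι : K →+* F) : Function.Injective (mapSL ι) := by
  intro g h hgh
  apply Subtype.ext
  ext i j
  have h1 := congrArg (fun A : SL F => A.1 i j) hgh
  exact ι.injective h1

theorem mapSz_inj (hk : 1 ≤ k) (hF : Fintype.card F = 2 ^ (2 * m + 1)) (hK : Fintype.card K = 2 ^ (2 * k + 1))
    (hdiv : 2 * k + 1 ∣ 2 * m + 1) (ι : K →+* F) : Function.Injective (mapSz hk hF hK hdiv ι) := by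
  intro g h hgh
  exact Subtype.ext (mapSL_inj ι (congrArg Subtype.val hgh))

theorem mapSz_tG (hk : 1 ≤ k) (hF : Fintype.card F = 2 ^ (2 * m + 1)) (hK : Fintype.card K = 2 ^ (2 * k + 1))
    (hdiv : 2 * k + 1 ∣ 2 * m + 1) (ι : K →+* F) (a b : K) :
    mapSz hk hF hK hdiv ι (tG hK a b) = tG hF (ι a) (ι b) := Subtype.ext (map_T hK hdiv ι a b)

theorem mapSz_dG (hk : 1 ≤ k) (hF : Fintype.card F = 2 ^ (2 * m + 1)) (hK : Fintype.card K = 2 ^ (2 * k + 1))
    (hdiv : 2 * k + 1 ∣ 2 * m + 1) (ι : K →+* F) (l : Kˣ) :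
    mapSz hk hF hK hdiv ι (dG hK l) = dG hF (Units.map (ι : K →* F) l) := Subtype.ext (map_D hK hdiv ι l)

theorem mapSz_wG (hk : 1 ≤ k) (hF : Fintype.card F = 2 ^ (2 * m + 1)) (hK : Fintype.card K = 2 ^ (2 * k + 1))
    (hdiv : 2 * k + 1 ∣ 2 * m + 1) (ι : K →+* F) :
    mapSz hk hF hK hdiv ι (wG hK) = wG hF := Subtype.ext (map_W ι)

/-- two homomorphisms agreeing on the generators agree -/
theorem hom_ext {G : Type*} [Group G] (hk : 1 ≤ k) (hK : Fintype.card K = 2 ^ (2 * k + 1)) {φ ψ : Sz K k →* G}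
    (hT : ∀ a b, φ (tG hK a b) = ψ (tG hK a b)) (hD : ∀ l, φ (dG hK l) = ψ (dG hK l)) (hW : φ (wG hK) = ψ (wG hK)) :
    φ = ψ := by
  ext g
  rcases bruhat hK hk g.2 with ⟨a, b, l, h⟩ | ⟨x, y, a, b, l, h⟩
  · have h1 : g = tG hK a b * dG hK l := Subtype.ext h
    rw [h1, map_mul, map_mul, hT, hD]
  · have h1 : g = tG hK x y * wG hK * (tG hK a b * dG hK l) := Subtype.ext h
    rw [h1, map_mul, map_mul, map_mul, map_mul, map_mul, map_mul, hT, hD, hT, hW]

/-- the ranges of the embeddings agree -/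
theorem range_eq (hk : 1 ≤ k) (hF : Fintype.card F = 2 ^ (2 * m + 1)) (hK : Fintype.card K = 2 ^ (2 * k + 1))
    (hdiv : 2 * k + 1 ∣ 2 * m + 1) (ι κ : K →+* F) :
    (mapSz hk hF hK hdiv ι).range = (mapSz hk hF hK hdiv κ).range := by
  classical
  have hmem : ∀ (ι : K →+* F) (y : F), y ∈ ι.fieldRange ↔ y ^ Fintype.card K = y := by
    intro ι y
    have h1 : ∀ y : F, y ∈ ι.fieldRange → y ^ Fintype.card K = y := by
      rintro _ ⟨x, rfl⟩
      rw [← map_pow, FiniteField.pow_card]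
    constructor
    · exact h1 y
    · intro hy
      -- count the roots
      have hcard : Fintype.card K = Nat.card ι.fieldRange := by
        rw [← Nat.card_eq_fintype_card]
        exact Nat.card_congr (Equiv.ofInjective ι ι.injective)
      have hpos : 1 < Fintype.card K := Fintype.one_lt_card
      let P : Polynomial F := Polynomial.X ^ Fintype.card K - Polynomial.X
      have hP : P ≠ 0 := FiniteField.X_pow_card_sub_X_ne_zero F hpos
      have hdeg : P.natDegree = Fintype.card K := FiniteField.X_pow_card_sub_X_natDegree_eq F hpos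
      have hroots : P.roots.toFinset.card ≤ Fintype.card K := by
        calc P.roots.toFinset.card ≤ Multiset.card P.roots := Multiset.toFinset_card_le _
          _ ≤ P.natDegree := Polynomial.card_roots' P
          _ = _ := hdeg
      have hroot : ∀ z : F, z ∈ P.roots.toFinset ↔ z ^ Fintype.card K = z := by
        intro z
        rw [Multiset.mem_toFinset, Polynomial.mem_roots hP, Polynomial.IsRoot.def]
        simp [P, sub_eq_zero]
      have himg : (Finset.univ.image ι) ⊆ P.roots.toFinset := by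
        intro z hz
        obtain ⟨x, -, rfl⟩ := Finset.mem_image.1 hz
        rw [hroot, ← map_pow, FiniteField.pow_card]
      have himgc : (Finset.univ.image ι).card = Fintype.card K := by
        rw [Finset.card_image_of_injective _ ι.injective, Finset.card_univ]
      have heq := Finset.eq_of_subset_of_card_le himg (by rw [himgc]; exact hroots)
      have hy' := (hroot y).2 hy
      rw [← heq] at hy'
      obtain ⟨x, -, hx⟩ := Finset.mem_image.1 hy'
      exact ⟨x, hx⟩
  have key : ∀ (ι κ : K →+* F), (mapSz hk hF hK hdiv ι).range ≤ (mapSz hk hF hK hdiv κ).range := by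
    intro ι κ
    -- σ with κ σ = ι
    have hex : ∀ x : K, ∃ y : K, κ y = ι x := by
      intro x
      have h1 : ι x ∈ κ.fieldRange := by
        rw [hmem κ, ← hmem ι]
        exact ⟨x, rfl⟩
      exact h1
    choose σ hσ using hex
    let s : K →+* K :=
      { toFun := σ
        map_one' := κ.injective (by rw [hσ, map_one, map_one])
        map_mul' := fun a b => κ.injective (by rw [hσ, map_mul, map_mul, hσ, hσ])
        map_zero' := κ.injective (by rw [hσ, map_zero, map_zero])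
        map_add' := fun a b => κ.injective (by rw [hσ, map_add, map_add, hσ, hσ]) }
    have hs : ∀ x, κ (s x) = ι x := hσ
    rintro _ ⟨g, rfl⟩
    refine ⟨mapSz hk hK hK dvd_rfl s g, ?_⟩
    apply Subtype.ext
    change mapSL κ (mapSL s g) = mapSL ι g
    apply Subtype.ext
    ext i j
    exact hs _
  exact le_antisymm (key ι κ) (key κ ι)

end H42.SuzSub
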