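import Cfsg.Agent.Lib.H42.SuzSub

set_option autoImplicit false

/-! Embeddings of Suzuki groups are conjugate to subfield embeddings. -/

namespace H42.SuzSub

open Cfsg H8.SuzOvoid H8.SuzField H8.SuzMat H8.SuzStab H8.SuzGroup H8.SuzSylow H8.SuzCent H8.SuzSimple H8.TICount H8.SuzTorus
open H42.SuzPart
open scoped Pointwise

variable {F : Type*} [Field F] [Fintype F] {m : ℕ} {K : Type*} [Field K] [Fintype K] {k : ℕ}

theorem step1 (hm : 1 ≤ m) (hF : Fintype.card F = 2 ^ (2 * m + 1)) (hK : Fintype.card K = 2 ^ (2 * k + 1))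
    (φ : Sz K k →* Sz F m) (hφ : Function.Injective φ) :
    ∃ g : Sz F m, ∀ t ∈ TT (m := k) hK, g * φ t * g⁻¹ ∈ TT (m := m) hF := by
  have h1 : orderOf (φ (tG hK 0 1)) = 2 := by
    rw [orderOf_injective φ hφ]; exact orderOf_tG hK one_ne_zero
  obtain ⟨x, hx⟩ := conj_mem_TT hm hF h1
  refine ⟨x, ?_⟩
  rintro _ ⟨a, b, rfl⟩
  apply hx
  rw [← map_mul, ← map_mul, tG_mul, tG_mul, th_zero]
  congr 2
  · ring
  · ring

theorem step2 (hm : 1 ≤ m) (hF : Fintype.card F = 2 ^ (2 * m + 1)) (hk : 1 ≤ k) (hK : Fintype.card K = 2 ^ (2 * k + 1))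
    (hdiv : 2 * k + 1 ∣ 2 * m + 1) (φ : Sz K k →* Sz F m) (hφ : Function.Injective φ)
    (hTT : ∀ t ∈ TT (m := k) hK, φ t ∈ TT (m := m) hF) :
    ∃ g ∈ TT (m := m) hF, ∀ h ∈ HH (m := k) hK, g * φ h * g⁻¹ ∈ HH (m := m) hF := by
  classical
  obtain ⟨l0, hl0⟩ := IsCyclic.exists_generator (α := Kˣ)
  set h0 : Sz K k := dG hK l0 with hh0
  obtain ⟨l1, hl1⟩ := exists_k (F := K) hk hK
  have hl0' : l0 ≠ 1 := by
    rintro rfl
    obtain ⟨i, hi⟩ := Subgroup.mem_zpowers_iff.1 (hl0 l1)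
    rw [one_zpow] at hi
    exact hl1 hi.symm
  have hne : h0 ≠ 1 := by
    intro h
    apply hl0'
    apply dG_inj (m := k) hK
    rw [map_one]; exact h
  have hφne : φ h0 ≠ 1 := fun h => hne (hφ (by rw [h, map_one]))
  -- fixes infinity
  have hz1 : (tG hK 0 1 : Sz K k) ≠ 1 := by
    intro h
    rw [← tG_one hK] at h
    exact one_ne_zero (tG_inj hK h).2
  have hinf : (φ h0 : SL F) • suzukiPointInfinity F = suzukiPointInfinity F := by
    apply fix_inf_of_conj hF (x := φ (tG hK 0 1)) (hTT _ ⟨0, 1, rfl⟩) (fun h => hz1 (hφ (by rw [h, map_one])))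
    rw [← map_inv, ← map_mul, ← map_mul]
    apply hTT
    rw [hh0, dG_conj]
    exact ⟨_, _, rfl⟩
  -- order
  have hord : orderOf (φ h0) ∣ 2 ^ (2 * m + 1) - 1 := by
    rw [orderOf_injective φ hφ, hh0, orderOf_injective _ (dG_inj hK)]
    have h1 := orderOf_dvd_card (x := l0)
    rw [Fintype.card_units, hK] at h1
    exact h1.trans (Nat.pow_sub_one_dvd_pow_sub_one 2 hdiv)
  have h1 : orderOf (φ h0) ≠ 1 := fun h => hφne (orderOf_eq_one_iff.1 h)
  obtain ⟨r, hr, hd⟩ := Nat.exists_prime_and_dvd h1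
  obtain ⟨c, hc⟩ := exists_pow_prime hr hd
  obtain ⟨x, hx⟩ := conj_mem_HH hm hF hr (hd.trans hord) hc
  obtain ⟨μ, hμ⟩ := hx (φ h0) (Commute.self_pow _ c).eq
  have hμ1 : μ ≠ 1 := by
    rintro rfl
    rw [map_one] at hμ
    apply hφne
    have : φ h0 = x⁻¹ * (x * φ h0 * x⁻¹) * x := by group
    rw [this, ← hμ]; group
  have hμ' : D m μ = (x : SL F) * (φ h0 : SL F) * (x : SL F)⁻¹ := congrArg Subtype.val hμ
  -- a second fixed point
  have hfix : ∀ p : Projectivization F (Fin 4 → F), D m μ • p = p →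
      (φ h0 : SL F) • (x : SL F)⁻¹ • p = (x : SL F)⁻¹ • p := by
    intro p hp
    rw [hμ', mul_smul, mul_smul, ← eq_inv_smul_iff] at hp
    exact hp
  have hfix' : D m μ • (x : SL F) • suzukiPointInfinity F = (x : SL F) • suzukiPointInfinity F := by
    rw [hμ', mul_smul, mul_smul, inv_smul_smul, hinf]
  have hex : ∃ p ∈ suzukiOvoid F m, p ≠ suzukiPointInfinity F ∧ (φ h0 : SL F) • p = p := by
    rcases eq_of_D_fix hF hμ1 (smul_mem x.2 (inf_mem m)) hfix' with h | h
    · refine ⟨(x : SL F)⁻¹ • pnt m 0 0, smul_mem (x⁻¹).2 (pnt_mem m 0 0), ?_, hfix _ ?_⟩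
      · intro h2
        rw [inv_smul_eq_iff, h] at h2
        exact pnt_ne_inf _ _ h2
      · rw [D_smul_pnt hF]; simp
    · refine ⟨(x : SL F)⁻¹ • suzukiPointInfinity F, smul_mem (x⁻¹).2 (inf_mem m), ?_, hfix _ (D_smul_inf μ)⟩
      intro h2
      rw [inv_smul_eq_iff, h] at h2
      exact pnt_ne_inf _ _ h2.symm
  obtain ⟨p, hp, hpne, hpfix⟩ := hex
  rcases mem_ovoid_iff.1 hp with h | ⟨a, b, rfl⟩
  · exact absurd h hpne
  have ht : T m a b • pnt m (0 : F) 0 = pnt m a b := T_smul_zero hF a b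
  have key : (tG hF a b)⁻¹ * φ h0 * (tG hF a b)⁻¹⁻¹ ∈ HH (m := m) hF := by
    have e1 : (((tG hF a b)⁻¹ * φ h0 * (tG hF a b)⁻¹⁻¹ : Sz F m) : SL F) • suzukiPointInfinity F = suzukiPointInfinity F := by
      change ((T m a b)⁻¹ * (φ h0 : SL F) * (T m a b)⁻¹⁻¹) • suzukiPointInfinity F = _
      rw [inv_inv, mul_smul, mul_smul, T_smul_inf, hinf, inv_smul_eq_iff, T_smul_inf]
    have e2 : (((tG hF a b)⁻¹ * φ h0 * (tG hF a b)⁻¹⁻¹ : Sz F m) : SL F) • pnt m (0 : F) 0 = pnt m 0 0 := by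
      change ((T m a b)⁻¹ * (φ h0 : SL F) * (T m a b)⁻¹⁻¹) • pnt m (0 : F) 0 = _
      rw [inv_inv, mul_smul, mul_smul, ht, hpfix, inv_smul_eq_iff, ht]
    obtain ⟨ν, hν⟩ := eq_D_of_fix hF hm ((tG hF a b)⁻¹ * φ h0 * (tG hF a b)⁻¹⁻¹ : Sz F m).2 e1 e2
    exact ⟨ν, Subtype.ext hν.symm⟩
  refine ⟨(tG hF a b)⁻¹, (TT (m := m) hF).inv_mem ⟨a, b, rfl⟩, ?_⟩
  rintro _ ⟨l, rfl⟩
  obtain ⟨i, rfl⟩ := Subgroup.mem_zpowers_iff.1 (hl0 l)
  rw [map_zpow, map_zpow, ← conj_zpow]
  exact (HH (m := m) hF).zpow_mem key i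

theorem step3 (hF : Fintype.card F = 2 ^ (2 * m + 1)) (hK : Fintype.card K = 2 ^ (2 * k + 1))
    (φ : Sz K k →* Sz F m) (hφ : Function.Injective φ)
    (hTT : ∀ t ∈ TT (m := k) hK, φ t ∈ TT (m := m) hF) (hHH : ∀ h ∈ HH (m := k) hK, φ h ∈ HH (m := m) hF) :
    ∃ g : Sz F m, (∀ t ∈ TT (m := k) hK, g * φ t * g⁻¹ ∈ TT (m := m) hF) ∧
      (∀ h ∈ HH (m := k) hK, g * φ h * g⁻¹ ∈ HH (m := m) hF) ∧ ∃ b, g * φ (tG hK 1 0) * g⁻¹ = tG hF 1 b := by
  obtain ⟨a, b, hab⟩ := hTT (tG hK 1 0) ⟨1, 0, rfl⟩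
  have ha : a ≠ 0 := by
    rintro rfl
    have h1 : (tG hF 0 b : Sz F m) ^ 2 = 1 := by
      rw [tG_sq, ← tG_one hF]
      congr 1
      rw [th_zero]; ring
    rw [← hab, ← map_pow, tG_sq] at h1
    have h2 := hφ (h1.trans (map_one φ).symm)
    rw [← tG_one hK] at h2
    have h3 := (tG_inj hK h2).2
    rw [th_one, one_mul] at h3
    exact one_ne_zero h3
  refine ⟨dG hF (Units.mk0 a ha)⁻¹, ?_, ?_, ?_⟩
  · intro t ht
    obtain ⟨c, d, hcd⟩ := hTT t ht
    rw [hcd, dG_conj]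
    exact ⟨_, _, rfl⟩
  · intro h hh
    obtain ⟨l, hl⟩ := hHH h hh
    rw [← hl, ← map_inv, ← map_mul, ← map_mul]
    exact ⟨_, rfl⟩
  · rw [hab, dG_conj]
    refine ⟨((Units.mk0 a ha)⁻¹ : Fˣ) * th m (((Units.mk0 a ha)⁻¹ : Fˣ) : F) * b, ?_⟩
    · congr 1
      rw [Units.val_inv_eq_inv_val, Units.val_mk0, inv_mul_cancel₀ ha]

theorem step4 (hm : 1 ≤ m) (hF : Fintype.card F = 2 ^ (2 * m + 1)) (hk : 1 ≤ k) (hK : Fintype.card K = 2 ^ (2 * k + 1))
    (hdiv : 2 * k + 1 ∣ 2 * m + 1) (φ : Sz K k →* Sz F m) (hφ : Function.Injective φ)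
    (hTT : ∀ t ∈ TT (m := k) hK, φ t ∈ TT (m := m) hF) (hHH : ∀ h ∈ HH (m := k) hK, φ h ∈ HH (m := m) hF)
    (hone : ∃ b, φ (tG hK 1 0) = tG hF 1 b) : ∃ α : K →+* F, φ = mapSz hk hF hK hdiv α := by
  have twoK := two_eq_zero hK
  have twoF := two_eq_zero hF
  have h1 : ∀ a b : K, ∃ x : F × F, φ (tG hK a b) = tG hF x.1 x.2 := by
    intro a b
    obtain ⟨c, d, h⟩ := hTT (tG hK a b) ⟨a, b, rfl⟩
    exact ⟨(c, d), h⟩
  choose X hX using h1
  have h2 : ∀ l : Kˣ, ∃ μ : Fˣ, φ (dG hK l) = dG hF μ := by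
    intro l
    obtain ⟨μ, hμ⟩ := hHH (dG hK l) ⟨l, rfl⟩
    exact ⟨μ, hμ.symm⟩
  choose ψ hψ using h2
  -- relations
  have rmul : ∀ a b c d : K, (X (a + c) (b + d + th k a * c)).1 = (X a b).1 + (X c d).1 ∧
      (X (a + c) (b + d + th k a * c)).2 = (X a b).2 + (X c d).2 + th m (X a b).1 * (X c d).1 := by
    intro a b c d
    have e := congrArg φ (tG_mul (m := k) hK a b c d)
    rw [map_mul, hX, hX, hX, tG_mul] at e
    have := tG_inj hF e
    exact ⟨this.1.symm, this.2.symm⟩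
  have rD : ∀ (l : Kˣ) (a b : K), (X (l * a) (l * th k (l : K) * b)).1 = ψ l * (X a b).1 ∧
      (X (l * a) (l * th k (l : K) * b)).2 = ψ l * th m (ψ l : F) * (X a b).2 := by
    intro l a b
    have e := congrArg φ (dG_conj (m := k) hK l a b)
    rw [map_mul, map_mul, map_inv, hX, hψ, dG_conj, hX] at e
    have := tG_inj hF e
    exact ⟨this.1.symm, this.2.symm⟩
  have hX0 : ∀ b, (X 0 b).1 = 0 := by
    intro b
    have e : (tG hF (X 0 b).1 (X 0 b).2 : Sz F m) ^ 2 = 1 := by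
      rw [← hX, ← map_pow, tG_sq, th_zero, zero_mul, tG_one, map_one]
    rw [tG_sq, ← tG_one hF] at e
    have := (tG_inj hF e).2
    rcases mul_eq_zero.1 this with h | h
    · exact th_eq_zero.1 h
    · exact h
  have hXa : ∀ a b, (X a b).1 = (X a 0).1 := by
    intro a b
    have := (rmul a 0 0 b).1
    rw [hX0, add_zero, add_zero, mul_zero, add_zero, zero_add] at this
    exact this
  have hadd : ∀ a c, (X (a + c) 0).1 = (X a 0).1 + (X c 0).1 := by
    intro a c
    have := (rmul a 0 c 0).1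
    rwa [hXa] at this
  have hX1 : (X 1 0).1 = 1 := by
    obtain ⟨b, hb⟩ := hone
    rw [hX] at hb
    exact (tG_inj hF hb).1
  have hψX : ∀ l : Kˣ, (ψ l : F) = (X (l : K) 0).1 := by
    intro l
    have := (rD l 1 0).1
    rw [mul_one, mul_zero, hX1, mul_one] at this
    exact this.symm
  let α : K →+* F :=
    { toFun := fun a => (X a 0).1
      map_one' := hX1
      map_zero' := hX0 0
      map_add' := hadd
      map_mul' := by
        intro a c
        by_cases ha : a = 0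
        · rw [ha, zero_mul, hX0, zero_mul]
        · have := (rD (Units.mk0 a ha) c 0).1
          rw [mul_zero, Units.val_mk0, hψX, Units.val_mk0] at this
          exact this }
  have hα : ∀ a, (X a 0).1 = α a := fun _ => rfl
  have hψα : ∀ l : Kˣ, (ψ l : F) = α l := hψX
  -- the second coordinate on the centre
  have hβ : ∀ b, (X 0 b).2 = α b := by
    intro b
    by_cases hb : b = 0
    · have e := hX 0 0
      rw [tG_one, map_one, ← tG_one hF] at e
      rw [hb, map_zero]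
      exact (tG_inj hF e).2.symm
    · obtain ⟨a, ha, hab⟩ := exists_norm (m := k) hK hb
      have e := (tG_sq (m := k) hK a 0)
      have e2 := congrArg φ e
      rw [map_pow, hX, tG_sq, hX] at e2
      have e3 := (tG_inj hF e2).2
      rw [mul_comm (th k a) a, hab, hα] at e3
      rw [← e3, ← hab, map_mul, map_th hK hdiv, mul_comm]
  -- γ
  have hγ : ∀ a b, (X a b).2 = (X a 0).2 + α b := by
    intro a b
    have := (rmul a 0 0 b).2
    rw [add_zero, mul_zero, add_zero, zero_add, hX0, mul_zero, add_zero, hβ] at this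
    exact this
  have hγadd : ∀ a c, (X (a + c) 0).2 = (X a 0).2 + (X c 0).2 := by
    intro a c
    have := (rmul a 0 c 0).2
    rw [hγ, add_zero, zero_add, map_mul, map_th hK hdiv, hα, hα] at this
    linear_combination this
  have hγD : ∀ l : Kˣ, (X (l : K) 0).2 = α l * th m (α l) * (X 1 0).2 := by
    intro l
    have := (rD l 1 0).2
    rw [mul_one, mul_zero, hψα] at this
    exact this
  have hγ1 : (X 1 0).2 = 0 := by
    by_contra hne
    obtain ⟨t, ht⟩ := exists_th_ne (F := K) hk hK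
    have ht0 : t ≠ 0 := by
      rintro rfl
      apply ht
      rw [th_zero, add_zero]
    have ht1 : 1 + t ≠ 0 := by
      intro h
      apply ht
      have : t = 1 := by linear_combination h - twoK
      rw [this, th_one]
      linear_combination twoK
    have e1 := hγadd 1 t
    have e2 := hγD (Units.mk0 t ht0)
    have e3 := hγD (Units.mk0 (1 + t) ht1)
    rw [Units.val_mk0] at e2 e3
    rw [e2, e3] at e1
    have e4 : α (1 + t) * th m (α (1 + t)) = 1 + α t * th m (α t) := by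
      apply mul_right_cancel₀ hne
      linear_combination e1
    rw [← map_th hK hdiv, ← map_th hK hdiv, th_add hK, th_one, ← map_mul, ← map_mul] at e4
    have e5 : α ((1 + t) * (1 + th k t) - (1 + t * th k t)) = 0 := by
      rw [map_sub, e4, map_add, map_one, sub_self]
    have e6 := (map_eq_zero α).1 e5
    apply ht
    linear_combination e6
  have hγ0 : ∀ a, (X a 0).2 = 0 := by
    intro a
    by_cases ha : a = 0
    · rw [ha, hβ, map_zero]
    · have := hγD (Units.mk0 a ha)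
      rw [Units.val_mk0, hγ1, mul_zero] at this
      exact this
  have hφT : ∀ a b, φ (tG hK a b) = tG hF (α a) (α b) := by
    intro a b
    rw [hX, hXa, hγ, hγ0, zero_add, hα]
  have hφD : ∀ l, φ (dG hK l) = dG hF (Units.map (α : K →* F) l) := by
    intro l
    rw [hψ]
    congr 1
    exact Units.ext (hψα l)
  -- the element W
  have hw2 : φ (wG hK) * φ (wG hK) = 1 := by rw [← map_mul, wG_mul, map_one]
  obtain ⟨l1, hl1⟩ := exists_k (F := K) hk hK
  have hαl : Units.map (α : K →* F) l1 ≠ 1 := by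
    intro h
    apply hl1
    apply Units.ext
    apply α.injective
    have := congrArg Units.val h
    rw [Units.val_one, map_one]
    exact this
  set w : Sz F m := φ (wG hK) with hw
  have hwD : w * dG hF (Units.map (α : K →* F) l1) = dG hF (Units.map (α : K →* F) l1)⁻¹ * w := by
    rw [hw, ← hφD, ← map_mul, W_D, map_mul, hφD, map_inv]
  have hswap : (w : SL F) • suzukiPointInfinity F = pnt m 0 0 ∧ (w : SL F) • pnt m (0 : F) 0 = suzukiPointInfinity F := by
    have hwD' : (w : SL F) * D m (Units.map (α : K →* F) l1) = D m (Units.map (α : K →* F) l1)⁻¹ * (w : SL F) :=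
      congrArg Subtype.val hwD
    have hfix : ∀ p ∈ suzukiOvoid F m, D m (Units.map (α : K →* F) l1) • p = p →
        (w : SL F) • p = suzukiPointInfinity F ∨ (w : SL F) • p = pnt m 0 0 := by
      intro p hp h
      apply eq_of_D_fix hF (k := (Units.map (α : K →* F) l1)⁻¹) (inv_ne_one.2 hαl) (smul_mem w.2 hp)
      rw [← mul_smul, ← hwD', mul_smul, h]
    have hww : (w : SL F) * (w : SL F) = 1 := congrArg Subtype.val hw2
    have h0fix : D m (Units.map (α : K →* F) l1) • pnt m (0 : F) 0 = pnt m 0 0 := by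
      rw [D_smul_pnt hF]; simp
    rcases hfix _ (inf_mem m) (D_smul_inf _) with h | h
    · exfalso
      rcases hfix _ (pnt_mem m 0 0) h0fix with h' | h'
      · exact pnt_ne_inf (m := m) (0 : F) 0 (MulAction.injective (w : SL F) (h'.trans h.symm))
      · obtain ⟨ν, hν⟩ := eq_D_of_fix hF hm w.2 h h'
        have hν' : w = dG hF ν := Subtype.ext hν
        rw [hν', ← map_mul, ← map_mul] at hwD
        have e := dG_inj hF hwD
        rw [mul_comm] at e
        have e2 := mul_right_cancel e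
        -- μ = μ⁻¹
        have e3 : (Units.map (α : K →* F) l1 : Fˣ) ^ 2 = 1 := by
          rw [pow_two]
          nth_rewrite 1 [e2]
          rw [inv_mul_cancel]
        have e4 : ((Units.map (α : K →* F) l1 : Fˣ) : F) ^ 2 = 1 := by
          have := congrArg Units.val e3
          rwa [Units.val_pow_eq_pow_val, Units.val_one] at this
        apply hαl
        apply Units.ext
        rw [Units.val_one]
        have e5 : (((Units.map (α : K →* F) l1 : Fˣ) : F) - 1) ^ 2 = 0 := by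
          linear_combination e4 - ((Units.map (α : K →* F) l1 : Fˣ) : F) * twoF + twoF
        have e6 := pow_eq_zero_iff (two_ne_zero) |>.1 e5
        linear_combination e6
    · refine ⟨h, ?_⟩
      rw [← h, ← mul_smul, hww, one_smul]
  obtain ⟨hs1, hs2⟩ := hswap
  obtain ⟨μ, hμ⟩ : ∃ μ : Fˣ, w = wG hF * dG hF μ := by
    obtain ⟨ν, hν⟩ := eq_D_of_fix hF hm (wG hF * w).2 (by
      change (W F * (w : SL F)) • suzukiPointInfinity F = _
      rw [mul_smul, hs1, W_smul_zero]) (by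
      change (W F * (w : SL F)) • pnt m (0 : F) 0 = _
      rw [mul_smul, hs2, W_smul_inf (m := m)])
    refine ⟨ν, ?_⟩
    have : wG hF * w = dG hF ν := Subtype.ext hν
    rw [← this, ← mul_assoc, wG_mul, one_mul]
  have hμ' : (w : SL F) = W F * D m μ := congrArg Subtype.val hμ
  -- the relation
  have hrelK : ∃ a b : K, ∃ l : Kˣ, wG hK * tG hK 0 1 * wG hK = tG hK 1 0 * wG hK * (tG hK a b * dG hK l) := by
    have e1 : (((wG hK) * (tG hK 1 0)⁻¹ * (wG hK * tG hK 0 1 * wG hK) : Sz K k) : SL K) • suzukiPointInfinity K = suzukiPointInfinity K := by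
      change (W K * (T k 1 0)⁻¹ * (W K * T k 0 1 * W K)) • suzukiPointInfinity K = suzukiPointInfinity K
      have f1 : f k (0 : K) 1 = 1 := by rw [f_eq, th_zero, th_one]; ring
      rw [mul_smul, mul_smul, mul_smul, mul_smul, W_smul_inf (m := k), T_smul_zero hK, W_smul_pnt hK (by rw [f1]; exact one_ne_zero), f1]
      have f2 : (T k (1 : K) 0)⁻¹ • pnt k (1 / 1 : K) (0 / 1) = pnt k 0 0 := by
        rw [inv_smul_eq_iff, T_smul_zero hK, div_one, div_one]
      rw [f2, W_smul_zero]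
    obtain ⟨a, b, l, h⟩ := eq_TD_of_fix_inf hK hk ((wG hK) * (tG hK 1 0)⁻¹ * (wG hK * tG hK 0 1 * wG hK) : Sz K k).2 e1
    refine ⟨a, b, l, ?_⟩
    have h' : (wG hK) * (tG hK 1 0)⁻¹ * (wG hK * tG hK 0 1 * wG hK) = tG hK a b * dG hK l := Subtype.ext h
    rw [← h']
    calc wG hK * tG hK 0 1 * wG hK = tG hK 1 0 * 1 * (tG hK 1 0)⁻¹ * (wG hK * tG hK 0 1 * wG hK) := by group
      _ = tG hK 1 0 * (wG hK * wG hK) * (tG hK 1 0)⁻¹ * (wG hK * tG hK 0 1 * wG hK) := by rw [wG_mul]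
      _ = _ := by group
  obtain ⟨a, b, l, hrel⟩ := hrelK
  have hrel' := congrArg φ hrel
  rw [map_mul, map_mul, map_mul, map_mul, map_mul, ← hw, hφT, hφT, hφT, hφD, map_zero, map_one] at hrel'
  have hμ1 : (μ : F) = 1 := by
    have e1 : (w : SL F) * T m 0 1 * (w : SL F) = T m 1 0 * (w : SL F) * (T m (α a) (α b) * D m (Units.map (α : K →* F) l)) :=
      congrArg Subtype.val hrel'
    have e2 : ((w : SL F) * T m 0 1 * (w : SL F)) • suzukiPointInfinity F =
      (T m 1 0 * (w : SL F) * (T m (α a) (α b) * D m (Units.map (α : K →* F) l))) • suzukiPointInfinity F := by rw [e1]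
    rw [mul_smul, mul_smul, mul_smul, mul_smul, mul_smul, D_smul_inf, T_smul_inf, hs1, T_smul_zero hF, T_smul_zero hF,
      hμ', mul_smul, D_smul_pnt hF, mul_zero, mul_one] at e2
    have f1 : f m (0 : F) (μ * th m (μ : F)) = th m (μ : F) * (μ : F) ^ 2 := by
      rw [f_eq, th_zero, th_mul, th_th hF]; ring
    have hθ : th m (μ : F) ≠ 0 := fun h => μ.ne_zero (th_eq_zero.1 h)
    have f2 : f m (0 : F) (μ * th m (μ : F)) ≠ 0 := by
      rw [f1]
      exact mul_ne_zero hθ (pow_ne_zero _ μ.ne_zero)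
    rw [W_smul_pnt hF f2, f1] at e2
    have e3 := (pnt_inj e2).1
    have hμ0 : (μ : F) ≠ 0 := μ.ne_zero
    field_simp at e3
    exact e3.symm
  have hwW : w = wG hF := by
    have : μ = 1 := Units.ext hμ1
    rw [hμ, this, map_one, mul_one]
  refine ⟨α, ?_⟩
  apply hom_ext hk hK
  · intro a b
    rw [hφT, mapSz_tG]
  · intro l
    rw [hφD, mapSz_dG]
  · rw [mapSz_wG, ← hwW]

/-- every embedding of Suzuki groups is conjugate to a subfield embedding -/
theorem exists_conj_mapSz (hm : 1 ≤ m) (hF : Fintype.card F = 2 ^ (2 * m + 1)) (hk : 1 ≤ k)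
    (hK : Fintype.card K = 2 ^ (2 * k + 1)) (hdiv : 2 * k + 1 ∣ 2 * m + 1) (φ : Sz K k →* Sz F m)
    (hφ : Function.Injective φ) :
    ∃ g : Sz F m, ∃ α : K →+* F, (MulAut.conj g).toMonoidHom.comp φ = mapSz hk hF hK hdiv α := by
  have hinj : ∀ (g : Sz F m) (φ : Sz K k →* Sz F m), Function.Injective φ →
      Function.Injective ((MulAut.conj g).toMonoidHom.comp φ) := fun g φ h => (MulAut.conj g).injective.comp h
  obtain ⟨g1, h1⟩ := step1 hm hF hK φ hφ
  obtain ⟨g2, hg2, h2⟩ := step2 hm hF hk hK hdiv _ (hinj g1 φ hφ) h1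
  have h1' : ∀ t ∈ TT (m := k) hK, ((MulAut.conj g2).toMonoidHom.comp ((MulAut.conj g1).toMonoidHom.comp φ)) t ∈ TT (m := m) hF := by
    intro t ht
    exact (TT (m := m) hF).mul_mem ((TT (m := m) hF).mul_mem hg2 (h1 t ht)) ((TT (m := m) hF).inv_mem hg2)
  obtain ⟨g3, h3, h4, h5⟩ := step3 hF hK _ (hinj g2 _ (hinj g1 φ hφ)) h1' h2
  obtain ⟨α, hα⟩ := step4 hm hF hk hK hdiv _ (hinj g3 _ (hinj g2 _ (hinj g1 φ hφ))) h3 h4 h5
  refine ⟨g3 * g2 * g1, α, ?_⟩
  rw [← hα]
  ext x : 1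
  change g3 * g2 * g1 * φ x * (g3 * g2 * g1)⁻¹ = g3 * (g2 * (g1 * φ x * g1⁻¹) * g2⁻¹) * g3⁻¹
  group

end H42.SuzSub
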