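import Mathlib

/-!
Computations over the field with 25 elements: the 45 points of `3.M₁₀` in `SU₃(5)`.
-/

set_option autoImplicit false
set_option linter.unusedVariables false
set_option linter.unusedSectionVars false

namespace H42.U35C0

/-- elements `a + b t`, `t ^ 2 = 2`, of the field with 25 elements -/
abbrev K := ℕ × ℕ
abbrev V := K × K × K
abbrev M := V × V × V

def kadd (x y : K) : K := ((x.1 + y.1) % 5, (x.2 + y.2) % 5)
def kmul (x y : K) : K := ((x.1 * y.1 + 2 * x.2 * y.2) % 5, (x.1 * y.2 + x.2 * y.1) % 5)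
def knorm (x : K) : ℕ := (x.1 * x.1 + 3 * x.2 * x.2) % 5
def kinv (x : K) : K := let n := (knorm x) ^ 3 % 5; ((x.1 * n) % 5, (4 * x.2 * n) % 5)
def kconj (x : K) : K := (x.1 % 5, (4 * x.2) % 5)

def vsmul (c : K) (v : V) : V := (kmul c v.1, kmul c v.2.1, kmul c v.2.2)
def vadd (v w : V) : V := (kadd v.1 w.1, kadd v.2.1 w.2.1, kadd v.2.2 w.2.2)
def dot (r v : V) : K := kadd (kmul r.1 v.1) (kadd (kmul r.2.1 v.2.1) (kmul r.2.2 v.2.2))
/-- matrices are triples of rows -/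
def mv (m : M) (v : V) : V := (dot m.1 v, dot m.2.1 v, dot m.2.2 v)
def col0 (m : M) : V := (m.1.1, m.2.1.1, m.2.2.1)
def col1 (m : M) : V := (m.1.2.1, m.2.1.2.1, m.2.2.2.1)
def col2 (m : M) : V := (m.1.2.2, m.2.1.2.2, m.2.2.2.2)
def ofCols (a b c : V) : M := ((a.1, b.1, c.1), (a.2.1, b.2.1, c.2.1), (a.2.2, b.2.2, c.2.2))
def mm (m n : M) : M := ofCols (mv m (col0 n)) (mv m (col1 n)) (mv m (col2 n))
def madd (m n : M) : M := (vadd m.1 n.1, vadd m.2.1 n.2.1, vadd m.2.2 n.2.2)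
def msmul (c : K) (m : M) : M := (vsmul c m.1, vsmul c m.2.1, vsmul c m.2.2)
def kdet (m : M) : K :=
  let a := m.1; let b := m.2.1; let c := m.2.2
  kadd (kadd (kmul a.1 (kadd (kmul b.2.1 c.2.2) (kmul (4, 0) (kmul b.2.2 c.2.1))))
    (kmul a.2.1 (kadd (kmul b.2.2 c.1) (kmul (4, 0) (kmul b.1 c.2.2)))))
    (kmul a.2.2 (kadd (kmul b.1 c.2.1) (kmul (4, 0) (kmul b.2.1 c.1))))
def mstar (m : M) : M :=
  ((kconj m.1.1, kconj m.2.1.1, kconj m.2.2.1), (kconj m.1.2.1, kconj m.2.1.2.1, kconj m.2.2.2.1),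
    (kconj m.1.2.2, kconj m.2.1.2.2, kconj m.2.2.2.2))

def one : M := (((1, 0), (0, 0), (0, 0)), ((0, 0), (1, 0), (0, 0)), ((0, 0), (0, 0), (1, 0)))
/-- the primitive cube root of unity -/
def om : K := (2, 3)
def Xm : M := (((1, 0), (0, 0), (0, 0)), ((0, 0), om, (0, 0)), ((0, 0), (0, 0), kmul om om))
def Ym : M := (((0, 0), (0, 0), (1, 0)), ((1, 0), (0, 0), (0, 0)), ((0, 0), (1, 0), (0, 0)))

def mpow (m : M) : ℕ → M
  | 0 => one
  | n + 1 => mm (mpow m n) m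

def kpow (c : K) : ℕ → K
  | 0 => (1, 0)
  | n + 1 => kmul (kpow c n) c

/-- `ω ^ a X ^ b Y ^ c` -/
def Xe (a b c : ℕ) : M := msmul (kpow om a) (mm (mpow Xm b) (mpow Ym c))

def rd (x : K) : Bool := decide (x.1 < 5) && decide (x.2 < 5)
def rdV (v : V) : Bool := rd v.1 && rd v.2.1 && rd v.2.2
def rdM (m : M) : Bool := rdV m.1 && rdV m.2.1 && rdV m.2.2

def fst (v : V) : K := if v.1 ≠ (0, 0) then v.1 else if v.2.1 ≠ (0, 0) then v.2.1 else v.2.2

def norm1 (v : V) : V := vsmul (kinv (fst v)) v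

/-- the 45 points, up to scalars -/
def pts : List V :=
  [((0, 0), (1, 0), 4, 0), ((1, 0), (1, 0), 4, 0), ((1, 0), (1, 0), 2, 0), ((1, 0), (1, 0), 0, 2), ((1, 0), (1, 0), 0, 3),
  ((1, 0), (0, 0), 4, 0), ((1, 0), (4, 0), 4, 0), ((1, 0), (3, 0), 3, 0), ((1, 0), (0, 4), 0, 4),
  ((1, 0), (0, 1), 0, 1), ((1, 0), (4, 0), 0, 0), ((1, 0), (4, 0), 1, 0), ((1, 0), (2, 0), 1, 0),
  ((1, 0), (0, 2), 1, 0), ((1, 0), (0, 3), 1, 0), ((0, 0), (1, 0), 3, 2), ((1, 0), (2, 3), 3, 3),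
  ((1, 0), (2, 3), 4, 4), ((1, 0), (2, 3), 3, 4), ((1, 0), (2, 3), 2, 1), ((1, 0), (0, 0), 3, 3),
  ((1, 0), (3, 2), 3, 3), ((1, 0), (1, 4), 1, 1), ((1, 0), (4, 3), 1, 3), ((1, 0), (1, 2), 4, 2),
  ((1, 0), (3, 2), 0, 0), ((1, 0), (3, 2), 2, 2), ((1, 0), (4, 1), 2, 2), ((1, 0), (2, 4), 2, 2),
  ((1, 0), (3, 1), 2, 2), ((0, 0), (1, 0), 3, 3), ((1, 0), (2, 2), 3, 2), ((1, 0), (2, 2), 4, 1),
  ((1, 0), (2, 2), 2, 4), ((1, 0), (2, 2), 3, 1), ((1, 0), (0, 0), 3, 2), ((1, 0), (3, 3), 3, 2),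
  ((1, 0), (1, 1), 1, 4), ((1, 0), (1, 3), 4, 3), ((1, 0), (4, 2), 1, 2), ((1, 0), (3, 3), 0, 0),
  ((1, 0), (3, 3), 2, 3), ((1, 0), (4, 4), 2, 3), ((1, 0), (3, 4), 2, 3), ((1, 0), (2, 1), 2, 3)]

/-- the triples `ω ^ a X ^ b Y ^ c` -/
def R27 : List M :=
  (List.range 3).flatMap fun a => (List.range 3).flatMap fun b => (List.range 3).map fun c => Xe a b c

def vin (v : V) : List V → Bool
  | [] => false
  | w :: l => decide (v = w) || vin v l

/-- a matrix permutes the 45 points -/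
def chk (m : M) : Bool :=
  pts.all fun v =>
    let u := mv m v
    let c := fst u
    let w := norm1 u
    vin w pts && decide (vsmul c w = u) && decide (c ≠ (0, 0)) && rd c

def isz (v : V) : Bool := decide (v = ((0, 0), (0, 0), (0, 0)))

def ecol (p : M) : V := if isz (col0 p) then (if isz (col1 p) then col2 p else col1 p) else col0 p

def mult (e v : V) : Bool :=
  if isz v then true else decide (vsmul (kmul (fst v) (kinv (fst e))) e = v)

def pair (x y : M) : Bool :=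
  rdM (mm x y) && rdM (msmul om (mm y x)) &&
  if mm x y = msmul om (mm y x) then
    let p := madd one (madd x (mm x x))
    let e := ecol p
    let g := ofCols e (mv y e) (mv y (mv y e))
    mult e (col0 p) && mult e (col1 p) && mult e (col2 p) &&
      (decide (kpow (kdet g) 8 ≠ (1, 0)) || chk g)
  else true

def S0 : M := (((0, 0), (0, 4), (0, 4)), ((0, 1), (2, 0), (3, 0)), ((0, 1), (3, 0), (2, 0)))
def T0 : M := (((1, 0), (0, 0), (0, 0)), ((0, 0), (4, 0), (0, 0)), ((0, 0), (0, 0), (4, 0)))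


theorem all_pairs : (R27.all fun x => R27.all fun y => pair x y) = true := by decide +kernel

theorem chk_S0 : chk S0 = true := by decide +kernel
theorem det_S0 : kdet S0 = (1, 0) := by decide +kernel
theorem det_T0 : kdet T0 = (1, 0) := by decide +kernel
theorem sq_S0 : mm S0 S0 = one := by decide +kernel
theorem uni_S0 : mm (mstar S0) S0 = one := by decide +kernel
theorem uni_T0 : mm (mstar T0) T0 = one := by decide +kernel
theorem not_S0 : (R27.all fun r => decide (mm (mm S0 Xm) S0 ≠ r) && rdM r) = true := by decide +kernel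
theorem rd_S0 : rdM (mm (mm S0 Xm) S0) = true := by decide +kernel
theorem mv_T0 : mv T0 ((1, 0), (1, 0), 2, 0) = ((1, 0), (4, 0), 3, 0) := by decide +kernel
/-- no point is proportional to `(1, -1, -2)` -/
theorem not_T0 : (pts.all fun p => rdV (vsmul (1, 0) p) && (decide (p.1 ≠ (1, 0)) || decide (p.2.1 ≠ (4, 0)) || decide (p.2.2 ≠ (3, 0))) &&
    (decide (p.1 = (0, 0)) || decide (p.1 = (1, 0)))) = true := by decide +kernel

end H42.U35C0
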