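import Mathlib
import Cfsg.Agent.Lib.H42.U35C0

/-!
Transfer of the computations over the field with 25 elements.
-/

set_option autoImplicit false
set_option linter.unusedVariables false
set_option linter.unusedSectionVars false
set_option linter.unusedSimpArgs false
set_option maxHeartbeats 1000000

namespace H42.U35C1

open H42.U35C0 Matrix

variable {F : Type*} [Field F] (t : F) (h5 : (5 : F) = 0) (ht : t * t = 2)

def phi (x : K) : F := (x.1 : F) + (x.2 : F) * t
def phiV (v : V) : Fin 3 → F := ![phi t v.1, phi t v.2.1, phi t v.2.2]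
def phiM (m : M) : Matrix (Fin 3) (Fin 3) F := Matrix.of ![phiV t m.1, phiV t m.2.1, phiV t m.2.2]

include h5 in
theorem cast_mod (n : ℕ) : ((n % 5 : ℕ) : F) = (n : F) := by
  conv_rhs => rw [← Nat.div_add_mod n 5]
  push_cast
  rw [h5, zero_mul, zero_add]

include h5 in
theorem phi_add (x y : K) : phi t (kadd x y) = phi t x + phi t y := by
  simp only [phi, kadd, cast_mod h5]
  push_cast; ring

include h5 ht in
theorem phi_mul (x y : K) : phi t (kmul x y) = phi t x * phi t y := by
  simp only [phi, kmul, cast_mod h5]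
  push_cast
  linear_combination (-(x.2 : F) * y.2) * ht

theorem phi_one : phi t (1, 0) = 1 := by simp [phi]
theorem phi_zero : phi t (0, 0) = 0 := by simp [phi]

include h5 in
theorem phi_four : phi t (4, 0) = -1 := by
  simp only [phi]
  push_cast
  linear_combination h5

include h5 ht in
theorem phiV_smul (c : K) (v : V) : phiV t (vsmul c v) = phi t c • phiV t v := by
  ext i
  fin_cases i <;> simp [phiV, vsmul, phi_mul t h5 ht]

include h5 ht in
theorem phi_dot (r v : V) : phi t (dot r v) = phiV t r ⬝ᵥ phiV t v := by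
  simp only [dot, phi_add t h5, phi_mul t h5 ht, phiV, dotProduct, Fin.sum_univ_three]
  simp [add_assoc]

include h5 ht in
theorem phi_mv (m : M) (v : V) : phiM t m *ᵥ phiV t v = phiV t (mv m v) := by
  ext i
  fin_cases i
  · exact (phi_dot t h5 ht m.1 v).symm
  · exact (phi_dot t h5 ht m.2.1 v).symm
  · exact (phi_dot t h5 ht m.2.2 v).symm

theorem phiM_col0 (m : M) : (phiM t m).col 0 = phiV t (col0 m) := by
  ext i; fin_cases i <;> rfl
theorem phiM_col1 (m : M) : (phiM t m).col 1 = phiV t (col1 m) := by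
  ext i; fin_cases i <;> rfl
theorem phiM_col2 (m : M) : (phiM t m).col 2 = phiV t (col2 m) := by
  ext i; fin_cases i <;> rfl

theorem ext_col {A B : Matrix (Fin 3) (Fin 3) F} (h0 : A.col 0 = B.col 0) (h1 : A.col 1 = B.col 1)
    (h2 : A.col 2 = B.col 2) : A = B := by
  ext i j
  fin_cases j
  · exact congrFun h0 i
  · exact congrFun h1 i
  · exact congrFun h2 i

theorem mul_col (A B : Matrix (Fin 3) (Fin 3) F) (j : Fin 3) : (A * B).col j = A *ᵥ B.col j := by
  ext i; rfl

theorem col0_ofCols (a b c : V) : col0 (ofCols a b c) = a := rfl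
theorem col1_ofCols (a b c : V) : col1 (ofCols a b c) = b := rfl
theorem col2_ofCols (a b c : V) : col2 (ofCols a b c) = c := rfl

include h5 ht in
theorem phi_mm (m n : M) : phiM t (mm m n) = phiM t m * phiM t n := by
  apply ext_col
  · rw [mul_col, phiM_col0, phiM_col0, phi_mv t h5 ht]; rfl
  · rw [mul_col, phiM_col1, phiM_col1, phi_mv t h5 ht]; rfl
  · rw [mul_col, phiM_col2, phiM_col2, phi_mv t h5 ht]; rfl

include h5 ht in
theorem phi_msmul (c : K) (m : M) : phiM t (msmul c m) = phi t c • phiM t m := by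
  ext i j
  fin_cases i
  · exact congrFun (phiV_smul t h5 ht c m.1) j
  · exact congrFun (phiV_smul t h5 ht c m.2.1) j
  · exact congrFun (phiV_smul t h5 ht c m.2.2) j

include h5 in
theorem phiV_add (v w : V) : phiV t (vadd v w) = phiV t v + phiV t w := by
  ext i
  fin_cases i <;> simp [phiV, vadd, phi_add t h5]

include h5 in
theorem phi_madd (m n : M) : phiM t (madd m n) = phiM t m + phiM t n := by
  ext i j
  fin_cases i
  · exact congrFun (phiV_add t h5 m.1 n.1) j
  · exact congrFun (phiV_add t h5 m.2.1 n.2.1) j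
  · exact congrFun (phiV_add t h5 m.2.2 n.2.2) j

theorem phi_Mone : phiM t U35C0.one = 1 := by
  ext i j
  fin_cases i <;> fin_cases j <;> simp [phiM, phiV, U35C0.one, phi]

include h5 ht in
theorem phi_det (m : M) : (phiM t m).det = phi t (kdet m) := by
  rw [Matrix.det_fin_three]
  simp only [kdet, phi_add t h5, phi_mul t h5 ht, phi_four t h5]
  simp only [phiM, phiV, Matrix.of_apply, Matrix.cons_val_zero, Matrix.cons_val_one, Matrix.cons_val]
  ring

include h5 ht in
theorem phi_kpow (c : K) (n : ℕ) : phi t (kpow c n) = phi t c ^ n := by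
  induction n with
  | zero => rw [pow_zero]; exact phi_one t
  | succ n ih => rw [pow_succ, ← ih, ← phi_mul t h5 ht]; rfl

include h5 ht in
/-- injectivity -/
theorem phi_inj {x y : K} (hx : rd x = true) (hy : rd y = true) (h : phi t x = phi t y) : x = y := by
  have hch : CharP F 5 := by
    have : ringChar F ∣ 5 := by
      rw [← ringChar.spec]
      exact_mod_cast h5
    rcases (Nat.dvd_prime (by norm_num)).1 this with h | h
    · exact absurd h (CharP.ringChar_ne_one)
    · exact ringChar.of_eq h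
  obtain ⟨a, b⟩ := x
  obtain ⟨a', b'⟩ := y
  simp only [rd, Bool.and_eq_true, decide_eq_true_eq] at hx hy
  simp only [phi] at h
  have h1 : ((a : F) - a') * ((a : F) - a') - 2 * (((b : F) - b') * ((b : F) - b')) = 0 := by
    have h2 : (a : F) - a' = ((b' : F) - b) * t := by linear_combination h
    rw [h2]
    linear_combination (((b' : F) - b) ^ 2) * ht
  have h2 : ((((a : ℤ) - a') * ((a : ℤ) - a') - 2 * (((b : ℤ) - b') * ((b : ℤ) - b')) : ℤ) : F) = 0 := by
    push_cast; exact h1
  rw [CharP.intCast_eq_zero_iff F 5] at h2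
  obtain ⟨ha, hb⟩ := hx
  obtain ⟨ha', hb'⟩ := hy
  have key : ∀ a b a' b' : Fin 5, ((5 : ℤ) ∣ (((a : ℕ) : ℤ) - ((a' : ℕ) : ℤ)) * (((a : ℕ) : ℤ) - ((a' : ℕ) : ℤ)) -
      2 * ((((b : ℕ) : ℤ) - ((b' : ℕ) : ℤ)) * (((b : ℕ) : ℤ) - ((b' : ℕ) : ℤ)))) → a = a' ∧ b = b' := by
    decide
  obtain ⟨e1, e2⟩ := key ⟨a, ha⟩ ⟨b, hb⟩ ⟨a', ha'⟩ ⟨b', hb'⟩ h2
  rw [Fin.mk.injEq] at e1 e2
  rw [e1, e2]


include h5 ht in
theorem phiV_inj {v w : V} (hv : rdV v = true) (hw : rdV w = true) (h : phiV t v = phiV t w) : v = w := by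
  simp only [rdV, Bool.and_eq_true] at hv hw
  obtain ⟨⟨a, b⟩, c⟩ := hv
  obtain ⟨⟨a', b'⟩, c'⟩ := hw
  have e0 := phi_inj t h5 ht a a' (congrFun h 0)
  have e1 := phi_inj t h5 ht b b' (congrFun h 1)
  have e2 := phi_inj t h5 ht c c' (congrFun h 2)
  exact Prod.ext e0 (Prod.ext e1 e2)

include h5 ht in
theorem phiM_inj {m n : M} (hm : rdM m = true) (hn : rdM n = true) (h : phiM t m = phiM t n) : m = n := by
  simp only [rdM, Bool.and_eq_true] at hm hn
  obtain ⟨⟨a, b⟩, c⟩ := hm
  obtain ⟨⟨a', b'⟩, c'⟩ := hn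
  have e0 := phiV_inj t h5 ht a a' (congrFun h 0)
  have e1 := phiV_inj t h5 ht b b' (congrFun h 1)
  have e2 := phiV_inj t h5 ht c c' (congrFun h 2)
  exact Prod.ext e0 (Prod.ext e1 e2)

theorem vin_mem {v : V} {l : List V} (h : vin v l = true) : v ∈ l := by
  induction l with
  | nil => simp [vin] at h
  | cons w l ih =>
    simp only [vin, Bool.or_eq_true, decide_eq_true_eq] at h
    rcases h with h | h
    · rw [h]; exact List.mem_cons_self
    · exact List.mem_cons_of_mem _ (ih h)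

/-- the configuration -/
def Om (x : Fin 3 → F) : Prop := ∃ c : F, c ≠ 0 ∧ ∃ p ∈ pts, x = c • phiV t p

include h5 ht in
theorem phi_ne {c : K} (hc : rd c = true) (h : c ≠ (0, 0)) : phi t c ≠ 0 := by
  intro h0
  apply h
  apply phi_inj t h5 ht hc rfl
  rw [h0, phi_zero]

include h5 ht in
theorem chk_sound {m : M} (h : chk m = true) {x : Fin 3 → F} (hx : Om t x) : Om t (phiM t m *ᵥ x) := by
  obtain ⟨c, hc, p, hp, rfl⟩ := hx
  unfold chk at h
  rw [List.all_eq_true] at h
  have h1 := h p hp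
  dsimp only at h1
  simp only [Bool.and_eq_true, decide_eq_true_eq] at h1
  obtain ⟨⟨⟨h1, h2⟩, h3⟩, h4⟩ := h1
  refine ⟨c * phi t (fst (mv m p)), mul_ne_zero hc (phi_ne t h5 ht h4 h3), _, vin_mem h1, ?_⟩
  rw [Matrix.mulVec_smul, phi_mv t h5 ht, mul_smul, ← phiV_smul t h5 ht, h2]

theorem Om_smul {x : Fin 3 → F} {c : F} (hc : c ≠ 0) (hx : Om t x) : Om t (c • x) := by
  obtain ⟨d, hd, p, hp, rfl⟩ := hx
  exact ⟨c * d, mul_ne_zero hc hd, p, hp, by rw [mul_smul]⟩

include h5 ht in
theorem mult_sound {e v : V} (h : mult e v = true) : ∃ a : F, phiV t v = a • phiV t e := by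
  unfold mult at h
  split_ifs at h with h1
  · simp only [isz, decide_eq_true_eq] at h1
    refine ⟨0, ?_⟩
    rw [h1, zero_smul]
    ext i
    fin_cases i <;> simp [phiV, phi]
  · rw [decide_eq_true_eq] at h
    exact ⟨_, by rw [← phiV_smul t h5 ht, h]⟩

include h5 ht in
theorem main [Fintype F] (hF : Fintype.card F = 25) (htop : phi t om ^ 3 = 1) {G : Matrix (Fin 3) (Fin 3) F} (hG : G.det = 1)
    {x y : M} (hx : x ∈ R27) (hy : y ∈ R27) (hxG : phiM t x * G = G * phiM t Xm) (hyG : phiM t y * G = G * phiM t Ym)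
    {v : Fin 3 → F} (hv : Om t v) : Om t (G *ᵥ v) := by
  have hp : pair x y = true := List.all_eq_true.1 (List.all_eq_true.1 all_pairs x hx) y hy
  have hXY : phiM t Xm * phiM t Ym = phi t om • (phiM t Ym * phiM t Xm) := by
    rw [← phi_mm t h5 ht, ← phi_mm t h5 ht, ← phi_msmul t h5 ht]
    congr 1
  have hGu : IsUnit G := by rw [Matrix.isUnit_iff_isUnit_det, hG]; exact isUnit_one
  unfold pair at hp
  simp only [Bool.and_eq_true] at hp
  obtain ⟨⟨r1, r2⟩, hp⟩ := hp
  have hcomm : mm x y = msmul om (mm y x) := by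
    apply phiM_inj t h5 ht r1 r2
    rw [phi_msmul t h5 ht, phi_mm t h5 ht, phi_mm t h5 ht]
    apply hGu.mul_right_cancel
    rw [Matrix.mul_assoc, hyG, ← Matrix.mul_assoc, hxG, Matrix.mul_assoc, hXY, Matrix.smul_mul, Matrix.mul_assoc, hxG,
      ← Matrix.mul_assoc (phiM t y), hyG, Matrix.mul_assoc, Matrix.mul_smul]
  rw [if_pos hcomm] at hp
  simp only [Bool.and_eq_true] at hp
  obtain ⟨⟨⟨m0, m1⟩, m2⟩, hd⟩ := hp
  set P := madd U35C0.one (madd x (mm x x)) with hP
  set e := ecol P with he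
  set g := ofCols e (mv y e) (mv y (mv y e)) with hg
  have hPG : phiM t P * G = G * (1 + phiM t Xm + phiM t Xm * phiM t Xm) := by
    rw [hP, phi_madd t h5, phi_madd t h5, phi_Mone, phi_mm t h5 ht, Matrix.add_mul, Matrix.add_mul, Matrix.mul_add,
      Matrix.mul_add, Matrix.one_mul, Matrix.mul_one, Matrix.mul_assoc, hxG, ← Matrix.mul_assoc, hxG, Matrix.mul_assoc]
    abel
  obtain ⟨a0, k0⟩ := mult_sound t h5 ht m0
  obtain ⟨a1, k1⟩ := mult_sound t h5 ht m1
  obtain ⟨a2, k2⟩ := mult_sound t h5 ht m2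
  have h3 : (1 + phiM t Xm + phiM t Xm * phiM t Xm).col 0 = (3 : F) • (Pi.single 0 1 : Fin 3 → F) := by
    rw [← phi_mm t h5 ht]
    ext i
    fin_cases i
    · simp [Matrix.col, phiM, phiV, Xm, mm, ofCols, mv, dot, col0, col1, col2, kadd, kmul, phi, om]
      norm_num
    · simp [Matrix.col, phiM, phiV, Xm, mm, ofCols, mv, dot, col0, col1, col2, kadd, kmul, phi, om]
    · simp [Matrix.col, phiM, phiV, Xm, mm, ofCols, mv, dot, col0, col1, col2, kadd, kmul, phi, om]
  set u := G.col 0 with hu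
  have hGs : G *ᵥ (Pi.single 0 1) = u := by rw [Matrix.mulVec_single_one]
  have hPu : phiM t P *ᵥ u = (3 : F) • u := by
    have := congrArg (fun A : Matrix (Fin 3) (Fin 3) F => A.col 0) hPG
    simp only [mul_col] at this
    rw [h3, Matrix.mulVec_smul, hGs] at this
    exact this
  obtain ⟨lam, hlam⟩ : ∃ lam : F, u = lam • phiV t e := by
    refine ⟨2 * (u 0 * a0 + u 1 * a1 + u 2 * a2), ?_⟩
    have h4 : phiM t P *ᵥ u = (u 0 * a0 + u 1 * a1 + u 2 * a2) • phiV t e := by
      rw [Matrix.mulVec_eq_sum, Fin.sum_univ_three]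
      have c0 : (phiM t P).col 0 = a0 • phiV t e := by rw [phiM_col0]; exact k0
      have c1 : (phiM t P).col 1 = a1 • phiV t e := by rw [phiM_col1]; exact k1
      have c2 : (phiM t P).col 2 = a2 • phiV t e := by rw [phiM_col2]; exact k2
      change MulOpposite.op (u 0) • (phiM t P).col 0 + MulOpposite.op (u 1) • (phiM t P).col 1 +
        MulOpposite.op (u 2) • (phiM t P).col 2 = _
      rw [c0, c1, c2, op_smul_eq_smul, op_smul_eq_smul, op_smul_eq_smul, smul_smul, smul_smul, smul_smul, ← add_smul,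
        ← add_smul]
    rw [mul_smul, ← h4, hPu, smul_smul]
    have : (2 : F) * 3 = 1 := by linear_combination h5
    rw [this, one_smul]
  have hY0 : phiM t Ym *ᵥ (Pi.single 0 1) = (Pi.single 1 1 : Fin 3 → F) := by
    rw [Matrix.mulVec_single_one, phiM_col0]
    ext i; fin_cases i <;> simp [phiV, Ym, col0, phi]
  have hY1 : phiM t Ym *ᵥ (Pi.single 1 1) = (Pi.single 2 1 : Fin 3 → F) := by
    rw [Matrix.mulVec_single_one, phiM_col1]
    ext i; fin_cases i <;> simp [phiV, Ym, col1, phi]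
  have hc1 : G.col 1 = lam • phiV t (mv y e) := by
    have h4 : G *ᵥ (Pi.single 1 1) = G.col 1 := by rw [Matrix.mulVec_single_one]
    rw [← h4, ← hY0, Matrix.mulVec_mulVec, ← hyG, ← Matrix.mulVec_mulVec, hGs, hlam, Matrix.mulVec_smul, phi_mv t h5 ht]
  have hc2 : G.col 2 = lam • phiV t (mv y (mv y e)) := by
    have h4 : G *ᵥ (Pi.single 2 1) = G.col 2 := by rw [Matrix.mulVec_single_one]
    have h6 : G *ᵥ (Pi.single 1 1) = G.col 1 := by rw [Matrix.mulVec_single_one]
    rw [← h4, ← hY1, Matrix.mulVec_mulVec, ← hyG, ← Matrix.mulVec_mulVec, h6, hc1, Matrix.mulVec_smul, phi_mv t h5 ht]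
  have hGg : G = lam • phiM t g := by
    apply ext_col
    · change u = lam • (phiM t g).col 0
      rw [phiM_col0, hg, col0_ofCols, hlam]
    · change G.col 1 = lam • (phiM t g).col 1
      rw [phiM_col1, hg, col1_ofCols, hc1]
    · change G.col 2 = lam • (phiM t g).col 2
      rw [phiM_col2, hg, col2_ofCols, hc2]
  have hdet : lam ^ 3 * phi t (kdet g) = 1 := by
    have := hG
    rw [hGg, Matrix.det_smul, phi_det t h5 ht, Fintype.card_fin] at this
    exact this
  have hlam0 : lam ≠ 0 := by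
    rintro rfl
    rw [zero_pow (by norm_num), zero_mul] at hdet
    exact zero_ne_one hdet
  have h24 : ∀ z : F, z ≠ 0 → z ^ 24 = 1 := by
    intro z hz
    have := FiniteField.pow_card_sub_one_eq_one z hz
    rwa [hF] at this
  have hd8 : kpow (kdet g) 8 = (1, 0) := by
    have hr : ∀ (c : K) (n : ℕ), rd (kpow c n) = true := by
      intro c n
      cases n with
      | zero => rfl
      | succ n => simp [kpow, kmul, rd, Nat.mod_lt]
    apply phi_inj t h5 ht (hr _ _) rfl
    rw [phi_kpow t h5 ht, phi_one]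
    have h6 : lam ^ 24 * phi t (kdet g) ^ 8 = 1 := by
      calc lam ^ 24 * phi t (kdet g) ^ 8 = (lam ^ 3 * phi t (kdet g)) ^ 8 := by ring
        _ = 1 := by rw [hdet, one_pow]
    rwa [h24 lam hlam0, one_mul] at h6
  have hchk : chk g = true := by
    rw [Bool.or_eq_true] at hd
    rcases hd with h | h
    · rw [decide_eq_true_eq] at h
      exact absurd hd8 h
    · exact h
  rw [hGg, Matrix.smul_mulVec]
  exact Om_smul t hlam0 (chk_sound t h5 ht hchk hv)

end H42.U35C1
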