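import Mathlib
import Cfsg.Agent.Lib.H97.AschHex2
import Cfsg.Agent.Lib.H97.AschFive2
import Cfsg.Agent.Lib.H42.U35C1

/-!
Extraspecial subgroups of order 27 of the three-dimensional unitary group over the field with 25 elements: the frame.
-/

set_option autoImplicit false
set_option linter.unusedSectionVars false
set_option linter.unusedVariables false
set_option linter.unusedSimpArgs false
set_option maxHeartbeats 1000000

namespace H42.U35C2

open Cfsg Cfsg.Geo Matrix H97.AschRad H97.AschEnv H97.AschNonab H97.AschGrp H97.AschLinear H97.AschIdem H97.AschDecomp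
open H97.AschForm H97.AschSubfield H97.AschReal H97.AschNCU H97.AschUSymp H97.AschUPair H97.AschUElim H97.AschPauli
open H97.AschCases H97.AschNC H97.AschHex
open H96.AschSympType1 H96.AschSympType2 H96.AschSympType3 H96.AschSubForm H96.AschSympType5 H96.AschAdj
open H96.AschComm H96.AschField H96.AschSympEx
open H96.AschSp H96.AschSp2 H96.AschSU H96.AschSU2 H96.AschOdd2 H96.AschDescent H96.AschSU3

variable {F : Type*} [Field F] [Fintype F] {q : ℕ} {σ : F ≃+* F}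

lemma exp_three {R : Subgroup (GL (Fin 3) F)} (h1 : IsSymplecticTypeGroup 3 R) : ∀ z ∈ R, z ^ 3 = 1 := by
  intro z hz
  have h2 : Monoid.exponent R = 3 := by rw [h1.exponent_eq]; rfl
  have h3 := Monoid.pow_exponent_eq_one (⟨z, hz⟩ : R)
  rw [h2] at h3
  exact congrArg Subtype.val h3

lemma five_zero (h : Ctx (F := F) σ 3 q) (hq : q = 5) : (5 : F) = 0 := by
  have hF : Fintype.card F = 25 := by rw [h.card, hq]; norm_num
  have h1 : ((25 : ℕ) : F) = 0 := by rw [← hF]; exact FiniteField.cast_card_eq_zero F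
  have h2 : (5 : F) * 5 = 0 := by
    have : (5 : F) * 5 = ((25 : ℕ) : F) := by push_cast; norm_num
    rw [this, h1]
  exact mul_self_eq_zero.mp h2

lemma le_GU (h : Ctx (F := F) σ 3 q) (hq : q = 5) {R : Subgroup (GL (Fin 3) F)} (h1 : IsSymplecticTypeGroup 3 R)
    (h3 : R ≤ similarityGroup (hermForm 3 F q)) : R ≤ GU 3 F q := by
  intro z hz
  obtain ⟨μ, hμ⟩ := h3 hz
  have hz3 := exp_three h1 z hz
  obtain ⟨v, hv⟩ : ∃ v : Fin 3 → F, v ≠ 0 := ⟨fun _ => 1, fun h0 => one_ne_zero (congrFun h0 0)⟩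
  obtain ⟨u, hu⟩ := h.form.nd v hv
  have hf3 : ∀ u v, hermForm 3 F q u v = (μ : F) * ((μ : F) * ((μ : F) * hermForm 3 F q u v)) := by
    intro u v
    have e : ∀ w : Fin 3 → F, (z : Matrix (Fin 3) (Fin 3) F) *ᵥ ((z : Matrix (Fin 3) (Fin 3) F) *ᵥ
        ((z : Matrix (Fin 3) (Fin 3) F) *ᵥ w)) = w := by
      intro w
      rw [Matrix.mulVec_mulVec, Matrix.mulVec_mulVec, ← Units.val_mul, ← Units.val_mul]
      have : z * z * z = 1 := by rw [← hz3, pow_succ, pow_two]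
      rw [this, Units.val_one, Matrix.one_mulVec]
    conv_lhs => rw [← e u, ← e v]
    rw [hμ, hμ, hμ]
  have hμ3 : (μ : F) ^ 3 = 1 := by
    have h4 := hf3 v u
    have h5 : ((μ : F) ^ 3 - 1) * hermForm 3 F q v u = 0 := by linear_combination -h4
    exact sub_eq_zero.mp ((mul_eq_zero.mp h5).resolve_right hu)
  have hμσ : σ (μ : F) = μ := by
    have h4 := h.form.herm ((z : Matrix (Fin 3) (Fin 3) F) *ᵥ v) ((z : Matrix (Fin 3) (Fin 3) F) *ᵥ u)
    rw [hμ, hμ, map_mul, one_mul, h.form.herm v u, one_mul] at h4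
    have h5 : σ (hermForm 3 F q u v) ≠ 0 := by
      have := h.form.herm v u
      rw [one_mul] at this
      rw [← this]; exact hu
    exact (mul_right_cancel₀ h5 h4).symm
  have h5 : (μ : F) ^ 5 = μ := by
    rw [h.val, hq] at hμσ; exact hμσ
  have hμ1 : (μ : F) = 1 := by
    have hμ0 : (μ : F) ≠ 0 := μ.ne_zero
    have h6 : (μ : F) ^ 2 = μ := by
      calc (μ : F) ^ 2 = (μ : F) ^ 3 * (μ : F) ^ 2 := by rw [hμ3, one_mul]
        _ = (μ : F) ^ 5 := by ring
        _ = (μ : F) := h5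
    have h7 : (μ : F) * (μ - 1) = 0 := by linear_combination h6
    exact sub_eq_zero.mp ((mul_eq_zero.mp h7).resolve_left hμ0)
  intro u v
  have := hμ u v
  rw [hμ1, one_mul] at this
  exact this

/-- non-commuting pair, with scalar commutator -/
lemma exists_pair {R : Subgroup (GL (Fin 3) F)} (h1 : IsSymplecticTypeGroup 3 R)
    (h2 : ActsAbsolutelyIrreducibly (matrixSet R)) (h4 : Nat.card R = 27) (h5 : Nat.card (Subgroup.center R) = 3) :
    ∃ x ∈ R, ∃ y ∈ R, ∃ z ∈ R, ∃ c : F, c ^ 3 = 1 ∧ c ≠ 1 ∧ (z : Matrix (Fin 3) (Fin 3) F) = c • 1 ∧ x * y = z * (y * x) := by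
  classical
  have hfin : Finite R := Nat.finite_of_card_ne_zero (by rw [h4]; norm_num)
  have hnc : ∃ x y : R, x * y ≠ y * x := by
    by_contra hno
    push Not at hno
    have : Subgroup.center R = ⊤ := by
      rw [eq_top_iff]
      intro x _
      rw [Subgroup.mem_center_iff]
      intro g
      exact hno g x
    rw [this, Subgroup.card_top, h4] at h5
    norm_num at h5
  have hq9 : Nat.card (R ⧸ Subgroup.center R) = 3 ^ 2 := by
    have := Subgroup.card_eq_card_quotient_mul_card_subgroup (Subgroup.center R)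
    rw [h4, h5] at this
    omega
  have _ : Fact (Nat.Prime 3) := ⟨by norm_num⟩
  have hcomm := IsPGroup.commutative_of_card_eq_prime_sq hq9
  obtain ⟨x, y, hxy⟩ := hnc
  have hz : x * y * (y * x)⁻¹ ∈ Subgroup.center R := by
    have h6 : (QuotientGroup.mk (y * x)⁻¹ : R ⧸ Subgroup.center R) = QuotientGroup.mk (x * y)⁻¹ := by
      rw [QuotientGroup.mk_inv, QuotientGroup.mk_inv, QuotientGroup.mk_mul, QuotientGroup.mk_mul, hcomm]
    rw [← QuotientGroup.eq_one_iff, QuotientGroup.mk_mul, h6, QuotientGroup.mk_inv, mul_inv_cancel]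
  set z := x * y * (y * x)⁻¹ with hzd
  obtain ⟨c, hc⟩ := h2.2 ((z : GL (Fin 3) F) : Matrix (Fin 3) (Fin 3) F) (by
    rintro s ⟨g, hg, rfl⟩
    have h6 := (Subgroup.mem_center_iff.mp hz) ⟨g, hg⟩
    have h7 := congrArg Subtype.val h6
    have h8 := congrArg (fun g : GL (Fin 3) F => (g : Matrix (Fin 3) (Fin 3) F)) h7
    exact h8.symm)
  refine ⟨x, x.2, y, y.2, z, z.2, c, ?_, ?_, hc, ?_⟩
  · have h6 := exp_three h1 z z.2
    have h7 := congrArg (fun g : GL (Fin 3) F => (g : Matrix (Fin 3) (Fin 3) F)) h6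
    simp only [Units.val_pow_eq_pow_val, Units.val_one] at h7
    rw [hc, smul_pow, one_pow] at h7
    have h8 := congrFun (congrFun h7 0) 0
    simpa using h8
  · rintro rfl
    apply hxy
    have h6 : (z : GL (Fin 3) F) = 1 := by
      apply Units.ext
      rw [hc, one_smul, Units.val_one]
    have h7 : z = 1 := Subtype.ext h6
    rw [hzd] at h7
    exact mul_inv_eq_one.mp h7
  · have h6 : x * y = z * (y * x) := by rw [hzd, inv_mul_cancel_right]
    exact congrArg Subtype.val h6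

/-- the frame -/
lemma exists_frame (h : Ctx (F := F) σ 3 q) (hq : q = 5) {A B : GL (Fin 3) F} (hA : A ∈ GU 3 F q) (hB : B ∈ GU 3 F q)
    (hA3 : A ^ 3 = 1) (hB3 : B ^ 3 = 1) {c : F} (hc3 : c ^ 3 = 1) (hc1 : c ≠ 1)
    (hAB : (A : Matrix (Fin 3) (Fin 3) F) * B = c • ((B : Matrix (Fin 3) (Fin 3) F) * A)) :
    ∃ w : Fin 3 → (Fin 3 → F), (∀ i j, hermForm 3 F q (w i) (w j) = if i = j then 1 else 0) ∧
      (A : Matrix (Fin 3) (Fin 3) F) *ᵥ w 0 = w 0 ∧ (A : Matrix (Fin 3) (Fin 3) F) *ᵥ w 1 = c • w 1 ∧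
      (A : Matrix (Fin 3) (Fin 3) F) *ᵥ w 2 = (c * c) • w 2 ∧
      (B : Matrix (Fin 3) (Fin 3) F) *ᵥ w 0 = w 1 ∧ (B : Matrix (Fin 3) (Fin 3) F) *ᵥ w 1 = w 2 ∧
      (B : Matrix (Fin 3) (Fin 3) F) *ᵥ w 2 = w 0 := by
  have hS := h.form.sesq
  have h5 := five_zero h hq
  have hcc : c * c + c + 1 = 0 := by
    have : (c - 1) * (c * c + c + 1) = 0 := by linear_combination hc3
    exact (mul_eq_zero.mp this).resolve_left (sub_ne_zero.mpr hc1)
  have h3 : (3 : F) ≠ 0 := by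
    intro h3
    have : (1 : F) = 0 := by linear_combination 2 * h3 - h5
    exact one_ne_zero this
  have hσc : σ c = c * c := by
    rw [h.val, hq]; linear_combination (c * c) * hc3
  have hc0 : c ≠ 0 := by rintro rfl; norm_num at hc3
  obtain ⟨a, ha⟩ : ∃ a : Matrix (Fin 3) (Fin 3) F, a = (A : Matrix (Fin 3) (Fin 3) F) := ⟨_, rfl⟩
  obtain ⟨b, hb⟩ : ∃ b : Matrix (Fin 3) (Fin 3) F, b = (B : Matrix (Fin 3) (Fin 3) F) := ⟨_, rfl⟩
  rw [← ha, ← hb] at hAB ⊢
  have ha3 : a * a * a = 1 := by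
    rw [ha, ← Units.val_mul, ← Units.val_mul, ← pow_two, ← pow_succ, hA3, Units.val_one]
  have hb3 : b * b * b = 1 := by
    rw [hb, ← Units.val_mul, ← Units.val_mul, ← pow_two, ← pow_succ, hB3, Units.val_one]
  have hfA : ∀ u v, hermForm 3 F q (a *ᵥ u) (a *ᵥ v) = hermForm 3 F q u v := by rw [ha]; exact hA
  have hfB : ∀ u v, hermForm 3 F q (b *ᵥ u) (b *ᵥ v) = hermForm 3 F q u v := by rw [hb]; exact hB
  -- fixed vector
  have hP : ∃ v : Fin 3 → F, v + a *ᵥ v + a *ᵥ (a *ᵥ v) ≠ 0 := by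
    by_contra hno
    push Not at hno
    have hab : ∀ v, a *ᵥ (b *ᵥ v) = c • (b *ᵥ (a *ᵥ v)) := by
      intro v
      rw [Matrix.mulVec_mulVec, hAB, Matrix.smul_mulVec, Matrix.mulVec_mulVec]
    have e1 : ∀ v, b *ᵥ (v + c • (a *ᵥ v) + (c * c) • (a *ᵥ (a *ᵥ v))) = 0 := by
      intro v
      have := hno (b *ᵥ v)
      rw [hab, Matrix.mulVec_smul, hab, smul_smul] at this
      rw [Matrix.mulVec_add, Matrix.mulVec_add, Matrix.mulVec_smul, Matrix.mulVec_smul]
      exact this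
    have hbinj : ∀ v, b *ᵥ v = 0 → v = 0 := by
      intro v hv
      have : v = (b * b * b) *ᵥ v := by rw [hb3, Matrix.one_mulVec]
      rw [this, ← Matrix.mulVec_mulVec, hv, Matrix.mulVec_zero]
    have e2 : ∀ v, v + c • (a *ᵥ v) + (c * c) • (a *ᵥ (a *ᵥ v)) = 0 := fun v => hbinj _ (e1 v)
    have e3 : ∀ v, b *ᵥ (v + (c * c) • (a *ᵥ v) + (c * c * c * c) • (a *ᵥ (a *ᵥ v))) = 0 := by
      intro v
      have := e2 (b *ᵥ v)
      rw [hab, Matrix.mulVec_smul, hab, smul_smul, smul_smul, smul_smul] at this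
      rw [Matrix.mulVec_add, Matrix.mulVec_add, Matrix.mulVec_smul, Matrix.mulVec_smul]
      exact this
    have e4 : ∀ v, v + (c * c) • (a *ᵥ v) + (c * c * c * c) • (a *ᵥ (a *ᵥ v)) = 0 := fun v => hbinj _ (e3 v)
    have e5 : ∀ v : Fin 3 → F, (3 : F) • v = 0 := by
      intro v
      have k1 := hno v
      have k2 := e2 v
      have k3 := e4 v
      ext i
      have k1 := congrFun k1 i
      have k2 := congrFun k2 i
      have k3 := congrFun k3 i
      simp only [Pi.add_apply, Pi.smul_apply, smul_eq_mul, Pi.zero_apply] at k1 k2 k3 ⊢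
      linear_combination k1 + k2 + k3 - ((a *ᵥ v) i + (a *ᵥ (a *ᵥ v)) i) * hcc - c * ((a *ᵥ (a *ᵥ v)) i) * hc3
    have := congrFun (e5 (fun _ => 1)) 0
    simp only [Pi.smul_apply, smul_eq_mul, mul_one, Pi.zero_apply] at this
    exact h3 this
  obtain ⟨v, hv⟩ := hP
  set u := v + a *ᵥ v + a *ᵥ (a *ᵥ v) with hu
  have hau : a *ᵥ u = u := by
    rw [hu, Matrix.mulVec_add, Matrix.mulVec_add]
    have : a *ᵥ (a *ᵥ (a *ᵥ v)) = v := by
      rw [Matrix.mulVec_mulVec, Matrix.mulVec_mulVec, ha3, Matrix.one_mulVec]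
    rw [this]
    abel
  have hab : ∀ v, a *ᵥ (b *ᵥ v) = c • (b *ᵥ (a *ᵥ v)) := by
    intro v
    rw [Matrix.mulVec_mulVec, hAB, Matrix.smul_mulVec, Matrix.mulVec_mulVec]
  have hbbb : ∀ v, b *ᵥ (b *ᵥ (b *ᵥ v)) = v := by
    intro v
    rw [Matrix.mulVec_mulVec, Matrix.mulVec_mulVec, hb3, Matrix.one_mulVec]
  clear_value u
  -- key: orthogonality for any fixed vector
  have key : ∀ u, a *ᵥ u = u → hermForm 3 F q u (b *ᵥ u) = 0 ∧ hermForm 3 F q (b *ᵥ u) u = 0 := by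
    intro u hau
    have k1 := hfA u (b *ᵥ u)
    rw [hab, hau, hS.smul_right, hσc] at k1
    have k2 : (c * c - 1) * hermForm 3 F q u (b *ᵥ u) = 0 := by linear_combination k1
    have k3 : c * c - 1 ≠ 0 := by
      intro h0
      have : c = 1 := by linear_combination hc3 - c * h0
      exact hc1 this
    have k4 := (mul_eq_zero.mp k2).resolve_left k3
    refine ⟨k4, ?_⟩
    rw [h.form.herm, k4, map_zero, mul_zero]
  have hau1 : a *ᵥ (b *ᵥ u) = c • (b *ᵥ u) := by rw [hab, hau]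
  have hau2 : a *ᵥ (b *ᵥ (b *ᵥ u)) = (c * c) • (b *ᵥ (b *ᵥ u)) := by
    rw [hab, hau1, Matrix.mulVec_smul, smul_smul]
  obtain ⟨o1, o2⟩ := key u hau
  have o3 : hermForm 3 F q (b *ᵥ u) (b *ᵥ (b *ᵥ u)) = 0 := by rw [hfB]; exact o1
  have o4 : hermForm 3 F q (b *ᵥ (b *ᵥ u)) (b *ᵥ u) = 0 := by rw [hfB]; exact o2
  have o5 : hermForm 3 F q (b *ᵥ (b *ᵥ u)) u = 0 := by
    rw [← hfB, hbbb]; exact o1
  have o6 : hermForm 3 F q u (b *ᵥ (b *ᵥ u)) = 0 := by
    rw [← hfB, hbbb]; exact o2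
  have hd1 : hermForm 3 F q (b *ᵥ u) (b *ᵥ u) = hermForm 3 F q u u := hfB _ _
  have hd2 : hermForm 3 F q (b *ᵥ (b *ᵥ u)) (b *ᵥ (b *ᵥ u)) = hermForm 3 F q u u := by rw [hfB, hfB]
  have hbu0 : b *ᵥ u ≠ 0 := by
    intro h0
    apply hv
    rw [← hbbb u, h0, Matrix.mulVec_zero, Matrix.mulVec_zero]
  have hbbu0 : b *ᵥ (b *ᵥ u) ≠ 0 := by
    intro h0
    apply hv
    rw [← hbbb u, h0, Matrix.mulVec_zero]
  -- independence
  have hli : ∀ x : Fin 3 → F, ∑ j, x j • (![u, b *ᵥ u, b *ᵥ (b *ᵥ u)] : Fin 3 → (Fin 3 → F)) j = 0 → x = 0 := by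
    intro x hx
    have hx0 : x 0 • u + x 1 • (b *ᵥ u) + x 2 • (b *ᵥ (b *ᵥ u)) = 0 := by
      rw [Fin.sum_univ_three] at hx
      exact hx
    have hx1 : x 0 • u + (c * x 1) • (b *ᵥ u) + (c * c * x 2) • (b *ᵥ (b *ᵥ u)) = 0 := by
      have := congrArg (fun v => a *ᵥ v) hx0
      simp only [Matrix.mulVec_add, Matrix.mulVec_smul, Matrix.mulVec_zero, hau, hau1, hau2, smul_smul] at this
      rw [mul_comm c, mul_comm (c * c)]
      exact this
    have hx2 : x 0 • u + (c * c * x 1) • (b *ᵥ u) + (c * c * c * c * x 2) • (b *ᵥ (b *ᵥ u)) = 0 := by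
      have := congrArg (fun v => a *ᵥ v) hx1
      simp only [Matrix.mulVec_add, Matrix.mulVec_smul, Matrix.mulVec_zero, hau, hau1, hau2, smul_smul] at this
      rw [show c * c * x 1 = c * x 1 * c by ring, show c * c * c * c * x 2 = c * c * x 2 * (c * c) by ring]
      exact this
    have z0 : x 0 • u = 0 := by
      have : (3 : F) • (x 0 • u) = 0 := by
        ext i
        have k1 := congrFun hx0 i
        have k2 := congrFun hx1 i
        have k3 := congrFun hx2 i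
        simp only [Pi.add_apply, Pi.smul_apply, smul_eq_mul, Pi.zero_apply] at k1 k2 k3 ⊢
        linear_combination k1 + k2 + k3 - (x 1 * (b *ᵥ u) i + x 2 * (b *ᵥ (b *ᵥ u)) i) * hcc -
          c * x 2 * ((b *ᵥ (b *ᵥ u)) i) * hc3
      exact (smul_eq_zero.mp this).resolve_left h3
    have z1 : x 1 • (b *ᵥ u) = 0 := by
      have : (3 : F) • (x 1 • (b *ᵥ u)) = 0 := by
        ext i
        have k1 := congrFun hx0 i
        have k2 := congrFun hx1 i
        have k3 := congrFun hx2 i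
        simp only [Pi.add_apply, Pi.smul_apply, smul_eq_mul, Pi.zero_apply] at k1 k2 k3 ⊢
        linear_combination k1 + c * c * k2 + c * k3 - (x 0 * u i + x 2 * (b *ᵥ (b *ᵥ u)) i) * hcc -
          (2 * x 1 * ((b *ᵥ u) i) + (c + c * c) * x 2 * ((b *ᵥ (b *ᵥ u)) i)) * hc3
      exact (smul_eq_zero.mp this).resolve_left h3
    have z2 : x 2 • (b *ᵥ (b *ᵥ u)) = 0 := by
      rw [z0, z1, zero_add, zero_add] at hx0
      exact hx0
    have y0 := (smul_eq_zero.mp z0).resolve_right hv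
    have y1 := (smul_eq_zero.mp z1).resolve_right hbu0
    have y2 := (smul_eq_zero.mp z2).resolve_right hbbu0
    ext i
    fin_cases i
    · exact y0
    · exact y1
    · exact y2
  have huu : hermForm 3 F q u u ≠ 0 := by
    intro h0
    obtain ⟨Q, hQ⟩ := exists_cols hli
    obtain ⟨x, hx⟩ := h.form.nd u hv
    apply hx
    have h6 : x = (Q : Matrix (Fin 3) (Fin 3) F) *ᵥ (((Q⁻¹ : GL (Fin 3) F) : Matrix (Fin 3) (Fin 3) F) *ᵥ x) := by
      rw [Matrix.mulVec_mulVec, Units.mul_inv, Matrix.one_mulVec]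
    rw [h6, hQ, Fin.sum_univ_three, hS.add_right, hS.add_right, hS.smul_right, hS.smul_right, hS.smul_right]
    change _ * hermForm 3 F q u u + _ * hermForm 3 F q u (b *ᵥ u) + _ * hermForm 3 F q u (b *ᵥ (b *ᵥ u)) = 0
    rw [h0, o1, o6]; ring
  have hσu : σ (hermForm 3 F q u u)⁻¹ = (hermForm 3 F q u u)⁻¹ := by
    rw [map_inv₀]
    have := h.form.herm u u
    rw [one_mul] at this
    rw [← this]
  obtain ⟨d, hd0, hd⟩ := h.norm (inv_ne_zero huu) hσu
  have hdd : ∀ v w, hermForm 3 F q (d • v) (d • w) = (hermForm 3 F q u u)⁻¹ * hermForm 3 F q v w := by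
    intro v w
    rw [hS.smul_left, hS.smul_right, ← hd]; ring
  refine ⟨![d • u, d • (b *ᵥ u), d • (b *ᵥ (b *ᵥ u))], ?_, ?_, ?_, ?_, ?_, ?_, ?_⟩
  · intro i j
    fin_cases i <;> fin_cases j <;>
      simp [hdd, o1, o2, o3, o4, o5, o6, hd1, hd2, huu, -Matrix.mulVec_mulVec]
  · change a *ᵥ (d • u) = d • u
    rw [Matrix.mulVec_smul, hau]
  · change a *ᵥ (d • (b *ᵥ u)) = c • (d • (b *ᵥ u))
    rw [Matrix.mulVec_smul, hau1, smul_comm]
  · change a *ᵥ (d • (b *ᵥ (b *ᵥ u))) = (c * c) • (d • (b *ᵥ (b *ᵥ u)))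
    rw [Matrix.mulVec_smul, hau2, smul_comm]
  · change b *ᵥ (d • u) = d • (b *ᵥ u)
    rw [Matrix.mulVec_smul]
  · change b *ᵥ (d • (b *ᵥ u)) = d • (b *ᵥ (b *ᵥ u))
    rw [Matrix.mulVec_smul]
  · change b *ᵥ (d • (b *ᵥ (b *ᵥ u))) = d • u
    rw [Matrix.mulVec_smul, hbbb]

end H42.U35C2
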