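import Mathlib
import Cfsg.Agent.Lib.H42.U35C2

/-!
The normaliser of an extraspecial group of order 27 is not maximal in the three-dimensional unitary group over the field
with 25 elements.
-/

set_option autoImplicit false
set_option linter.unusedSectionVars false
set_option linter.unusedVariables false
set_option linter.unusedSimpArgs false
set_option maxHeartbeats 1000000

namespace H42.U35C

open H42.U35C0 H42.U35C1 H42.U35C2
open Cfsg Cfsg.Geo Matrix H97.AschRad H97.AschEnv H97.AschNonab H97.AschGrp H97.AschLinear H97.AschIdem H97.AschDecomp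
open H97.AschForm H97.AschSubfield H97.AschReal H97.AschNCU H97.AschUSymp H97.AschUPair H97.AschUElim H97.AschPauli
open H97.AschCases H97.AschNC H97.AschHex
open H96.AschSympType1 H96.AschSympType2 H96.AschSympType3 H96.AschSubForm H96.AschSympType5 H96.AschAdj
open H96.AschComm H96.AschField H96.AschSympEx
open H96.AschSp H96.AschSp2 H96.AschSU H96.AschSU2 H96.AschOdd2 H96.AschDescent H96.AschSU3

theorem pts_rd : (pts.all fun p => rdV p) = true := by decide +kernel
theorem Xe_chk : ((List.range 3).all fun a => (List.range 3).all fun b => (List.range 3).all fun c =>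
    rdM (Xe a b c) && (List.range 3).all fun a' => (List.range 3).all fun b' => (List.range 3).all fun c' =>
    (decide (Xe a b c ≠ Xe a' b' c') || (decide (a = a') && decide (b = b') && decide (c = c')))) = true := by
  decide +kernel
theorem Xe_mem (p : Fin 3 × Fin 3 × Fin 3) : Xe p.1 p.2.1 p.2.2 ∈ R27 ∧ rdM (Xe p.1 p.2.1 p.2.2) = true := by
  constructor
  · unfold R27
    rw [List.mem_flatMap]
    refine ⟨(p.1 : ℕ), List.mem_range.2 p.1.2, ?_⟩
    rw [List.mem_flatMap]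
    refine ⟨(p.2.1 : ℕ), List.mem_range.2 p.2.1.2, ?_⟩
    rw [List.mem_map]
    exact ⟨(p.2.2 : ℕ), List.mem_range.2 p.2.2.2, rfl⟩
  · have h1 := List.all_eq_true.1 (List.all_eq_true.1 (List.all_eq_true.1 Xe_chk p.1 (List.mem_range.2 p.1.2)) p.2.1
      (List.mem_range.2 p.2.1.2)) p.2.2 (List.mem_range.2 p.2.2.2)
    rw [Bool.and_eq_true] at h1
    exact h1.1
theorem Xe_inj (p p' : Fin 3 × Fin 3 × Fin 3) (h : Xe p.1 p.2.1 p.2.2 = Xe p'.1 p'.2.1 p'.2.2) : p = p' := by
  have h1 := List.all_eq_true.1 (List.all_eq_true.1 (List.all_eq_true.1 Xe_chk p.1 (List.mem_range.2 p.1.2)) p.2.1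
      (List.mem_range.2 p.2.1.2)) p.2.2 (List.mem_range.2 p.2.2.2)
  rw [Bool.and_eq_true] at h1
  have h2 := List.all_eq_true.1 (List.all_eq_true.1 (List.all_eq_true.1 h1.2 p'.1 (List.mem_range.2 p'.1.2)) p'.2.1
      (List.mem_range.2 p'.2.1.2)) p'.2.2 (List.mem_range.2 p'.2.2.2)
  rw [Bool.or_eq_true, Bool.and_eq_true, Bool.and_eq_true, decide_eq_true_eq, decide_eq_true_eq, decide_eq_true_eq,
    decide_eq_true_eq] at h2
  rcases h2 with h2 | ⟨⟨a, b⟩, c⟩
  · exact absurd h h2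
  · exact Prod.ext (Fin.ext a) (Prod.ext (Fin.ext b) (Fin.ext c))
theorem sq_T0 : mm T0 T0 = U35C0.one := by decide +kernel
theorem rd_v0 : rdV ((1, 0), (4, 0), (3, 0)) = true := by decide +kernel
theorem v0_mem : (((1, 0), (1, 0), 2, 0) : V) ∈ pts := by decide +kernel

variable {F : Type*} [Field F] [Fintype F] {q : ℕ} {σ : F ≃+* F}

abbrev M3 (F : Type*) := Matrix (Fin 3) (Fin 3) F

section transfer

variable (t : F) (h5 : (5 : F) = 0) (ht : t * t = 2)

include h5 ht in
theorem phi_mpow (m : M) (n : ℕ) : phiM t (mpow m n) = phiM t m ^ n := by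
  induction n with
  | zero => rw [pow_zero]; exact phi_Mone t
  | succ n ih => rw [pow_succ, ← ih, ← phi_mm t h5 ht]; rfl

include h5 in
theorem phi_conj (hσt : σ t = -t) (x : K) : phi t (kconj x) = σ (phi t x) := by
  simp only [phi, kconj, cast_mod h5]
  rw [map_add, map_mul, map_natCast, map_natCast, hσt]
  push_cast
  linear_combination (x.2 : F) * t * h5

include h5 in
theorem phi_star (hσt : σ t = -t) (m : M) : phiM t (mstar m) = ((phiM t m).map σ)ᵀ := by
  ext i j
  fin_cases i <;> fin_cases j <;> exact phi_conj t h5 hσt _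

/-- the stabiliser of the configuration -/
def stab0 : Subgroup (GL (Fin 3) F) where
  carrier := {g | ∀ v, Om t ((g : M3 F) *ᵥ v) ↔ Om t v}
  one_mem' := fun v => by rw [Units.val_one, Matrix.one_mulVec]
  mul_mem' := by
    intro a b ha hb v
    rw [Units.val_mul, ← Matrix.mulVec_mulVec, ha, hb]
  inv_mem' := by
    intro a ha v
    have h1 := ha (((a⁻¹ : GL (Fin 3) F) : M3 F) *ᵥ v)
    rw [Matrix.mulVec_mulVec, ← Units.val_mul, mul_inv_cancel, Units.val_one, Matrix.one_mulVec] at h1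
    exact h1.symm

include h5 ht in
theorem not_Om : ¬ Om t (phiV t ((1, 0), (4, 0), (3, 0))) := by
  rintro ⟨c, hc, p, hp, he⟩
  have h1 := List.all_eq_true.1 not_T0 p hp
  have h2 := List.all_eq_true.1 pts_rd p hp
  simp only [Bool.and_eq_true, Bool.or_eq_true, decide_eq_true_eq] at h1
  obtain ⟨⟨-, h3⟩, h4⟩ := h1
  have e0 : phi t (1, 0) = c * phi t p.1 := congrFun he 0
  rw [phi_one] at e0
  rcases h4 with h4 | h4
  · rw [h4, phi_zero, mul_zero] at e0
    exact one_ne_zero e0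
  · rw [h4, phi_one, mul_one] at e0
    rw [← e0, one_smul] at he
    have h6 := phiV_inj t h5 ht rd_v0 h2 he
    rcases h3 with (h3 | h3) | h3
    · exact h3 (congrArg (fun v : V => v.1) h6).symm
    · exact h3 (congrArg (fun v : V => v.2.1) h6).symm
    · exact h3 (congrArg (fun v : V => v.2.2) h6).symm

end transfer

/-- elements given in the frame -/
theorem exists_elt (h : Ctx (F := F) σ 3 q) {t : F} (h5 : (5 : F) = 0) (ht : t * t = 2) (hσt : σ t = -t)
    {w : Fin 3 → (Fin 3 → F)} (hww : ∀ i j, hermForm 3 F q (w i) (w j) = if i = j then 1 else 0)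
    {Q : GL (Fin 3) F} (hQ : ∀ x, (Q : M3 F) *ᵥ x = ∑ j, x j • w j) {m : M} (hm : mm m m = U35C0.one)
    (hu : mm (mstar m) m = U35C0.one) (hd : kdet m = (1, 0)) :
    ∃ U : GL (Fin 3) F, (U : M3 F) = phiM t m ∧ U * U = 1 ∧ Q * U * Q⁻¹ ∈ GU 3 F q ⊓ specialLinear (Fin 3) F := by
  have hS := h.form.sesq
  have h1 : phiM t m * phiM t m = 1 := by rw [← phi_mm t h5 ht, hm, phi_Mone]
  let U : GL (Fin 3) F := ⟨phiM t m, phiM t m, h1, h1⟩
  have hU : (U : M3 F) = phiM t m := rfl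
  refine ⟨U, rfl, Units.ext h1, ?_, ?_⟩
  · have hform : ∀ a b : Fin 3 → F, hermForm 3 F q ((Q : M3 F) *ᵥ a) ((Q : M3 F) *ᵥ b) = a ⬝ᵥ (fun i => σ (b i)) := by
      intro a b
      rw [hQ, hQ, hS.sum_left, dotProduct]
      refine Finset.sum_congr rfl (fun i _ => ?_)
      rw [hS.smul_left, hS.sum_right, Finset.sum_eq_single i]
      · rw [hS.smul_right, hww, if_pos rfl, mul_one]
      · intro k _ hk
        rw [hS.smul_right, hww, if_neg (Ne.symm hk), mul_zero]
      · intro h; exact absurd (Finset.mem_univ _) h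
    have h2 : ((phiM t m).map σ)ᵀ * phiM t m = 1 := by
      rw [← phi_star t h5 hσt, ← phi_mm t h5 ht, hu, phi_Mone]
    have h3 : (phiM t m)ᵀ * (phiM t m).map σ = 1 := by
      have := congrArg Matrix.transpose h2
      rw [Matrix.transpose_mul, Matrix.transpose_transpose, Matrix.transpose_one] at this
      exact this
    have key : ∀ a b : Fin 3 → F, hermForm 3 F q ((Q : M3 F) *ᵥ (phiM t m *ᵥ a)) ((Q : M3 F) *ᵥ (phiM t m *ᵥ b)) =
        hermForm 3 F q ((Q : M3 F) *ᵥ a) ((Q : M3 F) *ᵥ b) := by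
      intro a b
      rw [hform, hform]
      have e : (fun i => σ ((phiM t m *ᵥ b) i)) = (phiM t m).map σ *ᵥ (fun i => σ (b i)) := by
        ext i
        simp only [Matrix.mulVec, dotProduct, map_sum, map_mul, Matrix.map_apply]
      rw [e, Matrix.dotProduct_mulVec, ← Matrix.mulVec_transpose, Matrix.mulVec_mulVec]
      have h4 : ((phiM t m).map σ)ᵀ * phiM t m = 1 := h2
      rw [h4, Matrix.one_mulVec]
    intro u v
    have hu1 : ∀ u : Fin 3 → F, ((Q * U * Q⁻¹ : GL (Fin 3) F) : M3 F) *ᵥ u =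
        (Q : M3 F) *ᵥ (phiM t m *ᵥ (((Q⁻¹ : GL (Fin 3) F) : M3 F) *ᵥ u)) := by
      intro u
      rw [Units.val_mul, Units.val_mul, ← Matrix.mulVec_mulVec, ← Matrix.mulVec_mulVec, hU]
    change hermForm 3 F q (((Q * U * Q⁻¹ : GL (Fin 3) F) : M3 F) *ᵥ u) (((Q * U * Q⁻¹ : GL (Fin 3) F) : M3 F) *ᵥ v) = _
    rw [hu1, hu1, key, Matrix.mulVec_mulVec, Matrix.mulVec_mulVec, ← Units.val_mul, mul_inv_cancel, Units.val_one,
      Matrix.one_mulVec, Matrix.one_mulVec]
  · have hdU : U ∈ specialLinear (Fin 3) F := by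
      rw [H97.AschFive2.mem_SL, hU, phi_det t h5 ht, hd, phi_one]
    change Matrix.GeneralLinearGroup.det (Q * U * Q⁻¹) = 1
    have : Matrix.GeneralLinearGroup.det U = 1 := hdU
    rw [map_mul, map_mul, this, mul_one, ← map_mul, mul_inv_cancel, map_one]

/-- **the normaliser of an extraspecial group of order 27 is not maximal** -/
theorem no_type (h : Ctx (F := F) σ 3 q) (hq : q = 5) {R : Subgroup (GL (Fin 3) F)} (h1 : IsSymplecticTypeGroup 3 R)
    (h2 : ActsAbsolutelyIrreducibly (matrixSet R)) (h3 : R ≤ similarityGroup (hermForm 3 F q))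
    (h4 : Nat.card R = 27) (h5 : Nat.card (Subgroup.center R) = 3) {H : Subgroup (GL (Fin 3) F)}
    (hH : IsMaximalIn (GU 3 F q ⊓ specialLinear (Fin 3) F) H) (hle : H ≤ subgroupNormalizer R) : False := by
  classical
  have h50 := five_zero h hq
  have hF : Fintype.card F = 25 := by rw [h.card, hq]; norm_num
  have hRG := le_GU h hq h1 h3
  have hR3 := exp_three h1
  obtain ⟨x, hx, y, hy, z, hz, c, hc3, hc1, hzc, hxy⟩ := exists_pair h1 h2 h4 h5
  have hcc : c * c + c + 1 = 0 := by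
    have : (c - 1) * (c * c + c + 1) = 0 := by linear_combination hc3
    exact (mul_eq_zero.mp this).resolve_left (sub_ne_zero.mpr hc1)
  have hσc : σ c = c * c := by
    rw [h.val, hq]; linear_combination (c * c) * hc3
  have hxyM : (x : M3 F) * y = c • ((y : M3 F) * x) := by
    rw [← Units.val_mul, hxy, Units.val_mul, hzc, Matrix.smul_mul, Matrix.one_mul, Units.val_mul]
  obtain ⟨w, hww, x0, x1, x2, y0, y1, y2⟩ := exists_frame h hq (hRG hx) (hRG hy) (hR3 x hx) (hR3 y hy) hc3 hc1 hxyM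
  obtain ⟨Q, hQ⟩ := exists_cols (frame_li h hww)
  obtain ⟨t, ht0⟩ : ∃ t : F, t = c - c * c := ⟨_, rfl⟩
  have ht : t * t = 2 := by
    rw [ht0]; linear_combination (c - 2) * hc3 + hcc - h50
  have hσt : σ t = -t := by
    rw [ht0, map_sub, map_mul, hσc]; linear_combination -c * hc3
  have hom : phi t om = c := by
    simp only [phi, om]
    rw [ht0]
    push_cast
    linear_combination -3 * hcc + (1 + c) * h50
  -- columns
  have hQc : ∀ j, (Q : M3 F) *ᵥ (Pi.single j 1) = w j := by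
    intro j
    rw [hQ, Finset.sum_eq_single j]
    · rw [Pi.single_eq_same, one_smul]
    · intro k _ hk
      rw [Pi.single_eq_of_ne hk, zero_smul]
    · intro h; exact absurd (Finset.mem_univ _) h
  have hQcol : ∀ j, (Q : M3 F).col j = w j := by
    intro j
    rw [← hQc, Matrix.mulVec_single_one]
  have hxQ : (x : M3 F) * Q = Q * phiM t Xm := by
    apply U35C1.ext_col
    · rw [mul_col, mul_col, hQcol, x0, phiM_col0, hQ, Fin.sum_univ_three]
      ext i
      simp [phiV, Xm, col0, phi]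
    · rw [mul_col, mul_col, hQcol, x1, phiM_col1, hQ, Fin.sum_univ_three]
      have : phiV t (col1 Xm) = ![0, c, 0] := by
        ext i
        fin_cases i
        · simp [phiV, Xm, col1, phi]
        · exact hom
        · simp [phiV, Xm, col1, phi]
      rw [this]
      ext i
      simp
    · rw [mul_col, mul_col, hQcol, x2, phiM_col2, hQ, Fin.sum_univ_three]
      have : phiV t (col2 Xm) = ![0, 0, c * c] := by
        ext i
        fin_cases i
        · simp [phiV, Xm, col2, phi]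
        · simp [phiV, Xm, col2, phi]
        · change phi t (kmul om om) = c * c
          rw [phi_mul t h50 ht, hom]
      rw [this]
      ext i
      simp
  have hyQ : (y : M3 F) * Q = Q * phiM t Ym := by
    apply U35C1.ext_col
    · rw [mul_col, mul_col, hQcol, y0, phiM_col0, hQ, Fin.sum_univ_three]
      ext i
      simp [phiV, Ym, col0, phi]
    · rw [mul_col, mul_col, hQcol, y1, phiM_col1, hQ, Fin.sum_univ_three]
      ext i
      simp [phiV, Ym, col1, phi]
    · rw [mul_col, mul_col, hQcol, y2, phiM_col2, hQ, Fin.sum_univ_three]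
      ext i
      simp [phiV, Ym, col2, phi]
  -- all elements of R
  have hpow : ∀ (g : GL (Fin 3) F) (m : M), (g : M3 F) * Q = Q * phiM t m → ∀ n : ℕ,
      ((g ^ n : GL (Fin 3) F) : M3 F) * Q = Q * phiM t m ^ n := by
    intro g m hg n
    induction n with
    | zero => rw [pow_zero, pow_zero, Units.val_one, Matrix.one_mul, Matrix.mul_one]
    | succ n ih =>
      rw [pow_succ, pow_succ, Units.val_mul, Matrix.mul_assoc, hg, ← Matrix.mul_assoc, ih, Matrix.mul_assoc]
  have hzn : ∀ n : ℕ, ((z ^ n : GL (Fin 3) F) : M3 F) = c ^ n • (1 : M3 F) := by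
    intro n
    rw [Units.val_pow_eq_pow_val, hzc, smul_pow, one_pow]
  have helt : ∀ p : Fin 3 × Fin 3 × Fin 3, ((z ^ (p.1 : ℕ) * (x ^ (p.2.1 : ℕ) * y ^ (p.2.2 : ℕ)) : GL (Fin 3) F) : M3 F) * Q =
      Q * phiM t (Xe p.1 p.2.1 p.2.2) := by
    intro p
    rw [Units.val_mul, hzn, Matrix.smul_mul, Matrix.one_mul, Units.val_mul, Matrix.smul_mul, Matrix.mul_assoc, hpow y Ym hyQ,
      ← Matrix.mul_assoc, hpow x Xm hxQ, Matrix.mul_assoc]
    unfold Xe
    rw [phi_msmul t h50 ht, phi_mm t h50 ht, phi_kpow t h50 ht, hom, phi_mpow t h50 ht, phi_mpow t h50 ht, Matrix.mul_smul]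
  have hRe : ∀ g ∈ R, ∃ r ∈ R27, rdM r = true ∧ (g : M3 F) * Q = Q * phiM t r := by
    let φ : Fin 3 × Fin 3 × Fin 3 → R := fun p => ⟨z ^ (p.1 : ℕ) * (x ^ (p.2.1 : ℕ) * y ^ (p.2.2 : ℕ)),
      R.mul_mem (R.pow_mem hz _) (R.mul_mem (R.pow_mem hx _) (R.pow_mem hy _))⟩
    have hφ : Function.Injective φ := by
      intro p p' hpp
      have e1 := congrArg (fun g : R => ((g : GL (Fin 3) F) : M3 F) * Q) hpp
      have e2 : (Q : M3 F) * phiM t (Xe p.1 p.2.1 p.2.2) = Q * phiM t (Xe p'.1 p'.2.1 p'.2.2) := by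
        rw [← helt, ← helt]; exact e1
      have e3 := Q.isUnit.mul_left_cancel e2
      exact Xe_inj _ _ (phiM_inj t h50 ht (Xe_mem p).2 (Xe_mem p').2 e3)
    have hfin : Finite R := Nat.finite_of_card_ne_zero (by rw [h4]; norm_num)
    have hcard : Nat.card (Fin 3 × Fin 3 × Fin 3) = Nat.card R := by
      rw [h4]; simp
    have hbij := (Nat.bijective_iff_injective_and_card φ).mpr ⟨hφ, hcard⟩
    intro g hg
    obtain ⟨p, hp⟩ := hbij.2 ⟨g, hg⟩
    refine ⟨_, (Xe_mem p).1, (Xe_mem p).2, ?_⟩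
    rw [← helt]
    have := congrArg (fun g : R => ((g : GL (Fin 3) F) : M3 F)) hp
    have h6 : ((z ^ (p.1 : ℕ) * (x ^ (p.2.1 : ℕ) * y ^ (p.2.2 : ℕ)) : GL (Fin 3) F) : M3 F) = (g : M3 F) := this
    rw [h6]
  -- the stabiliser
  set St : Subgroup (GL (Fin 3) F) := (stab0 t).comap (MulAut.conj Q⁻¹).toMonoidHom with hSt
  have hmem : ∀ g, g ∈ St ↔ Q⁻¹ * g * Q ∈ stab0 t := by
    intro g
    rw [hSt, Subgroup.mem_comap]
    change Q⁻¹ * g * Q⁻¹⁻¹ ∈ stab0 t ↔ _
    rw [inv_inv]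
  have hQQ : ((Q⁻¹ : GL (Fin 3) F) : M3 F) * Q = 1 := by rw [← Units.val_mul, inv_mul_cancel, Units.val_one]
  have hQQ' : (Q : M3 F) * ((Q⁻¹ : GL (Fin 3) F) : M3 F) = 1 := by rw [← Units.val_mul, mul_inv_cancel, Units.val_one]
  have hnorm : ∀ g ∈ subgroupNormalizer R, ∀ a ∈ R, g * a * g⁻¹ ∈ R := by
    intro g hg a ha
    exact (Subgroup.mem_normalizer_iff.mp hg a).mp ha
  have hHM : H ≤ St := by
    have key : ∀ g ∈ H, ∀ v, Om t v → Om t (((Q⁻¹ * g * Q : GL (Fin 3) F) : M3 F) *ᵥ v) := by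
      intro g hg v hv
      obtain ⟨r, hr, -, hre⟩ := hRe _ (hnorm g (hle hg) x hx)
      obtain ⟨s, hs, -, hse⟩ := hRe _ (hnorm g (hle hg) y hy)
      have hdet : ((Q⁻¹ * g * Q : GL (Fin 3) F) : M3 F).det = 1 := by
        have hd := H97.AschFive2.mem_SL.mp (hH.1.le hg).2
        rw [Units.val_mul, Units.val_mul, Matrix.det_mul, Matrix.det_mul, hd, mul_one, ← Matrix.det_mul, hQQ, Matrix.det_one]
      have aux : ∀ (a : GL (Fin 3) F) (r m : M), ((g * a * g⁻¹ : GL (Fin 3) F) : M3 F) * Q = Q * phiM t r →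
          (a : M3 F) * Q = Q * phiM t m →
          phiM t r * ((Q⁻¹ * g * Q : GL (Fin 3) F) : M3 F) = ((Q⁻¹ * g * Q : GL (Fin 3) F) : M3 F) * phiM t m := by
        intro a r m hr hm
        have e1 : phiM t r = ((Q⁻¹ : GL (Fin 3) F) : M3 F) * ((g * a * g⁻¹ : GL (Fin 3) F) : M3 F) * Q := by
          rw [Matrix.mul_assoc, hr, ← Matrix.mul_assoc, hQQ, Matrix.one_mul]
        have e2 : phiM t m = ((Q⁻¹ : GL (Fin 3) F) : M3 F) * (a : M3 F) * Q := by
          rw [Matrix.mul_assoc, hm, ← Matrix.mul_assoc, hQQ, Matrix.one_mul]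
        rw [e1, e2, ← Units.val_mul, ← Units.val_mul, ← Units.val_mul, ← Units.val_mul, ← Units.val_mul, ← Units.val_mul]
        congr 1
        group
      exact main t h50 ht hF (by rw [hom, hc3]) hdet hr hs (aux x r Xm hre hxQ) (aux y s Ym hse hyQ) hv
    intro g hg
    rw [hmem]
    intro v
    constructor
    · intro hv
      have h6 := key g⁻¹ (H.inv_mem hg) _ hv
      rw [Matrix.mulVec_mulVec, ← Units.val_mul] at h6
      have : Q⁻¹ * g⁻¹ * Q * (Q⁻¹ * g * Q) = 1 := by group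
      rwa [this, Units.val_one, Matrix.one_mulVec] at h6
    · exact key g hg v
  have hnot : ¬ GU 3 F q ⊓ specialLinear (Fin 3) F ≤ St := by
    intro hsub
    obtain ⟨U, hU, hUU, hUS⟩ := exists_elt h h50 ht hσt hww hQ sq_T0 uni_T0 det_T0
    have h6 := (hmem _).mp (hsub hUS)
    have h7 : Q⁻¹ * (Q * U * Q⁻¹) * Q = U := by group
    rw [h7] at h6
    have h8 : Om t (phiV t ((1, 0), (1, 0), 2, 0)) := ⟨1, one_ne_zero, _, v0_mem, by rw [one_smul]⟩
    have h9 := (h6 _).mpr h8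
    rw [hU, phi_mv t h50 ht, mv_T0] at h9
    exact not_Om t h50 ht h9
  have hHeq := eq_of_max hH hHM hnot
  obtain ⟨U, hU, hUU, hUS⟩ := exists_elt h h50 ht hσt hww hQ sq_S0 uni_S0 det_S0
  have hsH : Q * U * Q⁻¹ ∈ H := by
    rw [hHeq]
    refine ⟨?_, hUS⟩
    change Q * U * Q⁻¹ ∈ St
    rw [hmem]
    have h7 : Q⁻¹ * (Q * U * Q⁻¹) * Q = U := by group
    rw [h7]
    have k : ∀ v, Om t v → Om t ((U : M3 F) *ᵥ v) := by
      intro v hv
      rw [hU]
      exact chk_sound t h50 ht chk_S0 hv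
    intro v
    constructor
    · intro hv
      have := k _ hv
      rwa [Matrix.mulVec_mulVec, ← Units.val_mul, hUU, Units.val_one, Matrix.one_mulVec] at this
    · exact k v
  obtain ⟨r, hr, hrd, hre⟩ := hRe _ (hnorm _ (hle hsH) x hx)
  have e1 : phiM t r = phiM t (mm (mm S0 Xm) S0) := by
    have e2 : phiM t r = ((Q⁻¹ : GL (Fin 3) F) : M3 F) * ((Q * U * Q⁻¹ * x * (Q * U * Q⁻¹)⁻¹ : GL (Fin 3) F) : M3 F) * Q := by
      rw [Matrix.mul_assoc, hre, ← Matrix.mul_assoc, hQQ, Matrix.one_mul]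
    have e3 : phiM t Xm = ((Q⁻¹ : GL (Fin 3) F) : M3 F) * (x : M3 F) * Q := by
      rw [Matrix.mul_assoc, hxQ, ← Matrix.mul_assoc, hQQ, Matrix.one_mul]
    rw [phi_mm t h50 ht, phi_mm t h50 ht, e2, e3, ← hU, ← Units.val_mul, ← Units.val_mul, ← Units.val_mul, ← Units.val_mul,
      ← Units.val_mul, ← Units.val_mul]
    congr 1
    have hUi : U⁻¹ = U := inv_eq_of_mul_eq_one_left hUU
    calc Q⁻¹ * (Q * U * Q⁻¹ * x * (Q * U * Q⁻¹)⁻¹) * Q = U * (Q⁻¹ * x * Q) * U⁻¹ := by group
      _ = U * (Q⁻¹ * x * Q) * U := by rw [hUi]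
  have e4 := phiM_inj t h50 ht hrd rd_S0 e1
  have e5 := List.all_eq_true.1 not_S0 r hr
  simp only [Bool.and_eq_true, decide_eq_true_eq] at e5
  exact e5.1 e4.symm

end H42.U35C
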